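import Cfsg.Agent.Lib.SixInv.Fusion

/-!
Coordinates at a member, orbits inside a subgroup, and members with large centralisers.
-/

set_option autoImplicit false
set_option linter.unusedSectionVars false
set_option maxRecDepth 100000

namespace Cfsg.Agent.SixInv

open Subgroup

variable {G : Type*} [Group G] [Finite G]

/-- Coordinates at a member with prescribed Sylow subgroup. -/
theorem exists_frame_syl {t : G} (F : Fr t) {y : G} (hy : IsConj t y) {U : Subgroup G}
    (hU : U ≤ centralizer ({y} : Set G)) (hc : Nat.card U = 32) :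
    ∃ g, g * t * g⁻¹ = y ∧ ∀ x, x ∈ U ↔ g⁻¹ * x * g ∈ F.syl := by
  obtain ⟨γ, hγ⟩ := isConj_iff.1 hy
  have hI : Nat.card (centralizer ({y} : Set G)) ∣ 1440 := by
    rw [← hγ, (F.conj γ).card_centralizer]
  obtain ⟨c, hcI, hcS⟩ := sylow_conj hI hU
    (hγ ▸ conjImage_le F.syl_le : conjImage γ F.syl ≤ centralizer ({y} : Set G)) hc
    (by rw [card_conjImage, F.card_syl])
  refine ⟨c * γ, ?_, ?_⟩
  · calc c * γ * t * (c * γ)⁻¹ = c * (γ * t * γ⁻¹) * c⁻¹ := by group
      _ = c * y * c⁻¹ := by rw [hγ]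
      _ = y := by rw [mem_centralizer_singleton_iff.1 hcI, mul_inv_cancel_right]
  · have hle : conjImage (c * γ) F.syl ≤ U := by
      rintro _ ⟨s, hs, rfl⟩
      have := hcS (γ * s * γ⁻¹) ⟨s, hs, rfl⟩
      simp only [MulEquiv.coe_toMonoidHom, MulAut.conj_apply]
      convert this using 1
      group
    have heq : conjImage (c * γ) F.syl = U := eq_of_le_of_card_ge hle (by rw [hc, card_conjImage, F.card_syl])
    intro x
    rw [← heq]
    constructor
    · rintro ⟨s, hs, rfl⟩
      simp only [MulEquiv.coe_toMonoidHom, MulAut.conj_apply]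
      rw [show (c * γ)⁻¹ * (c * γ * s * (c * γ)⁻¹) * (c * γ) = s by group]
      exact hs
    · intro h
      refine ⟨_, h, ?_⟩
      simp only [MulEquiv.coe_toMonoidHom, MulAut.conj_apply]
      group

/-- A member has no centralising subgroup of order divisible by 64. -/
theorem not_member_of_big {t : G} (F : Fr t) {y : G} {K : Subgroup G}
    (hK : K ≤ centralizer ({y} : Set G)) (h64 : 64 ∣ Nat.card K) : ¬ IsConj t y := by
  intro hy
  obtain ⟨γ, hγ⟩ := isConj_iff.1 hy
  have h := h64.trans (card_dvd_of_le hK)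
  rw [← hγ, (F.conj γ).card_centralizer] at h
  exact absurd h (by norm_num)

/-- The conjugates of `y` under `H`. -/
def orb (H : Subgroup G) (y : G) : Set G := {u | ∃ h ∈ H, h * y * h⁻¹ = u}

theorem mem_orb_self (H : Subgroup G) (y : G) : y ∈ orb H y := ⟨1, one_mem _, by group⟩

theorem orb_eq {H : Subgroup G} {y u : G} (h : u ∈ orb H y) : orb H u = orb H y := by
  obtain ⟨h0, hh0, rfl⟩ := h
  ext v
  constructor
  · rintro ⟨k, hk, rfl⟩; exact ⟨k * h0, mul_mem hk hh0, by group⟩
  · rintro ⟨k, hk, rfl⟩; exact ⟨k * h0⁻¹, mul_mem hk (inv_mem hh0), by group⟩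

theorem orb_card (H : Subgroup G) (y : G) :
    (orb H y).ncard * Nat.card ↥(H ⊓ centralizer ({y} : Set G)) = Nat.card H := by
  letI : MulAction H G := MulAction.compHom G ((MulAut.conj : G →* MulAut G).comp H.subtype)
  have hs : ∀ (h : H) (x : G), h • x = (h : G) * x * (h : G)⁻¹ := fun h x => rfl
  have e1 : orb H y = MulAction.orbit H y := by
    ext u
    constructor
    · rintro ⟨h, hh, rfl⟩; exact ⟨⟨h, hh⟩, hs _ _⟩
    · rintro ⟨⟨h, hh⟩, rfl⟩; exact ⟨h, hh, (hs ⟨h, hh⟩ y).symm⟩
  have e2 : Nat.card ↥(H ⊓ centralizer ({y} : Set G)) = Nat.card (MulAction.stabilizer H y) :=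
    Nat.card_congr
      { toFun := fun x => ⟨⟨x.1, x.2.1⟩, by
          rw [MulAction.mem_stabilizer_iff, hs]
          exact mul_inv_eq_iff_eq_mul.2 (mem_centralizer_singleton_iff.1 x.2.2)⟩
        invFun := fun x => ⟨x.1.1, x.1.2, mem_centralizer_singleton_iff.2 (by
          have h := x.2
          rw [MulAction.mem_stabilizer_iff, hs] at h
          exact mul_inv_eq_iff_eq_mul.1 h)⟩
        left_inv := fun x => rfl
        right_inv := fun x => rfl }
  rw [e1, e2, ← Nat.card_coe_set_eq, ← Nat.card_prod]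
  exact Nat.card_congr (MulAction.orbitProdStabilizerEquivGroup H y)

/-- A set closed under conjugation by `H` whose orbits all have size divisible by `d`. -/
theorem dvd_card_of_orb {H : Subgroup G} {P : Set G} {d : ℕ}
    (hP : ∀ y ∈ P, orb H y ⊆ P ∧ d ∣ (orb H y).ncard) : d ∣ P.ncard := by
  classical
  haveI : Fintype G := Fintype.ofFinite G
  rw [Set.ncard_eq_toFinset_card' P, Finset.card_eq_sum_card_image (orb H) P.toFinset]
  refine Finset.dvd_sum fun b hb => ?_
  obtain ⟨y, hy, rfl⟩ := Finset.mem_image.1 hb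
  have hy' := Set.mem_toFinset.1 hy
  have e : (P.toFinset.filter fun u => orb H u = orb H y) = (orb H y).toFinset := by
    ext u
    simp only [Finset.mem_filter, Set.mem_toFinset]
    constructor
    · rintro ⟨-, he⟩; exact he ▸ mem_orb_self H u
    · exact fun hu => ⟨(hP y hy').1 hu, orb_eq hu⟩
  rw [e, ← Set.ncard_eq_toFinset_card']
  exact (hP y hy').2

end Cfsg.Agent.SixInv
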