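import Cfsg.Agent.Lib.SixInv.HModel

/-!
The twisted case: the three rotated involutions, the second swapper, and the elementary group they act
on.
-/

set_option autoImplicit false
set_option linter.unusedSectionVars false
set_option maxRecDepth 100000

namespace Cfsg.Agent.SixInv

open Subgroup

theorem patFour_outer {G : Type*} [Group G] {t : G} {F : Fr t} (hP : PatFour F) : PatFour F.outer where
  a := by rw [F.outer_apply, out_w]; exact hP.f
  b := by rw [F.outer_apply, out_w]; exact hP.h
  e := by rw [F.outer_apply, out_z]; exact hP.e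
  f := by rw [F.outer_apply, out_t]; exact hP.a
  h := by rw [F.outer_apply, out_t]; exact hP.b

/-- An element of the elementary group, by four coordinates. -/
abbrev V4 : Type := Bool × Bool × Bool × Bool

/-- Addition. -/
def vadd (x y : V4) : V4 := (xor x.1 y.1, xor x.2.1 y.2.1, xor x.2.2.1 y.2.2.1, xor x.2.2.2 y.2.2.2)

/-- The action of the first involution. -/
def vN : V4 → V4
  | (e, i, j, l) => (e, xor (xor i j) (xor l e), l, j)

/-- The action of the rotated involution. -/
def vNb : V4 → V4
  | (e, i, j, l) => (e, l, xor (xor i j) (xor l e), i)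

/-- The rotation. -/
def vK : V4 → V4
  | (e, i, j, l) => (e, l, i, j)

/-- The action of the second swapper. -/
def vT : V4 → V4
  | (e, i, j, l) => (e, xor i e, xor j e, xor l e)

/-- The permutation part. -/
def e3 (i j l : Bool) : S6 := hE l j i

variable {G : Type*} [Group G] [Finite G] {t : G} (F : Fr t)

/-- The element with given coordinates. -/
def el (x : V4) : G :=
  bif x.1 then t * F.ι (e3 x.2.1 x.2.2.1 x.2.2.2) else F.ι (e3 x.2.1 x.2.2.1 x.2.2.2)

theorem e3_mul (i j l i' j' l' : Bool) : e3 i j l * e3 i' j' l' = e3 (xor i i') (xor j j') (xor l l') := by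
  refine code_injective ?_
  cases i <;> cases j <;> cases l <;> cases i' <;> cases j' <;> cases l' <;> decide +kernel

theorem vadd_assoc (x y z : V4) : vadd (vadd x y) z = vadd x (vadd y z) := by
  simp [vadd, Bool.xor_assoc]

theorem vadd_cancel (p q r : V4) : vadd (vadd p r) (vadd q r) = vadd p q := by
  obtain ⟨p0, p1, p2, p3⟩ := p
  obtain ⟨q0, q1, q2, q3⟩ := q
  obtain ⟨r0, r1, r2, r3⟩ := r
  simp only [vadd, Prod.mk.injEq]
  exact ⟨by cases p0 <;> cases q0 <;> cases r0 <;> rfl, by cases p1 <;> cases q1 <;> cases r1 <;> rfl,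
    by cases p2 <;> cases q2 <;> cases r2 <;> rfl, by cases p3 <;> cases q3 <;> cases r3 <;> rfl⟩

theorem el_mul (x y : V4) : el F x * el F y = el F (vadd x y) := by
  obtain ⟨e, i, j, l⟩ := x
  obtain ⟨e', i', j', l'⟩ := y
  simp only [el, vadd]
  cases e <;> cases e' <;> simp only [Bool.xor_false, Bool.false_xor, Bool.xor_true, Bool.not_true,
    Bool.not_false, cond_true, cond_false]
  · rw [← map_mul, e3_mul]
  · rw [← mul_assoc, ← (F.comm _).eq, mul_assoc, ← map_mul, e3_mul]
  · rw [mul_assoc, ← map_mul, e3_mul]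
  · rw [(F.comm _).symm.mul_mul_mul_comm, F.sq, one_mul, ← map_mul, e3_mul]

theorem el_inj {x y : V4} (h : el F x = el F y) : x = y := by
  obtain ⟨e, i, j, l⟩ := x
  obtain ⟨e', i', j', l'⟩ := y
  have key : e3 i j l = e3 i' j' l' → (i, j, l) = (i', j', l') := fun he => by
    have := congrArg code he
    revert this
    cases i <;> cases j <;> cases l <;> cases i' <;> cases j' <;> cases l' <;> decide +kernel
  simp only [el] at h
  cases e <;> cases e' <;> simp only [cond_true, cond_false] at h
  · rw [key (F.inj h)]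
  · exact absurd h.symm (F.x_mul_ne _ _)
  · exact absurd h (F.x_mul_ne _ _)
  · rw [key (F.x_mul_inj h)]

theorem el_zero : el F (false, false, false, false) = 1 := by
  show F.ι (e3 false false false) = 1
  rw [show e3 false false false = 1 by decide +kernel, map_one]

theorem el_self (x : V4) : el F x * el F x = 1 := by
  rw [el_mul, ← el_zero F]
  congr 1
  obtain ⟨e, i, j, l⟩ := x
  simp [vadd, Bool.xor_assoc]

/-- Conjugation on the elementary group, from the four generators. -/
theorem conj_el {g : G} {f : V4 → V4} (hf : ∀ x y, f (vadd x y) = vadd (f x) (f y))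
    (h0 : g * t * g⁻¹ = el F (f (true, false, false, false)))
    (h1 : g * F.ι pW * g⁻¹ = el F (f (false, true, false, false)))
    (h2 : g * F.ι pB * g⁻¹ = el F (f (false, false, true, false)))
    (h3 : g * F.ι pC * g⁻¹ = el F (f (false, false, false, true))) (x : V4) :
    g * el F x * g⁻¹ = el F (f x) := by
  have e1 : el F (true, false, false, false) = t := by
    show t * F.ι (e3 false false false) = t
    rw [show e3 false false false = 1 by decide +kernel, map_one, mul_one]
  have e2 : el F (false, true, false, false) = F.ι pW := congrArg F.ι (by decide +kernel)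
  have e3' : el F (false, false, true, false) = F.ι pB := congrArg F.ι (by decide +kernel)
  have e4 : el F (false, false, false, true) = F.ι pC := congrArg F.ι (by decide +kernel)
  have h0' := (congrArg (fun u => g * u * g⁻¹) e1).trans h0
  have h1' := (congrArg (fun u => g * u * g⁻¹) e2).trans h1
  have h2' := (congrArg (fun u => g * u * g⁻¹) e3').trans h2
  have h3' := (congrArg (fun u => g * u * g⁻¹) e4).trans h3
  have f0 : el F (f (false, false, false, false)) = 1 := by
    have := el_self F (f (false, false, false, false))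
    rwa [el_mul, ← hf] at this
  have step : ∀ {a b}, g * el F a * g⁻¹ = el F (f a) → g * el F b * g⁻¹ = el F (f b) →
      g * el F (vadd a b) * g⁻¹ = el F (f (vadd a b)) := fun {a b} ha hb => by
    rw [← el_mul, ← conj_mul, ha, hb, el_mul, ← hf]
  have sc : ∀ (u : Bool) (a : V4), g * el F a * g⁻¹ = el F (f a) →
      g * el F (bif u then a else (false, false, false, false)) * g⁻¹ =
        el F (f (bif u then a else (false, false, false, false))) := by
    intro u a ha
    cases u
    · simp only [cond_false]
      rw [f0, el_zero, mul_one, mul_inv_cancel]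
    · exact ha
  obtain ⟨e, i, j, l⟩ := x
  have hdec : ((e, i, j, l) : V4) = vadd (vadd (bif e then (true, false, false, false) else (false, false, false, false))
      (bif i then (false, true, false, false) else (false, false, false, false)))
      (vadd (bif j then (false, false, true, false) else (false, false, false, false))
      (bif l then (false, false, false, true) else (false, false, false, false))) := by
    cases e <;> cases i <;> cases j <;> cases l <;> rfl
  rw [hdec]
  exact step (step (sc e _ h0') (sc i _ h1')) (step (sc j _ h2') (sc l _ h3'))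

theorem eq_el_of_comm {x : G} (hx : x * t = t * x) (hw : Commute x (F.ι pW)) (hb : Commute x (F.ι pB))
    (hc : Commute x (F.ι pC)) : ∃ v, x = el F v := by
  obtain ⟨ρ, hρ⟩ := F.surj x hx
  have hρc : ∀ σ : S6, Commute x (F.ι σ) → ρ * σ = σ * ρ := by
    intro σ h
    refine F.inj ?_
    rw [map_mul, map_mul]
    rcases hρ with r | r
    · rw [← r]; exact h.eq
    · rw [show F.ι ρ = t * x by rw [r, ← mul_assoc, F.sq, one_mul]]
      exact ((F.comm σ).mul_left h).eq
  have key : (cwList.all fun ρ => code (ρ * pB) != code (pB * ρ) || code (ρ * pC) != code (pC * ρ) ||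
      [false, true].any fun i => [false, true].any fun j => [false, true].any fun l =>
        code ρ == code (e3 i j l)) = true := by decide +kernel
  have h' := List.all_eq_true.1 key ρ (mem_cwList (hρc pW hw))
  simp only [Bool.or_eq_true, List.any_eq_true, bne_iff_ne, beq_iff_eq] at h'
  rcases h' with (e | e) | ⟨i, -, j, -, l, -, e⟩
  · exact absurd (congrArg code (hρc pB hb)) e
  · exact absurd (congrArg code (hρc pC hc)) e
  · rcases hρ with r | r
    · exact ⟨(false, i, j, l), by rw [r, code_injective e]; rfl⟩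
    · exact ⟨(true, i, j, l), by rw [r, code_injective e]; rfl⟩

/-- The four involutions of the twisted case and how they multiply. -/
structure IIFacts (n nb nc τ : G) (e y : V4) : Prop where
  n_sq : n * n = 1
  nb_sq : nb * nb = 1
  τ_sq : τ * τ = 1
  n_el : ∀ x, n * el F x * n = el F (vN x)
  nb_el : ∀ x, nb * el F x * nb = el F (vNb x)
  τ_el : ∀ x, τ * el F x * τ = el F (vT x)
  n_a : (F.ι pA)⁻¹ * n * F.ι pA = n
  nb_a : (F.ι pA)⁻¹ * nb * F.ι pA = nc
  τ_a : (F.ι pA)⁻¹ * τ * F.ι pA = τ * el F (false, true, true, true)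
  nc_eq : nc = n * nb * el F e
  nb_n : nb * n * nb = n * el F (vadd (vK e) e)
  τ_n : τ * n * τ = n * el F y
  τ_nb : τ * nb * τ = nb * el F (vK y)
  k_n : F.ι pK * n * (F.ι pK)⁻¹ = nb
  k_nb : F.ι pK * nb * (F.ι pK)⁻¹ = nc
  k_τ : F.ι pK * τ * (F.ι pK)⁻¹ = τ

/-- The equations the parameters satisfy. -/
def paramOK (e y : V4) : Bool :=
  (vN (vadd (vK e) e) == vadd (vK e) e) && (vadd (vadd (vK e) e) (vNb (vN e)) == e) == true &&
    (vadd (vN (vadd (vK e) e)) (vadd (vN e) (vK (vK e))) == (false, false, false, false)) &&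
    (vT y == y) && (vN y == y) && (vadd (vNb y) (vK y) == vK (vK y))

/-- The parameters left. -/
def paramOf (b c : Bool) : V4 × V4 := ((false, b, b, b), (false, c, false, false))

theorem param_cases (e y : V4) (he : vT e = e → paramOK e y = true) (he' : vadd (vK e) (vNb (vN e)) = (false, false, false, false))
    (hf : vN (vadd (vK e) e) = vadd (vK e) e)
    (hg : vadd (vN (vadd (vK e) e)) (vadd (vN e) (vK (vK e))) = (false, false, false, false)) :
    ∃ b c, (e, y) = paramOf b c := by
  obtain ⟨e0, e1, e2, e3⟩ := e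
  obtain ⟨y0, y1, y2, y3⟩ := y
  revert he he' hf hg
  cases e0 <;> cases e1 <;> cases e2 <;> cases e3 <;> cases y0 <;> cases y1 <;> cases y2 <;> cases y3 <;>
    decide +kernel

/-- The twisted data. -/
theorem iiData (hP : PatFour F) {h h' : G} (S : Swapper F h) (S' : Swapper F.outer h')
    (hb : h * F.ι pB * h⁻¹ = F.ι (pB * pW))
    (hb' : h' * F.outer.ι pB * h'⁻¹ = F.outer.ι (pB * pW)) :
    ∃ (n nb nc : G) (b c : Bool), IIFacts F n nb nc h' (paramOf b c).1 (paramOf b c).2 := by
  have hi : h⁻¹ = h := inv_eq_of_mul_eq_one_right S.sq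
  have ti : h'⁻¹ = h' := inv_eq_of_mul_eq_one_right S'.sq
  -- what the second swapper fixes
  have τfix : ∀ σ ∈ a4List, Commute h' (F.ι (outS6 σ)) := by
    intro σ hσ
    have c1 : Commute h' (F.outer.ι pK1) := mul_inv_eq_iff_eq_mul.1 S'.k1
    have c2 : Commute h' (F.outer.ι pK2) := mul_inv_eq_iff_eq_mul.1 S'.k2
    set K : Subgroup S6 := (centralizer ({h'} : Set G)).comap F.outer.ι with hK
    have mem : ∀ {τ : S6}, Commute h' (F.outer.ι τ) → τ ∈ K := fun c =>
      mem_centralizer_singleton_iff.2 c.symm.eq
    suffices hs : σ ∈ K from (show Commute (F.outer.ι σ) h' from mem_centralizer_singleton_iff.1 hs).symm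
    have m1 := mem c1
    have mz : pZ ∈ K := gen_z ▸ mul_mem (mul_mem m1 m1) (mem c2)
    have ma : pA ∈ K := gen_a ▸ mul_mem (mul_mem m1 (mem c2)) m1
    simp only [a4List, List.mem_flatMap, List.mem_cons, List.not_mem_nil, or_false] at hσ
    obtain ⟨u, hu, hv⟩ := hσ
    have hu' : u ∈ K := by
      rcases hu with r | r | r | r <;> rw [r]
      · exact one_mem K
      · exact mz
      · exact ma
      · exact mul_mem ma mz
    rcases hv with r | r | r <;> rw [r]
    · exact hu'
    · exact mul_mem hu' m1
    · exact mul_mem (mul_mem hu' m1) m1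
  have hK : Commute h' (F.ι pK) := by
    have key : (a4List.any fun σ => indCheck σ pK) = true := by decide +kernel
    obtain ⟨σ, hσ, hi'⟩ := List.any_eq_true.1 key
    rw [← outS6_eq hi']
    exact τfix σ hσ
  have fz : Commute h' (F.ι pZ) := out_z ▸ τfix pZ (mem_of_code (by decide +kernel))
  have fbw : Commute h' (F.ι (pB * pW)) := out_a ▸ τfix pA (mem_of_code (by decide +kernel))
  have fT : Commute h' (F.ι pT) := by
    have := mul_inv_eq_iff_eq_mul.1 S'.w
    rw [F.outer_apply, out_w] at this
    exact this
  have fw : Commute h' (F.ι pW) := by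
    rw [show pW = pT * pZ by decide +kernel, map_mul]
    exact fT.mul_right fz
  have fb : Commute h' (F.ι pB) := by
    rw [show pB = pB * pW * pW by decide +kernel, map_mul]
    exact fbw.mul_right fw
  have fc : Commute h' (F.ι pC) := by
    rw [show pC = pB * pZ by decide +kernel, map_mul]
    exact fb.mul_right fz
  have τt : h' * t * h'⁻¹ = t * F.ι pT := by
    have := S'.move
    rwa [F.outer_apply, out_w] at this
  have τa : h' * F.ι pA * h'⁻¹ = F.ι (pA * pT) := by
    have h1 := hb'
    rw [F.outer_apply, F.outer_apply, map_mul outS6, out_b, out_w,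
      show pA * pT * pT = pA by decide +kernel, map_mul] at h1
    calc h' * F.ι pA * h'⁻¹ = h' * (F.ι pA * F.ι pT) * h'⁻¹ * (h' * F.ι pT * h'⁻¹) := by
          rw [conj_mul, mul_assoc (F.ι pA), ← map_mul F.ι pT, show pT * pT = 1 by decide +kernel, map_one, mul_one]
      _ = _ := by rw [h1, fT.eq, mul_inv_cancel_right, map_mul]
  -- the first involution
  have c1 : Commute h (F.ι pK1) := mul_inv_eq_iff_eq_mul.1 S.k1
  have c2 : Commute h (F.ι pK2) := mul_inv_eq_iff_eq_mul.1 S.k2
  have hz : Commute h (F.ι pZ) := by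
    rw [← gen_z, map_mul, map_mul]; exact (c1.mul_right c1).mul_right c2
  have ha : Commute h (F.ι pA) := by
    rw [← gen_a, map_mul, map_mul]; exact (c1.mul_right c2).mul_right c1
  have hw : Commute h (F.ι pW) := mul_inv_eq_iff_eq_mul.1 S.w
  have hc : h * F.ι pC * h⁻¹ = F.ι (pC * pW) := by
    rw [show pC = pB * pZ by decide +kernel, map_mul, ← conj_mul, hb, hz.eq, mul_inv_cancel_right, ← map_mul]
    exact congrArg F.ι (code_injective (by decide +kernel))
  have aa : F.ι pA * F.ι pA = 1 := by rw [← map_mul, show pA * pA = 1 by decide +kernel, map_one]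
  have ai : (F.ι pA)⁻¹ = F.ι pA := inv_eq_of_mul_eq_one_right aa
  obtain ⟨n, hn⟩ : ∃ n, n = h * F.ι pA := ⟨_, rfl⟩
  have n2 : n * n = 1 := by rw [hn, ha.symm.mul_mul_mul_comm, S.sq, aa, one_mul]
  have hni : n⁻¹ = n := inv_eq_of_mul_eq_one_right n2
  have nconj : ∀ σ : S6, n * F.ι σ * n⁻¹ = h * F.ι (pA * σ * pA) * h⁻¹ := by
    intro σ
    rw [hn, mul_inv_rev, map_mul, map_mul, ai]
    group
  have nE : ∀ x, n * el F x * n⁻¹ = el F (vN x) := by
    refine conj_el F (f := vN) ?_ ?_ ?_ ?_ ?_
    · rintro ⟨a0, a1, a2, a3⟩ ⟨b0, b1, b2, b3⟩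
      cases a0 <;> cases a1 <;> cases a2 <;> cases a3 <;> cases b0 <;> cases b1 <;> cases b2 <;> cases b3 <;> rfl
    · have e1 : F.ι pA * t * (F.ι pA)⁻¹ = t := by rw [← (F.comm pA).eq, mul_inv_cancel_right]
      calc n * t * n⁻¹ = h * (F.ι pA * t * (F.ι pA)⁻¹) * h⁻¹ := by rw [hn]; group
        _ = t * F.ι pW := by rw [e1, S.move]
        _ = _ := by show _ = t * F.ι (e3 true false false); rw [show e3 true false false = pW by decide +kernel]
    · rw [nconj, show pA * pW * pA = pW by decide +kernel, S.w]
      exact congrArg F.ι (code_injective (by decide +kernel))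
    · rw [nconj, show pA * pB * pA = pC by decide +kernel, hc]
      exact congrArg F.ι (code_injective (by decide +kernel))
    · rw [nconj, show pA * pC * pA = pB by decide +kernel, hb]
      exact congrArg F.ι (code_injective (by decide +kernel))
  set K := MulAut.conj (F.ι pK) with hKdef
  obtain ⟨nb, hnb⟩ : ∃ nb, nb = K n := ⟨_, rfl⟩
  obtain ⟨nc, hnc⟩ : ∃ nc, nc = K nb := ⟨_, rfl⟩
  have nb2 : nb * nb = 1 := by rw [hnb, ← map_mul, n2, map_one]
  have nc2 : nc * nc = 1 := by rw [hnc, ← map_mul, nb2, map_one]
  have hnbi : nb⁻¹ = nb := inv_eq_of_mul_eq_one_right nb2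
  have hnci : nc⁻¹ = nc := inv_eq_of_mul_eq_one_right nc2
  have Kel : ∀ x, K (el F x) = el F (vK x) := by
    intro x
    rw [hKdef, MulAut.conj_apply]
    revert x
    refine conj_el F (f := vK) ?_ ?_ ?_ ?_ ?_
    · rintro ⟨a0, a1, a2, a3⟩ ⟨b0, b1, b2, b3⟩; rfl
    · rw [← (F.comm pK).eq, mul_inv_cancel_right]
      show t = t * F.ι (e3 false false false)
      rw [show e3 false false false = 1 by decide +kernel, map_one, mul_one]
    all_goals
      rw [← map_inv, ← map_mul, ← map_mul]
      exact congrArg F.ι (code_injective (by decide +kernel))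
  have rotK : ∀ {g : G} {f : V4 → V4}, (∀ x, g * el F x * g = el F (f x)) →
      ∀ x, K g * el F x * K g = el F (vK (f (vK (vK x)))) := by
    intro g f hg x
    have h3 : vK (vK (vK x)) = x := by obtain ⟨a0, a1, a2, a3⟩ := x; rfl
    calc K g * el F x * K g = K (g * el F (vK (vK x)) * g) := by rw [map_mul, map_mul, Kel, h3]
      _ = _ := by rw [hg, Kel]
  have nE' : ∀ x, n * el F x * n = el F (vN x) := fun x => by have := nE x; rwa [hni] at this
  have nbE : ∀ x, nb * el F x * nb = el F (vNb x) := fun x => by
    rw [hnb, rotK nE' x]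
    obtain ⟨a0, a1, a2, a3⟩ := x
    congr 1
    cases a0 <;> cases a1 <;> cases a2 <;> cases a3 <;> rfl
  have ncE : ∀ x, nc * el F x * nc = el F (vK (vNb (vK (vK x)))) := fun x => by rw [hnc]; exact rotK nbE x
  have τE : ∀ x, h' * el F x * h'⁻¹ = el F (vT x) := by
    refine conj_el F (f := vT) ?_ ?_ ?_ ?_ ?_
    · rintro ⟨a0, a1, a2, a3⟩ ⟨b0, b1, b2, b3⟩
      cases a0 <;> cases a1 <;> cases a2 <;> cases a3 <;> cases b0 <;> cases b1 <;> cases b2 <;> cases b3 <;> rfl
    · rw [τt]
      show t * F.ι pT = t * F.ι (e3 true true true)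
      rw [show e3 true true true = pT by decide +kernel]
    · rw [fw.eq, mul_inv_cancel_right]; exact congrArg F.ι (code_injective (by decide +kernel))
    · rw [fb.eq, mul_inv_cancel_right]; exact congrArg F.ι (code_injective (by decide +kernel))
    · rw [fc.eq, mul_inv_cancel_right]; exact congrArg F.ι (code_injective (by decide +kernel))
  have τE' : ∀ x, h' * el F x * h' = el F (vT x) := fun x => by have := τE x; rwa [ti] at this
  have swap : ∀ {g : G}, g * g = 1 → ∀ {x y : V4}, g * el F x * g = el F y → el F x * g = g * el F y := by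
    intro g hg x y he
    rw [← he, ← mul_assoc, ← mul_assoc, hg, one_mul]
  -- the discrepancy of the product
  have hcommE : ∀ g : G, (∀ x, g * el F x * g⁻¹ = el F x) → ∃ v, g = el F v := by
    intro g hg
    refine eq_el_of_comm F ?_ ?_ ?_ ?_
    · refine mul_inv_eq_iff_eq_mul.1 ?_
      have := hg (true, false, false, false)
      rwa [show el F (true, false, false, false) = t by
        show t * F.ι (e3 false false false) = t
        rw [show e3 false false false = 1 by decide +kernel, map_one, mul_one]] at this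
    · refine mul_inv_eq_iff_eq_mul.1 ?_
      have := hg (false, true, false, false)
      rwa [show el F (false, true, false, false) = F.ι pW from congrArg F.ι (by decide +kernel)] at this
    · refine mul_inv_eq_iff_eq_mul.1 ?_
      have := hg (false, false, true, false)
      rwa [show el F (false, false, true, false) = F.ι pB from congrArg F.ι (by decide +kernel)] at this
    · refine mul_inv_eq_iff_eq_mul.1 ?_
      have := hg (false, false, false, true)
      rwa [show el F (false, false, false, true) = F.ι pC from congrArg F.ι (by decide +kernel)] at this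
  obtain ⟨e, he⟩ := hcommE (nb * n * nc) (fun x => by
    rw [mul_inv_rev, mul_inv_rev, hni, hnbi, hnci,
      show nb * n * nc * el F x * (nc * (n * nb)) = nb * (n * (nc * el F x * nc) * n) * nb by group,
      ncE, nE', nbE]
    congr 1
    obtain ⟨a0, a1, a2, a3⟩ := x
    cases a0 <;> cases a1 <;> cases a2 <;> cases a3 <;> rfl)
  have hnce : nc = n * nb * el F e := by
    rw [← he, show n * nb * (nb * n * nc) = n * (nb * nb) * n * nc by group, nb2, mul_one, n2, one_mul]
  have hK3 : K nc = n := by
    have r : F.ι pK * F.ι pK * F.ι pK = 1 := by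
      rw [← map_mul, ← map_mul, show pK * pK * pK = 1 by decide +kernel, map_one]
    calc K nc = F.ι pK * F.ι pK * F.ι pK * n * (F.ι pK * F.ι pK * F.ι pK)⁻¹ := by
          rw [hnc, hnb, hKdef, MulAut.conj_apply, MulAut.conj_apply, MulAut.conj_apply]; group
      _ = n := by rw [r, one_mul, inv_one, mul_one]
  have r1 : n = nb * nc * el F (vK e) := by
    have := congrArg K hnce
    rwa [map_mul, map_mul, Kel, hK3, ← hnb, ← hnc] at this
  have r2 : nb = nc * n * el F (vK (vK e)) := by
    have := congrArg K r1
    rwa [map_mul, map_mul, Kel, hK3, ← hnb, ← hnc] at this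
  have e1 : nb * n * nb = n * el F (vadd (vK e) e) := by
    have h1 : nb * nc = n * el F (vK e) := by
      conv_rhs => rw [r1]
      rw [mul_assoc (nb * nc), el_self, mul_one]
    calc nb * n * nb = nb * n * nb * (el F e * el F e) := by rw [el_self, mul_one]
      _ = nb * (n * nb * el F e) * el F e := by group
      _ = _ := by rw [← hnce, h1, mul_assoc, el_mul]
  have zero_of : ∀ {v}, el F v = 1 → v = (false, false, false, false) := fun h =>
    el_inj F (h.trans (el_zero F).symm)
  have eqA : vN (vadd (vK e) e) = vadd (vK e) e := by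
    have h1 : n * el F (vadd (vK e) e) * (n * el F (vadd (vK e) e)) = 1 := by
      rw [← e1, show nb * n * nb * (nb * n * nb) = nb * n * (nb * nb) * n * nb by group, nb2, mul_one,
        mul_assoc nb n n, n2, mul_one, nb2]
    rw [← mul_assoc, nE', el_mul] at h1
    have h2 := congrArg (vadd · (vadd (vK e) e)) (zero_of h1)
    revert h2
    generalize vN (vadd (vK e) e) = p
    generalize vadd (vK e) e = q
    obtain ⟨p0, p1, p2, p3⟩ := p
    obtain ⟨q0, q1, q2, q3⟩ := q
    simp [vadd, Bool.xor_assoc]
  have eqB : vadd (vK e) (vNb (vN e)) = (false, false, false, false) := by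
    refine zero_of ?_
    have h1 : nb * (n * el F e * n) * nb = el F (vNb (vN e)) := by rw [nE', nbE]
    have h2 : n * nb * el F e * (n * nb * el F e) = 1 := by rw [← hnce, nc2]
    have h3 : n * nb * el F e * (n * nb * el F e) =
        el F (vadd (vadd (vK e) e) (vadd (vNb (vN e)) e)) := by
      calc n * nb * el F e * (n * nb * el F e)
          = n * (nb * n * nb) * (nb * (n⁻¹ * el F e * n) * nb) * el F e := by
            rw [show n * (nb * n * nb) * (nb * (n⁻¹ * el F e * n) * nb) * el F e =
              n * nb * n * (nb * nb) * n⁻¹ * el F e * n * nb * el F e by group, nb2, mul_one,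
              mul_inv_cancel_right]
            group
        _ = _ := by rw [hni, e1, h1, ← mul_assoc n n, n2, one_mul, el_mul, el_mul, vadd_assoc]
    rw [← h2, h3, vadd_cancel]
  have eqC : vadd (vN (vadd (vK e) e)) (vadd (vN e) (vK (vK e))) = (false, false, false, false) := by
    refine zero_of ?_
    have h1 : nb * nb = nb * (n * nb * el F e * n * el F (vK (vK e))) := by rw [← hnce, ← r2]
    have h2 : nb * (n * nb * el F e * n * el F (vK (vK e))) =
        el F (vadd (vN (vadd (vK e) e)) (vadd (vN e) (vK (vK e)))) := by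
      calc nb * (n * nb * el F e * n * el F (vK (vK e)))
          = nb * n * nb * el F e * n * el F (vK (vK e)) := by group
        _ = n * (el F (vadd (vK e) e) * el F e) * n * el F (vK (vK e)) := by rw [e1]; group
        _ = _ := by rw [el_mul, nE', el_mul]; congr 1
                    obtain ⟨a0, a1, a2, a3⟩ := e
                    cases a0 <;> cases a1 <;> cases a2 <;> cases a3 <;> rfl
    rw [← h2, ← h1, nb2]
  -- the second commutator
  obtain ⟨y, hy⟩ := hcommE (n * (h' * n * h')) (fun x => by
    rw [mul_inv_rev, mul_inv_rev, mul_inv_rev, hni, ti,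
      show n * (h' * n * h') * el F x * (h' * (n * h') * n) = n * (h' * (n * (h' * el F x * h') * n) * h') * n
        by group, τE', nE', τE', nE']
    congr 1
    obtain ⟨a0, a1, a2, a3⟩ := x
    cases a0 <;> cases a1 <;> cases a2 <;> cases a3 <;> rfl)
  have τn : h' * n * h' = n * el F y := by rw [← hy, ← mul_assoc n n, n2, one_mul]
  have τn' : h' * n * h' = el F y * n := by
    have h1 : (h' * n * h') * (h' * n * h') = 1 := by
      rw [show h' * n * h' * (h' * n * h') = h' * n * (h' * h') * n * h' by group, S'.sq, mul_one,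
        mul_assoc h' n n, n2, mul_one, S'.sq]
    rw [← inv_eq_of_mul_eq_one_right h1, τn, mul_inv_rev, hni, inv_eq_of_mul_eq_one_right (el_self F y)]
  have eqN : vN y = y := by
    refine el_inj F ?_
    rw [← nE', mul_assoc, ← τn', τn, ← mul_assoc, n2, one_mul]
  have τy : el F (vT y) = el F y := by
    rw [← τE', ← hy]
    calc h' * (n * (h' * n * h')) * h' = h' * n * h' * n * (h' * h') := by group
      _ = _ := by
        rw [S'.sq, mul_one]
        exact (show h' * n * h' * n = el F y by rw [τn', mul_assoc, n2, mul_one]).trans hy.symm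
  have hKτ : K h' = h' := by rw [hKdef, MulAut.conj_apply, ← hK.eq, mul_inv_cancel_right]
  have τnb : h' * nb * h' = nb * el F (vK y) := by
    have := congrArg K τn
    rwa [map_mul, map_mul, map_mul, Kel, hKτ, ← hnb] at this
  have eqD : vT e = e → vadd (vNb y) (vK y) = vK (vK y) := by
    intro hTe
    have h1 : h' * nc * h' = nc * el F (vK (vK y)) := by
      have := congrArg K τnb
      rwa [map_mul, map_mul, map_mul, Kel, hKτ, ← hnc] at this
    have h2 : h' * nc * h' = nc * el F (vadd (vNb y) (vK y)) := by
      calc h' * nc * h' = h' * n * h' * (h' * nb * h') * (h' * el F e * h') := by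
            rw [hnce, show h' * n * h' * (h' * nb * h') * (h' * el F e * h') =
              h' * n * (h' * h') * nb * (h' * h') * el F e * h' by group, S'.sq, mul_one, mul_one]
            group
        _ = n * (el F y * nb) * el F (vK y) * el F e := by rw [τn, τnb, τE', hTe]; group
        _ = n * nb * el F (vNb y) * el F (vK y) * el F e := by rw [swap nb2 (nbE y)]; group
        _ = n * nb * el F e * el F (vadd (vNb y) (vK y)) := by
          rw [mul_assoc (n * nb), el_mul, mul_assoc (n * nb), el_mul, mul_assoc (n * nb), el_mul]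
          congr 2
          generalize vadd (vNb y) (vK y) = p
          obtain ⟨p0, p1, p2, p3⟩ := p
          obtain ⟨a0, a1, a2, a3⟩ := e
          simp [vadd, Bool.xor_comm]
        _ = _ := by rw [← hnce]
    exact el_inj F (mul_left_cancel (h2.symm.trans h1))
  obtain ⟨b, c, hbc⟩ := param_cases e y (fun hTe => by
    simp only [paramOK, Bool.and_eq_true, beq_iff_eq]
    refine ⟨⟨⟨⟨⟨eqA, ?_⟩, eqC⟩, el_inj F τy⟩, eqN⟩, eqD hTe⟩
    revert eqB
    generalize vK e = p
    generalize vNb (vN e) = q
    obtain ⟨p0, p1, p2, p3⟩ := p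
    obtain ⟨q0, q1, q2, q3⟩ := q
    obtain ⟨a0, a1, a2, a3⟩ := e
    cases p0 <;> cases p1 <;> cases p2 <;> cases p3 <;> cases q0 <;> cases q1 <;> cases q2 <;> cases q3 <;>
      simp [vadd, Bool.xor_assoc]) eqB eqA eqC
  refine ⟨n, nb, nc, b, c, ?_⟩
  obtain ⟨rfl, rfl⟩ := Prod.mk.inj hbc
  refine
    { n_sq := n2, nb_sq := nb2, τ_sq := S'.sq, n_el := nE', nb_el := nbE, τ_el := τE'
      n_a := ?_, nb_a := ?_, τ_a := ?_, nc_eq := hnce, nb_n := e1, τ_n := τn, τ_nb := τnb
      k_n := hnb.symm, k_nb := hnc.symm, k_τ := hKτ }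
  · rw [ai, hn, ← mul_assoc (F.ι pA) h, ← ha.eq, mul_assoc h, aa, mul_one]
  · have e2 : pA * pK = pK * pK * pA := by decide +kernel
    have hna : F.ι pA * n * (F.ι pA)⁻¹ = n := by
      rw [hn, ← mul_assoc, ← ha.eq, mul_inv_cancel_right]
    calc (F.ι pA)⁻¹ * nb * F.ι pA = F.ι pA * F.ι pK * n * (F.ι pA * F.ι pK)⁻¹ := by
          rw [hnb, hKdef, MulAut.conj_apply, ai, mul_inv_rev, ai]; group
      _ = F.ι pK * F.ι pK * (F.ι pA * n * (F.ι pA)⁻¹) * (F.ι pK * F.ι pK)⁻¹ := by
          rw [← map_mul F.ι pA pK, e2, map_mul, map_mul]; group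
      _ = nc := by rw [hna, hnc, hnb, hKdef, MulAut.conj_apply, MulAut.conj_apply]; group
  · have e1' : el F (false, true, true, true) = F.ι pT := congrArg F.ι (code_injective (by decide +kernel))
    rw [e1', ai]
    calc F.ι pA * h' * F.ι pA = F.ι pA * (h' * F.ι pA * h'⁻¹) * h' := by group
      _ = F.ι (pA * (pA * pT)) * h' := by rw [τa, map_mul F.ι pA (pA * pT)]
      _ = _ := by rw [show pA * (pA * pT) = pT by decide +kernel, ← fT.eq]

end Cfsg.Agent.SixInv
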