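import Cfsg.Agent.Lib.SixInv.CCerts
import Cfsg.Agent.Lib.SixInv.IIData

/-!
The cyclic case gives a subgroup of index two.
-/

set_option autoImplicit false
set_option linter.unusedSectionVars false
set_option maxRecDepth 100000

namespace Cfsg.Agent.SixInv

open Subgroup

/-- The coordinates of a word. -/
def wordsList : List (Bool × Bool × Bool × Bool) :=
  [false, true].flatMap fun b => [false, true].flatMap fun c => [false, true].flatMap fun d =>
    [false, true].map fun e => (b, c, d, e)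

/-- The images of the generators of a word, combined. -/
def wordMap (x y : S6) : Bool × Bool × Bool × Bool → S6
  | (b, c, d, e) => bp b pT * bp c x * bp d (y * pT) * bp e pZ

/-- The map on the Sylow subgroup with given images of `pA` and `pB`. -/
def autT (x y σ : S6) : S6 :=
  match wordsList.find? fun q => code (word q.1 q.2.1 q.2.2.1 q.2.2.2) == code σ with
  | some q => wordMap x y q
  | none => 1

theorem autT_word (x y : S6) (b c d e : Bool) : autT x y (word b c d e) = wordMap x y (b, c, d, e) := by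
  have key : ∀ b c d e : Bool,
      wordsList.find? (fun q => code (word q.1 q.2.1 q.2.2.1 q.2.2.2) == code (word b c d e)) = some (b, c, d, e) := by
    decide +kernel
  rw [autT, key b c d e]

/-- Whether the third iterate maps `pA` into the other four-group and the images do not commute. -/
def imgOK (x y : S6) : Bool :=
  code (x * y) != code (y * x) &&
    ([1, pZ, pB * pW, pB * pW * pZ].map code).contains (code (autT x y (autT x y x)))

/-- The normalised images. -/
theorem img_normal {x y : S6} (hx : x ∈ invList) (hy : y ∈ invList) (h : imgOK x y = true) :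
    ∃ g ∈ ([1, pA, pB, pA * pB] : List S6), ∃ j : Bool,
      g * x * g⁻¹ = pB * bp j pW ∧ g * y * g⁻¹ = pA * pW * pZ := by
  have key : (invList.all fun x => invList.all fun y => !imgOK x y ||
      ([1, pA, pB, pA * pB] : List S6).any fun g => [false, true].any fun j =>
        code (g * x * g⁻¹) == code (pB * bp j pW) && code (g * y * g⁻¹) == code (pA * pW * pZ)) = true := by
    decide +kernel
  have h1 := List.all_eq_true.1 (List.all_eq_true.1 key x hx) y hy
  rw [h] at h1
  simp only [Bool.not_true, Bool.false_or, List.any_eq_true, Bool.and_eq_true, beq_iff_eq] at h1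
  obtain ⟨g, hg, j, -, e1, e2⟩ := h1
  exact ⟨g, hg, j, code_injective e1, code_injective e2⟩

variable {G : Type*} [Group G] [Finite G] {t : G} {F : Fr t}

/-- What is known of the generator. -/
structure CGen (F : Fr t) (d : G) (j : Bool) : Prop where
  move : d * t * d⁻¹ = t * F.ι pW
  w : d * F.ι pW * d⁻¹ = F.ι pT
  z : d * F.ι pZ * d⁻¹ = F.ι pZ
  a : d * F.ι pA * d⁻¹ = F.ι (pB * bp j pW)
  b : d * F.ι pB * d⁻¹ = F.ι (pA * pW * pZ)
  pres : Pres F d

theorem aut_apply {d : G} {x y : S6} (hw : d * F.ι pW * d⁻¹ = F.ι pT) (hz : d * F.ι pZ * d⁻¹ = F.ι pZ)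
    (ha : d * F.ι pA * d⁻¹ = F.ι x) (hb : d * F.ι pB * d⁻¹ = F.ι y) {σ : S6} (hσ : σ ∈ tList) :
    d * F.ι σ * d⁻¹ = F.ι (autT x y σ) := by
  obtain ⟨b, c, e, f, rfl⟩ := exists_word hσ
  have e' : ∀ (b : Bool) (σ : S6), gp b (F.ι σ) = F.ι (bp b σ) := by
    intro b σ
    cases b
    · exact (map_one _).symm
    · rfl
  have hbw : d * F.ι (pB * pW) * d⁻¹ = F.ι (y * pT) := by
    rw [map_mul, ← conj_mul, hb, hw, ← map_mul]
  rw [autT_word, conj_word, hw, ha, hbw, hz, e', e', e', e', wordMap, map_mul, map_mul, map_mul]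

theorem exists_cGen (hP : PatFour F) {d : G} (hd : Pres F d) (hm : d * t * d⁻¹ = t * F.ι pW)
    (hw : d * F.ι pW * d⁻¹ = F.ι pT) (hz : d * F.ι pZ * d⁻¹ = F.ι pZ) : ∃ e j, CGen F e j := by
  have ma : pA ∈ invList := mem_of_code (by decide +kernel)
  have mb : pB ∈ invList := mem_of_code (by decide +kernel)
  obtain ⟨x, hx, hax⟩ := pres_inv hP hd ma
  obtain ⟨y, hy, hby⟩ := pres_inv hP hd mb
  have hxT := (mem_invList.1 hx).1
  have hyT := (mem_invList.1 hy).1
  have hzz : F.ι pZ * F.ι pZ = 1 := by rw [← map_mul, show pZ * pZ = 1 by decide +kernel, map_one]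
  have hT : d * F.ι pT * d⁻¹ = F.ι pW := by
    rw [show pT = pW * pZ by decide +kernel, map_mul, ← conj_mul, hw, hz, ← map_mul]
    exact congrArg F.ι (code_injective (by decide +kernel))
  have three : ∀ u : G, d * d * d * u * (d * d * d)⁻¹ = d * (d * (d * u * d⁻¹) * d⁻¹) * d⁻¹ := fun u => by group
  set D := d * d * d with hD
  have stp : ∀ {σ τ ρ : S6}, d * F.ι σ * d⁻¹ = F.ι τ → pW * τ = ρ →
      d * (t * F.ι σ) * d⁻¹ = t * F.ι ρ := fun {σ τ ρ} h e => by
    rw [← conj_mul, hm, h, mul_assoc, ← map_mul, e]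
  have Dtw : D * (t * F.ι pW) * D⁻¹ = t := by
    rw [three, stp hw (show pW * pT = pZ by decide +kernel), stp hz (show pW * pZ = pT by decide +kernel),
      stp hT (show pW * pW = 1 by decide +kernel), map_one, mul_one]
  have Dw : D * F.ι pW * D⁻¹ = F.ι pT := by rw [three, hw, hT, hw]
  have get : ∀ k, k ∈ l3List → ∃ k' ∈ l3List, D * F.ι k * D⁻¹ = F.ι (outS6 k') := by
    intro k hk
    simp only [l3List, List.mem_filter, Bool.and_eq_true, beq_iff_eq, bne_iff_ne] at hk
    obtain ⟨hc, h3, h1⟩ := hk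
    have hc' : F.ι k * (t * F.ι pW) = t * F.ι pW * F.ι k := by
      rw [← mul_assoc, ← (F.comm k).eq, mul_assoc, ← map_mul, cwList_comm k hc, map_mul, ← mul_assoc]
    have hct : D * F.ι k * D⁻¹ * t = t * (D * F.ι k * D⁻¹) := by
      have h := (Commute.map (show Commute _ _ from hc') (MulAut.conj D)).eq
      simp only [MulAut.conj_apply] at h
      rwa [Dtw] at h
    obtain ⟨ρ, e, h3'⟩ := three_ι (F := F) hct (by
      rw [conj_mul, conj_mul, ← map_mul, ← map_mul, code_injective h3, map_one, mul_one, mul_inv_cancel])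
    refine ⟨outS6.symm ρ, ?_, by rw [MulEquiv.apply_symm_apply]; exact e⟩
    simp only [l3List, List.mem_filter, Bool.and_eq_true, beq_iff_eq, bne_iff_ne]
    refine ⟨mem_cwList (outS6.injective ?_), congrArg code (outS6.injective ?_), fun hρ => h1 (congrArg code (F.inj ?_))⟩
    · rw [map_mul, map_mul, MulEquiv.apply_symm_apply, out_w]
      refine F.inj ?_
      rw [map_mul, map_mul, ← e, ← Dw, conj_mul, conj_mul, ← map_mul, ← map_mul, cwList_comm k hc]
    · rw [map_mul, map_mul, MulEquiv.apply_symm_apply, map_one, h3']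
    · have hρ1 : ρ = 1 := by
        rw [← MulEquiv.apply_symm_apply outS6 ρ, code_injective hρ, map_one]
      rw [hρ1, map_one, conj_eq_one_iff] at e
      rw [e, map_one]
  have m1 : pK1 ∈ l3List := mem_of_code (by decide +kernel)
  have m2 : pK2 ∈ l3List := mem_of_code (by decide +kernel)
  obtain ⟨p1, hp1, e1⟩ := get _ m1
  obtain ⟨p2, hp2, e2⟩ := get _ m2
  have autmem : ∀ {σ : S6}, σ ∈ tList → autT x y σ ∈ tList := fun {σ} hσ =>
    F.ι_of_mem_syl (aut_apply hw hz hax hby hσ ▸ hd _ (F.ι_mem_syl hσ))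
  have hA : outS6 (p1 * p2 * p1) = autT x y (autT x y x) := by
    refine F.inj ?_
    calc F.ι (outS6 (p1 * p2 * p1)) = D * F.ι pK1 * D⁻¹ * (D * F.ι pK2 * D⁻¹) * (D * F.ι pK1 * D⁻¹) := by
          rw [e1, e2, ← map_mul, ← map_mul, ← map_mul, ← map_mul]
      _ = D * F.ι pA * D⁻¹ := by rw [conj_mul, conj_mul, ← map_mul, ← map_mul, gen_a]
      _ = _ := by rw [three, hax, aut_apply hw hz hax hby hxT, aut_apply hw hz hax hby (autmem hxT)]
  have hOK : imgOK x y = true := by
    simp only [imgOK, Bool.and_eq_true, bne_iff_ne]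
    refine ⟨fun h => ?_, ?_⟩
    · have hc : F.ι x * F.ι y = F.ι y * F.ι x := by rw [← map_mul, ← map_mul, code_injective h]
      rw [← hax, ← hby, conj_mul, conj_mul, ← map_mul, ← map_mul] at hc
      exact absurd (F.inj ((MulAut.conj d).injective hc)) (by decide +kernel)
    · have hmem : outS6 (p1 * p2 * p1) ∈ tList := hA ▸ autmem (autmem hxT)
      have pre : ∃ π ∈ tList, p1 * p2 * p1 = π := by
        have key : (tList.all fun ρ => tList.any fun π => indCheck π ρ) = true := by decide +kernel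
        obtain ⟨π, hπ, hi⟩ := List.any_eq_true.1 (List.all_eq_true.1 key _ hmem)
        exact ⟨π, hπ, outS6.injective (outS6_eq hi).symm⟩
      obtain ⟨π, hπ, hpπ⟩ := pre
      have key : (l3List.all fun p => l3List.all fun q => !(tList.map code).contains (code (p * q * p)) ||
          ([1, pZ, pA, pA * pZ].map code).contains (code (p * q * p))) = true := by decide +kernel
      have h1 := List.all_eq_true.1 (List.all_eq_true.1 key p1 hp1) p2 hp2
      rw [code_of_mem (hpπ ▸ hπ : p1 * p2 * p1 ∈ tList)] at h1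
      simp only [Bool.not_true, Bool.false_or] at h1
      have h2 := mem_of_code h1
      refine code_of_mem ?_
      rw [← hA]
      simp only [List.mem_cons, List.not_mem_nil, or_false] at h2 ⊢
      rcases h2 with e | e | e | e <;> rw [e]
      · exact Or.inl (map_one _)
      · exact Or.inr (Or.inl out_z)
      · exact Or.inr (Or.inr (Or.inl out_a))
      · exact Or.inr (Or.inr (Or.inr (by rw [map_mul, out_a, out_z])))
  obtain ⟨g, hg, j, hgx, hgy⟩ := img_normal hx hy hOK
  have hgT : g ∈ tList := by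
    have key : (([1, pA, pB, pA * pB] : List S6).all fun g => (tList.map code).contains (code g)) = true := by
      decide +kernel
    exact mem_of_code (List.all_eq_true.1 key g hg)
  have conjg : ∀ {u : G} {σ : S6}, d * u * d⁻¹ = F.ι σ →
      F.ι g * d * u * (F.ι g * d)⁻¹ = F.ι (g * σ * g⁻¹) := fun {u σ} h => by
    rw [map_mul, map_mul, map_inv, ← h]; group
  have cg : ∀ σ ∈ tCentre, g * σ * g⁻¹ = σ := fun σ hσ => by
    rw [← centre_comm hσ hgT, mul_inv_cancel_right]
  refine ⟨F.ι g * d, j, ?_, ?_, ?_, ?_, ?_, ?_⟩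
  · calc F.ι g * d * t * (F.ι g * d)⁻¹ = F.ι g * (d * t * d⁻¹) * (F.ι g)⁻¹ := by group
      _ = F.ι g * (t * F.ι pW) * (F.ι g)⁻¹ := by rw [hm]
      _ = t * (F.ι g * F.ι pW * (F.ι g)⁻¹) := by rw [← mul_assoc (F.ι g) t, ← (F.comm g).eq]; group
      _ = _ := by rw [← map_inv, ← map_mul, ← map_mul, cg pW (by simp [tCentre])]
  · rw [conjg hw, cg pT (by simp [tCentre])]
  · rw [conjg hz, cg pZ (by simp [tCentre])]
  · rw [conjg hax, hgx]
  · rw [conjg hby, hgy]
  · refine Pres.mul (fun s hs => ?_) hd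
    exact mul_mem (mul_mem (F.ι_mem_syl hgT) hs) (inv_mem (F.ι_mem_syl hgT))

/-- The fourth power of the generator. -/
theorem cGen_four {d : G} {j : Bool} (hP : PatFour F) (C : CGen F d j) :
    ∃ h : Bool, d * d * (d * d) = F.ι (bp h pZ) := by
  obtain ⟨hm, hw, hz, ha, hb, hd⟩ := C
  have hT : d * F.ι pT * d⁻¹ = F.ι pW := by
    rw [show pT = pW * pZ by decide +kernel, map_mul, ← conj_mul, hw, hz, ← map_mul]
    exact congrArg F.ι (code_injective (by decide +kernel))
  set H := d * d * (d * d) with hH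
  have four : ∀ u : G, H * u * H⁻¹ = d * (d * (d * (d * u * d⁻¹) * d⁻¹) * d⁻¹) * d⁻¹ := fun u => by
    rw [hH]; group
  have stp : ∀ {σ τ ρ : S6}, d * F.ι σ * d⁻¹ = F.ι τ → pW * τ = ρ →
      d * (t * F.ι σ) * d⁻¹ = t * F.ι ρ := fun {σ τ ρ} h e => by
    rw [← conj_mul, hm, h, mul_assoc, ← map_mul, e]
  have hHt : H * t * H⁻¹ = t := by
    rw [four, hm, stp hw (show pW * pT = pZ by decide +kernel), stp hz (show pW * pZ = pT by decide +kernel),
      stp hT (show pW * pW = 1 by decide +kernel), map_one, mul_one]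
  have hPH : Pres F H := (hd.mul hd).mul (hd.mul hd)
  have hHm : H ∈ F.syl := regular F (cen_self F) hPH hHt
  obtain ⟨σ, hσ, e⟩ := F.mem_syl.1 hHm
  have aut : ∀ {τ : S6}, τ ∈ tList →
      d * F.ι τ * d⁻¹ = F.ι (autT (pB * bp j pW) (pA * pW * pZ) τ) := fun hτ => aut_apply hw hz ha hb hτ
  have key : ∀ j : Bool, (tList.all fun τ =>
      let f := autT (pB * bp j pW) (pA * pW * pZ)
      (tList.map code).contains (code (f τ)) && (code (f (f (f (f τ)))) == code τ)) = true := by decide +kernel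
  have hfix : ∀ τ ∈ tList, σ * τ = τ * σ := by
    intro τ hτ
    have h0 : ∀ τ ∈ tList, autT (pB * bp j pW) (pA * pW * pZ) τ ∈ tList := fun τ hτ => by
      have h1 := List.all_eq_true.1 (key j) τ hτ
      simp only [Bool.and_eq_true] at h1
      exact mem_of_code h1.1
    have h1 := List.all_eq_true.1 (key j) τ hτ
    simp only [Bool.and_eq_true, beq_iff_eq] at h1
    have hH4 : H * F.ι τ * H⁻¹ = F.ι τ := by
      rw [four, aut hτ, aut (h0 _ hτ), aut (h0 _ (h0 _ hτ)), aut (h0 _ (h0 _ (h0 _ hτ))), code_injective h1.2]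
    refine F.inj ?_
    rw [map_mul, map_mul]
    rcases e with r | r <;> rw [r] at hH4
    · exact mul_inv_eq_iff_eq_mul.1 hH4
    · have hc := mul_inv_eq_iff_eq_mul.1 hH4
      rw [mul_assoc, ← mul_assoc (F.ι τ), ← (F.comm τ).eq, mul_assoc] at hc
      exact mul_left_cancel hc
  have hc := tList_centre hσ hfix
  have hdH : d * H * d⁻¹ = H := by rw [hH]; group
  have dt : ∀ ρ : S6, d * (t * F.ι ρ) * d⁻¹ = t * F.ι pW * (d * F.ι ρ * d⁻¹) := fun ρ => by
    rw [← conj_mul, hm]
  simp only [tCentre, List.mem_cons, List.not_mem_nil, or_false] at hc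
  rcases e with r | r <;> rcases hc with rfl | rfl | rfl | rfl
  · exact ⟨false, r⟩
  · rw [r, hw] at hdH
    exact absurd (F.inj hdH) (by decide +kernel)
  · exact ⟨true, r⟩
  · rw [r, hT] at hdH
    exact absurd (F.inj hdH) (by decide +kernel)
  · rw [r, dt, map_one, mul_one, mul_inv_cancel, mul_one, ← map_one F.ι] at hdH
    exact absurd (F.x_mul_inj (hdH.trans (by rw [map_one]))) (by decide +kernel)
  · rw [r, dt, hw, mul_assoc, ← map_mul] at hdH
    exact absurd (F.x_mul_inj hdH) (by decide +kernel)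
  · rw [r, dt, hz, mul_assoc, ← map_mul] at hdH
    exact absurd (F.x_mul_inj hdH) (by decide +kernel)
  · rw [r, dt, hT, mul_assoc, ← map_mul] at hdH
    exact absurd (F.x_mul_inj hdH) (by decide +kernel)

theorem exists_cModel {d : G} {j h : Bool} (C : CGen F d j) (h4 : d * d * (d * d) = F.ι (bp h pZ)) :
    ∃ M : Model F, M.rs = cRels j h ∧ M.base = cBase := by
  obtain ⟨hm, hw, hz, ha, hb, hd⟩ := C
  have sq' : ∀ σ : S6, σ * σ = 1 → F.ι σ * F.ι σ = 1 := fun σ e => by rw [← map_mul, e, map_one]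
  have cE : ∀ σ τ : S6, σ * τ = τ * σ → (F.ι σ)⁻¹ * F.ι τ * F.ι σ = F.ι τ := fun σ τ e => by
    rw [mul_assoc, ← map_mul, ← e, map_mul, inv_mul_cancel_left]
  have ct : ∀ σ : S6, (F.ι σ)⁻¹ * t * F.ι σ = t := fun σ => by
    rw [mul_assoc, (F.comm σ).eq, inv_mul_cancel_left]
  have tc : ∀ σ : S6, t⁻¹ * F.ι σ * t = F.ι σ := fun σ => by
    rw [mul_assoc, ← (F.comm σ).eq, inv_mul_cancel_left]
  have ab : (F.ι pA)⁻¹ * F.ι pB * F.ι pA = F.ι pB * F.ι pZ := by
    rw [← map_inv, ← map_mul, ← map_mul, ← map_mul]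
    exact congrArg F.ι (code_injective (by decide +kernel))
  have back : ∀ {σ τ : S6}, d * F.ι σ * d⁻¹ = F.ι τ → d⁻¹ * F.ι τ * d = F.ι σ := fun h => by
    rw [← h]; group
  have aut : ∀ {τ : S6}, τ ∈ tList →
      d * F.ι τ * d⁻¹ = F.ι (autT (pB * bp j pW) (pA * pW * pZ) τ) := fun hτ => aut_apply hw hz ha hb hτ
  have inv1 : ∀ (τ σ : S6), τ ∈ tList → autT (pB * bp j pW) (pA * pW * pZ) τ = σ →
      d⁻¹ * F.ι σ * d = F.ι τ := fun τ σ hτ he => back (he ▸ aut hτ)
  have inv2 : ∀ (τ ρ σ : S6), τ ∈ tList → ρ ∈ tList → autT (pB * bp j pW) (pA * pW * pZ) τ = ρ →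
      autT (pB * bp j pW) (pA * pW * pZ) ρ = σ → (d * d)⁻¹ * F.ι σ * (d * d) = F.ι τ :=
    fun τ ρ σ hτ hρ h1 h2 => by
      calc (d * d)⁻¹ * F.ι σ * (d * d) = d⁻¹ * (d⁻¹ * F.ι σ * d) * d := by group
        _ = _ := by rw [inv1 ρ σ hρ h2, inv1 τ ρ hτ h1]
  -- preimages of the five generators
  have preim : ∀ j : Bool, ([pA, pB, pW, pZ] : List S6).all (fun σ => tList.any fun τ =>
      code (autT (pB * bp j pW) (pA * pW * pZ) τ) == code σ) = true := by decide +kernel
  have p1 : d⁻¹ * F.ι pA * d = F.ι pB * F.ι pW := by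
    rw [← map_mul]; refine inv1 _ _ (mem_of_code ?_) (code_injective ?_) <;> cases j <;> decide +kernel
  have p2 : d⁻¹ * F.ι pB * d = F.ι (bp j pW * bp j pZ * pA) := by
    refine inv1 _ _ (mem_of_code ?_) (code_injective ?_) <;> cases j <;> decide +kernel
  have p3 : d⁻¹ * F.ι pW * d = F.ι pW * F.ι pZ := by
    rw [← map_mul]; refine inv1 _ _ (mem_of_code ?_) (code_injective ?_) <;> cases j <;> decide +kernel
  have p4 : d⁻¹ * F.ι pZ * d = F.ι pZ := by
    refine inv1 _ _ (mem_of_code ?_) (code_injective ?_) <;> cases j <;> decide +kernel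
  have p5 : d⁻¹ * t * d = t * (F.ι pW * F.ι pZ) := by
    have e : d⁻¹ * t * d * (d⁻¹ * F.ι pW * d) = t := by
      calc d⁻¹ * t * d * (d⁻¹ * F.ι pW * d) = d⁻¹ * (t * F.ι pW) * d := by group
        _ = t := by rw [← hm]; group
    rw [p3] at e
    calc d⁻¹ * t * d = d⁻¹ * t * d * (F.ι pW * F.ι pZ) * (F.ι pW * F.ι pZ) := by
          rw [mul_assoc (d⁻¹ * t * d), ← map_mul, ← map_mul, show pW * pZ * (pW * pZ) = 1 by decide +kernel,
            map_one, mul_one]
      _ = _ := by rw [e]
  have q4 : (d * d)⁻¹ * F.ι pZ * (d * d) = F.ι pZ := by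
    rw [show (d * d)⁻¹ * F.ι pZ * (d * d) = d⁻¹ * (d⁻¹ * F.ι pZ * d) * d by group, p4, p4]
  have q3 : (d * d)⁻¹ * F.ι pW * (d * d) = F.ι pW := by
    calc (d * d)⁻¹ * F.ι pW * (d * d) = d⁻¹ * (d⁻¹ * F.ι pW * d) * d := by group
      _ = d⁻¹ * (F.ι pW * F.ι pZ) * d := by rw [p3]
      _ = d⁻¹ * F.ι pW * d * (d⁻¹ * F.ι pZ * d) := by group
      _ = _ := by
        rw [p3, p4, mul_assoc, ← map_mul, show pZ * pZ = 1 by decide +kernel, map_one, mul_one]
  have q5 : (d * d)⁻¹ * t * (d * d) = t * F.ι pZ := by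
    calc (d * d)⁻¹ * t * (d * d) = d⁻¹ * (d⁻¹ * t * d) * d := by group
      _ = d⁻¹ * (t * (F.ι pW * F.ι pZ)) * d := by rw [p5]
      _ = d⁻¹ * t * d * (d⁻¹ * F.ι pW * d * (d⁻¹ * F.ι pZ * d)) := by group
      _ = t * F.ι (pW * pZ * (pW * pZ * pZ)) := by rw [p3, p4, p5]; simp only [map_mul, mul_assoc]
      _ = _ := by rw [show pW * pZ * (pW * pZ * pZ) = pZ by decide +kernel]
  have hg : d⁻¹ * (d * d) * d = d * d := by group
  have q1 : (d * d)⁻¹ * F.ι pA * (d * d) = bif j then F.ι pA else F.ι (pA * pW * pZ) := by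
    rw [show (bif j then F.ι pA else F.ι (pA * pW * pZ)) = F.ι (bif j then pA else pA * pW * pZ) by cases j <;> rfl]
    refine inv2 _ (bif j then pB * pW else pB * pW) _ (mem_of_code ?_) (mem_of_code ?_) (code_injective ?_)
      (code_injective ?_) <;> cases j <;> decide +kernel
  have q2 : (d * d)⁻¹ * F.ι pB * (d * d) = bif j then F.ι pB else F.ι (pB * pW) := by
    rw [show (bif j then F.ι pB else F.ι (pB * pW)) = F.ι (bif j then pB else pB * pW) by cases j <;> rfl]
    refine inv2 _ (bp j pW * bp j pZ * pA) _ (mem_of_code ?_) (mem_of_code ?_) (code_injective ?_)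
      (code_injective ?_) <;> cases j <;> decide +kernel
  let gens : List G := [d, d * d, F.ι pA, F.ι pB, t, F.ι pW, F.ι pZ]
  refine ⟨
    { gens := gens
      rs := cRels j h
      base := cBase
      tc := 16
      cands := cCands
      holds := ?_
      hbase := ?_
      bounded := (cRels_ok j h).1
      tc_lt := (cRels_ok j h).2.1
      htc := (cRels_ok j h).2.2.1
      hker := (cRels_ok j h).2.2.2 }, rfl, rfl⟩
  · have sa := sq' pA (by decide +kernel)
    have sb := sq' pB (by decide +kernel)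
    have sw := sq' pW (by decide +kernel)
    have sz := sq' pZ (by decide +kernel)
    have st := F.sq
    have c1 := cE pA pW (by decide +kernel)
    have c2 := cE pA pZ (by decide +kernel)
    have c3 := cE pB pW (by decide +kernel)
    have c4 := cE pB pZ (by decide +kernel)
    have c5 := cE pW pZ (by decide +kernel)
    have aw : F.ι (pA * pW * pZ) = F.ι pA * (F.ι pW * F.ι pZ) := by rw [map_mul, map_mul, mul_assoc]
    have bw : F.ι (pB * pW) = F.ι pB * F.ι pW := map_mul _ _ _
    have jw : F.ι (bp true pW * bp true pZ * pA) = F.ι pA * (F.ι pW * F.ι pZ) := by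
      rw [← map_mul, ← map_mul]
      exact congrArg F.ι (code_injective (by decide +kernel))
    have j0 : F.ι (bp false pW * bp false pZ * pA) = F.ι pA := congrArg F.ι (code_injective (by decide +kernel))
    cases j <;> cases h <;>
      simp only [gens, cRels, Tower.Holds, List.forall₂_cons, List.Forall₂.nil, and_true, cond_true, cond_false,
        jw, j0, aw, bw] at * <;>
      norm_num [Tower.val, bp, map_one, mul_assoc] at * <;>
      simp only [*, and_true, true_and]
  · simp only [gens, cBase, List.forall₂_cons, List.Forall₂.nil, and_true, Option.some.injEq, reduceCtorEq,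
      false_imp_iff, implies_true, forall_eq', true_and, cond_true, cond_false, map_one, mul_one]

/-- The cyclic case. -/
theorem index_two_cyclic (hP : PatFour F) {d : G} (hd : Pres F d) (hm : d * t * d⁻¹ = t * F.ι pW)
    (hw : d * F.ι pW * d⁻¹ = F.ι pT) (hz : d * F.ι pZ * d⁻¹ = F.ι pZ) :
    ∃ H' : Subgroup G, H'.index = 2 := by
  obtain ⟨e, j, C⟩ := exists_cGen hP hd hm hw hz
  obtain ⟨h, h4⟩ := cGen_four hP C
  obtain ⟨M, hrs, hbase⟩ := exists_cModel C h4
  have fin : ∀ (facts : List (ℕ × Bool)) (steps : List Step), cOK (cRels j h) facts steps = true →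
      (∀ p ∈ facts, (IsConj t (M.ev p.1) ↔ p.2 = true)) → ∃ H' : Subgroup G, H'.index = 2 := by
    intro facts steps hc hf
    rw [← hrs] at hc
    simp only [cOK, Bool.and_eq_true, ← hbase] at hc
    have hs := Model.run_sound hP (M.hasAut_fix hc.1) steps (M.start_sound hP (2 ^ M.rs.length) facts hf)
    cases hk : run M.rs cImg steps (start (2 ^ M.rs.length) M.base facts) with
    | none => rw [hk] at hs; exact hs.elim
    | some k =>
      rw [hk] at hs hc
      simp only [Bool.and_eq_true, List.all_eq_true, Bool.or_eq_true, beq_iff_eq, bne_iff_ne] at hc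
      obtain ⟨-, ⟨⟨hhom, hcomp⟩, hdiv⟩, hne⟩ := hc
      refine Model.index_two_transfer cPhi hhom hs hcomp
        (fun a ha => Nat.dvd_of_mod_eq_zero ((hdiv a (mem_cVals a)).resolve_left ha)) ?_
      have e : cVals.toFinset = (Finset.univ : Finset CVal) :=
        Finset.eq_univ_of_forall fun a => List.mem_toFinset.2 (mem_cVals a)
      rwa [← e, List.prod_toFinset _ (by decide +kernel)]
  have cons : ∀ (x : ℕ) (c : Bool) (l : List (ℕ × Bool)), (IsConj t (M.ev x) ↔ c = true) →
      (∀ p ∈ l, (IsConj t (M.ev p.1) ↔ p.2 = true)) → ∀ p ∈ (x, c) :: l, (IsConj t (M.ev p.1) ↔ p.2 = true) :=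
    fun x c l hx hl p hp => by
      rcases List.mem_cons.1 hp with rfl | hp
      · exact hx
      · exact hl p hp
  have nil : ∀ p ∈ ([] : List (ℕ × Bool)), (IsConj t (M.ev p.1) ↔ p.2 = true) := by simp
  classical
  have val : ∀ x, IsConj t (M.ev x) ↔ decide (IsConj t (M.ev x)) = true := fun x => decide_eq_true_iff.symm
  obtain ⟨h000, h001, h002, h003⟩ := cOK_00
  obtain ⟨h010, h011, h012, h013⟩ := cOK_01
  obtain ⟨h100, h101, h102, h103, h104, h105, h106, h107⟩ := cOK_10
  cases j <;> cases h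
  · have hf := cons 2 _ _ (val 2) (cons 14 _ _ (val 14) nil)
    revert hf
    cases decide (IsConj t (M.ev 2)) <;> cases decide (IsConj t (M.ev 14)) <;> intro hf
    exacts [fin _ _ h000 hf, fin _ _ h002 hf, fin _ _ h001 hf, fin _ _ h003 hf]
  · have hf := cons 18 _ _ (val 18) (cons 30 _ _ (val 30) nil)
    revert hf
    cases decide (IsConj t (M.ev 18)) <;> cases decide (IsConj t (M.ev 30)) <;> intro hf
    exacts [fin _ _ h010 hf, fin _ _ h012 hf, fin _ _ h011 hf, fin _ _ h013 hf]
  · have hf := cons 6 _ _ (val 6) (cons 10 _ _ (val 10) (cons 30 _ _ (val 30) nil))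
    revert hf
    cases decide (IsConj t (M.ev 6)) <;> cases decide (IsConj t (M.ev 10)) <;>
      cases decide (IsConj t (M.ev 30)) <;> intro hf
    exacts [fin _ _ h100 hf, fin _ _ h104 hf, fin _ _ h102 hf, fin _ _ h106 hf,
      fin _ _ h101 hf, fin _ _ h105 hf, fin _ _ h103 hf, fin _ _ h107 hf]
  · exact fin _ _ cOK_11 nil

end Cfsg.Agent.SixInv
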