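import Cfsg.Agent.Lib.SixInv.Init
import Mathlib.Data.ZMod.Basic
import Mathlib.Data.Fintype.Prod

/-!
The cyclic case: relations and certificates of the models of order 128.
-/

set_option autoImplicit false
set_option linter.unusedSectionVars false
set_option maxRecDepth 100000

namespace Cfsg.Agent.SixInv

open Subgroup

def cc000 : List Step :=
  [.conj 2 4 98, .conj 2 8 34, .conj 2 16 66, .conj 14 1 46, .conj 14 2 78, .conj 14 8 110]

def cc001 : List Step :=
  [.conj 2 4 98, .conj 2 8 34, .conj 2 16 66, .conj 14 1 46, .conj 14 2 78, .conj 14 8 110]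

def cc002 : List Step :=
  [.conj 2 4 98, .conj 2 8 34, .conj 2 16 66, .conj 14 1 46, .conj 14 2 78, .conj 14 8 110]

def cc003 : List Step :=
  [.conj 2 4 98, .conj 2 8 34, .conj 2 16 66, .conj 14 1 46, .conj 14 2 78, .conj 14 8 110]

def cc010 : List Step :=
  [.conj 18 1 50, .conj 18 2 82, .conj 18 4 114, .conj 30 4 62, .conj 30 8 126, .conj 30 16 94]

def cc011 : List Step :=
  [.conj 18 1 50, .conj 18 2 82, .conj 18 4 114, .conj 30 4 62, .conj 30 8 126, .conj 30 16 94]

def cc012 : List Step :=
  [.conj 18 1 50, .conj 18 2 82, .conj 18 4 114, .conj 30 4 62, .conj 30 8 126, .conj 30 16 94]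

def cc013 : List Step :=
  [.conj 18 1 50, .conj 18 2 82, .conj 18 4 114, .conj 30 4 62, .conj 30 8 126, .conj 30 16 94]

def cc100 : List Step :=
  [.conj 30 2 94, .law 20 10]

def cc101 : List Step :=
  [.big 2, .law 6 2]

def cc102 : List Step :=
  [.big 2, .law 10 2]

def cc103 : List Step :=
  [.big 2, .law 6 2]

def cc104 : List Step :=
  [.big 2, .big 34, .conj 2 16 66, .conj 6 1 42, .conj 6 8 70, .conj 10 1 102,
   .conj 10 4 74, .conj 30 1 62, .conj 30 2 94, .conj 34 1 98, .conj 42 4 106, .conj 102 8 38,
   .conj 62 2 126]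

def cc105 : List Step :=
  [.big 2, .law 6 2]

def cc106 : List Step :=
  [.big 2, .law 10 2]

def cc107 : List Step :=
  [.big 2, .law 6 2]

def cc110 : List Step :=
  [.big 14, .big 46, .conj 14 4 78, .conj 46 1 110, .law 20 14, .law 52 14,
   .conj 90 1 22, .conj 90 2 26, .conj 122 1 118, .conj 122 2 58, .conj 22 2 86, .conj 118 2 54,
   .law 22 4, .law 54 4, .conj 18 2 82, .conj 50 2 114]

/-- The relations: the twist of the image of `pA` and the fourth power of the generator. -/
def cRels : Bool → Bool → List Tower.Rel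
  | false, false => [(1, [1, 20, 2, 56, 48, 32]), (0, [25, 10, 20, 8, 16]), (0, [9, 2, 4, 8]), (0, [1, 2, 4]),
      (0, [1, 2]), (0, [1]), (0, [])]
  | false, true => [(1, [1, 20, 2, 56, 48, 32]), (16, [25, 10, 20, 8, 16]), (0, [9, 2, 4, 8]), (0, [1, 2, 4]),
      (0, [1, 2]), (0, [1]), (0, [])]
  | true, false => [(1, [1, 20, 50, 56, 48, 32]), (0, [1, 2, 20, 8, 16]), (0, [9, 2, 4, 8]), (0, [1, 2, 4]),
      (0, [1, 2]), (0, [1]), (0, [])]
  | true, true => [(1, [1, 20, 50, 56, 48, 32]), (16, [1, 2, 20, 8, 16]), (0, [9, 2, 4, 8]), (0, [1, 2, 4]),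
      (0, [1, 2]), (0, [1]), (0, [])]

/-- The coordinates. -/
def cBase : List Coord :=
  [none, none, some (false, pA), some (false, pB), some (true, 1), some (false, pW), some (false, pZ)]

/-- Codes of the Sylow subgroup. -/
def cCands : List ℕ := (List.range 32).map (4 * ·)

theorem cRels_ok : ∀ j h, Tower.Bounded (cRels j h) = true ∧ 16 < 2 ^ (cRels j h).length ∧
    Option.map (fun p => (p.1, code p.2)) (coord cBase 16) = some (true, code 1) ∧
    kerCheck (cRels j h) cBase 16 cCands = true := by decide +kernel

/-- The values. -/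
abbrev CVal : Type := Multiplicative (ZMod 4 × ZMod 2)

/-- The exponent of the generator and of `t`. -/
def cPhi (x : ℕ) : CVal :=
  Multiplicative.ofAdd ((((x % 4 : ℕ) : ℕ) : ZMod 4), if x.testBit 4 then 1 else 0)

/-- The identity images. -/
def cImg : List ℕ := [2, 4, 8, 16, 32, 64]

/-- All values. -/
def cVals : List CVal :=
  ([0, 1, 2, 3] : List (ZMod 4)).flatMap fun a => ([0, 1] : List (ZMod 2)).map fun b => Multiplicative.ofAdd (a, b)

theorem mem_cVals : ∀ a : CVal, a ∈ cVals := by decide +kernel

/-- A derivation ends in a contradiction or in a nontrivial transfer. -/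
def cOK (rs : List Tower.Rel) (facts : List (ℕ × Bool)) (steps : List Step) : Bool :=
  (List.range (2 ^ rs.length)).all (fun x => x % 2 != 0 || Tower.pw (Tower.mulC rs) cImg (x / 2) == x) &&
    match run rs cImg steps (start (2 ^ rs.length) cBase facts) with
    | none => true
    | some k => homCheck rs cPhi && complete rs cPhi 1 k &&
        cVals.all (fun a => a == 1 || (countVal rs cPhi a k * 1440) % 2 ^ rs.length == 0) &&
        ((cVals.map fun a => a ^ (countVal rs cPhi a k * 1440 / 2 ^ rs.length)).prod != 1)

theorem cOK_00 : cOK (cRels false false) [(2, false), (14, false)] cc000 = true ∧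
    cOK (cRels false false) [(2, true), (14, false)] cc001 = true ∧
    cOK (cRels false false) [(2, false), (14, true)] cc002 = true ∧
    cOK (cRels false false) [(2, true), (14, true)] cc003 = true := by
  refine ⟨?_, ?_, ?_, ?_⟩ <;> decide +kernel

theorem cOK_01 : cOK (cRels false true) [(18, false), (30, false)] cc010 = true ∧
    cOK (cRels false true) [(18, true), (30, false)] cc011 = true ∧
    cOK (cRels false true) [(18, false), (30, true)] cc012 = true ∧
    cOK (cRels false true) [(18, true), (30, true)] cc013 = true := by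
  refine ⟨?_, ?_, ?_, ?_⟩ <;> decide +kernel

theorem cOK_10 : cOK (cRels true false) [(6, false), (10, false), (30, false)] cc100 = true ∧
    cOK (cRels true false) [(6, true), (10, false), (30, false)] cc101 = true ∧
    cOK (cRels true false) [(6, false), (10, true), (30, false)] cc102 = true ∧
    cOK (cRels true false) [(6, true), (10, true), (30, false)] cc103 = true ∧
    cOK (cRels true false) [(6, false), (10, false), (30, true)] cc104 = true ∧
    cOK (cRels true false) [(6, true), (10, false), (30, true)] cc105 = true ∧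
    cOK (cRels true false) [(6, false), (10, true), (30, true)] cc106 = true ∧
    cOK (cRels true false) [(6, true), (10, true), (30, true)] cc107 = true := by
  refine ⟨?_, ?_, ?_, ?_, ?_, ?_, ?_, ?_⟩ <;> decide +kernel

theorem cOK_11 : cOK (cRels true true) [] cc110 = true := by decide +kernel

end Cfsg.Agent.SixInv
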