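import Cfsg.Agent.Lib.SevenInv.Count
import Mathlib.GroupTheory.Perm.Cycle.Type
import Mathlib.GroupTheory.Sylow

/-!
An involution acting on the cosets of a subgroup: the number of fixed cosets of a given kind, the
sign of the permutation, and the transfer into an abelian group.
-/

set_option autoImplicit false
set_option linter.unusedSectionVars false

namespace Cfsg.Agent.SixInv

open Subgroup MulAction
open Cfsg.Agent.SevenInv (index_two_of_sign)

variable {G : Type*} [Group G] [Finite G]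

/-- `P` is invariant under conjugation by `H`. -/
def Inv (H : Subgroup G) (P : Set G) : Prop := ∀ a ∈ H, ∀ y, (a⁻¹ * y * a ∈ P ↔ y ∈ P)

/-- The conjugates of `x` in `P`. -/
def conjOf (P : Set G) (x : G) : Set G := {y | IsConj x y ∧ y ∈ P}

/-- The cosets `g H` with `x ^ g` in `P`. -/
def fixOf (H : Subgroup G) (P : Set G) (x : G) : Set (G ⧸ H) := {c | c.out⁻¹ * x * c.out ∈ P}

variable {H : Subgroup G} {P : Set G} {x : G}

/-- The double count. -/
theorem card_fixOf_mul (hP : Inv H P) :
    Nat.card (fixOf H P x) * Nat.card H =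
      Nat.card (conjOf P x) * Nat.card (centralizer ({x} : Set G)) := by
  classical
  set S : Set G := {g | g⁻¹ * x * g ∈ P} with hS
  have hmem : ∀ g : G, ((g : G ⧸ H) ∈ fixOf H P x) ↔ g ∈ S := by
    intro g
    obtain ⟨a, ha⟩ := QuotientGroup.mk_out_eq_mul H g
    show (g : G ⧸ H).out⁻¹ * x * (g : G ⧸ H).out ∈ P ↔ g⁻¹ * x * g ∈ P
    rw [ha, ← hP a a.2 (g⁻¹ * x * g)]
    group
  have e1 : S ≃ fixOf H P x × H :=
    { toFun := fun g => (⟨(g.1 : G ⧸ H), (hmem g.1).2 g.2⟩,
        ⟨(g.1 : G ⧸ H).out⁻¹ * g.1, QuotientGroup.eq.1 (QuotientGroup.out_eq' _)⟩)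
      invFun := fun p => ⟨p.1.1.out * p.2.1, (hmem _).1 (by
        rw [QuotientGroup.mk_mul_of_mem _ p.2.2, QuotientGroup.out_eq']; exact p.1.2)⟩
      left_inv := fun g => Subtype.ext (mul_inv_cancel_left _ _)
      right_inv := fun p => by
        have hm : ((p.1.1.out * p.2.1 : G) : G ⧸ H) = p.1.1 := by
          rw [QuotientGroup.mk_mul_of_mem _ p.2.2, QuotientGroup.out_eq']
        refine Prod.ext (Subtype.ext hm) (Subtype.ext ?_)
        show (_ : G ⧸ H).out⁻¹ * (p.1.1.out * p.2.1) = p.2.1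
        rw [hm, inv_mul_cancel_left] }
  have hpick : ∀ y : conjOf P x, ∃ g : G, g⁻¹ * x * g = y.1 := by
    intro y
    obtain ⟨g, hg⟩ := isConj_iff.1 y.2.1
    exact ⟨g⁻¹, by rw [inv_inv]; exact hg⟩
  choose pick hp using hpick
  have e2 : S ≃ conjOf P x × centralizer ({x} : Set G) :=
    { toFun := fun g =>
        let y : conjOf P x := ⟨g.1⁻¹ * x * g.1, isConj_iff.2 ⟨g.1⁻¹, by rw [inv_inv]⟩, g.2⟩
        (y, ⟨g.1 * (pick y)⁻¹, mem_centralizer_singleton_iff.2 (by
          have h := hp y
          have h' : (pick y)⁻¹ * x * pick y = g.1⁻¹ * x * g.1 := h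
          calc g.1 * (pick y)⁻¹ * x = g.1 * ((pick y)⁻¹ * x * pick y) * (pick y)⁻¹ := by group
            _ = g.1 * (g.1⁻¹ * x * g.1) * (pick y)⁻¹ := by rw [h']
            _ = x * (g.1 * (pick y)⁻¹) := by group)⟩)
      invFun := fun p => ⟨p.2.1 * pick p.1, by
        have hc := mem_centralizer_singleton_iff.1 p.2.2
        have e : (p.2.1 * pick p.1)⁻¹ * x * (p.2.1 * pick p.1) = p.1.1 := by
          rw [← hp p.1]
          calc (p.2.1 * pick p.1)⁻¹ * x * (p.2.1 * pick p.1)
              = (pick p.1)⁻¹ * (p.2.1⁻¹ * (x * p.2.1)) * pick p.1 := by group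
            _ = _ := by rw [← hc, inv_mul_cancel_left]
        show (p.2.1 * pick p.1)⁻¹ * x * (p.2.1 * pick p.1) ∈ P
        rw [e]; exact p.1.2.2⟩
      left_inv := fun g => Subtype.ext (inv_mul_cancel_right _ _)
      right_inv := fun p => by
        have hc := mem_centralizer_singleton_iff.1 p.2.2
        have e : (p.2.1 * pick p.1)⁻¹ * x * (p.2.1 * pick p.1) = p.1.1 := by
          rw [← hp p.1]
          calc (p.2.1 * pick p.1)⁻¹ * x * (p.2.1 * pick p.1)
              = (pick p.1)⁻¹ * (p.2.1⁻¹ * (x * p.2.1)) * pick p.1 := by group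
            _ = _ := by rw [← hc, inv_mul_cancel_left]
        refine Prod.ext (Subtype.ext e) (Subtype.ext ?_)
        have key : ∀ y, y = p.1 → p.2.1 * pick p.1 * (pick y)⁻¹ = p.2.1 := by
          rintro _ rfl; exact mul_inv_cancel_right _ _
        exact key _ (Subtype.ext e) }
  rw [← Nat.card_prod, ← Nat.card_prod]
  exact Nat.card_congr (e1.symm.trans e2)

theorem inv_self_set (H : Subgroup G) : Inv H (H : Set G) := fun a ha y => by
  constructor
  · intro h
    have := mul_mem (mul_mem ha h) (inv_mem ha)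
    simpa [mul_assoc] using this
  · intro h
    exact mul_mem (mul_mem (inv_mem ha) h) ha

theorem out_mem_iff (c : G ⧸ H) : x • c = c ↔ c.out⁻¹ * x * c.out ∈ H := by
  conv_lhs => rw [← QuotientGroup.out_eq' c, MulAction.Quotient.smul_mk, QuotientGroup.eq, smul_eq_mul,
    ← Subgroup.inv_mem_iff]
  rw [show ((x * c.out)⁻¹ * c.out)⁻¹ = c.out⁻¹ * x * c.out by group]

/-- The sign criterion. -/
theorem index_two_of_fix (hx : x * x = 1) {N u : ℕ}
    (hcount : Nat.card (conjOf (H : Set G) x) * Nat.card (centralizer ({x} : Set G)) = N * Nat.card H)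
    (hi : H.index = N + (4 * u + 2)) : ∃ H' : Subgroup G, H'.index = 2 := by
  classical
  haveI : Fintype (G ⧸ H) := Fintype.ofFinite _
  rw [← card_fixOf_mul (inv_self_set H)] at hcount
  have hN := Nat.eq_of_mul_eq_mul_right Nat.card_pos hcount
  set σ : Equiv.Perm (G ⧸ H) := MulAction.toPermHom G (G ⧸ H) x with hσ
  have hsupp : σ.support = ((fixOf H (H : Set G) x)ᶜ).toFinset := by
    ext c
    simp only [Equiv.Perm.mem_support, Set.mem_toFinset, Set.mem_compl_iff, fixOf, Set.mem_ofPred_eq,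
      SetLike.mem_coe, ← out_mem_iff]
    rfl
  have hcard : σ.support.card = 4 * u + 2 := by
    have hN' : (fixOf H (H : Set G) x).toFinset.card = N := by
      rw [Set.toFinset_card, ← Nat.card_eq_fintype_card, hN]
    rw [hsupp, Set.toFinset_compl, Finset.card_compl, hN', ← Nat.card_eq_fintype_card,
      ← Subgroup.index_eq_card, hi, Nat.add_sub_cancel_left]
  have h2 : σ ^ 2 = 1 := by rw [hσ, ← map_pow, sq, hx, map_one]
  have hne : σ ≠ 1 := fun h => by
    rw [h, Equiv.Perm.support_one, Finset.card_empty] at hcard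
    omega
  obtain ⟨n, hn⟩ := Equiv.Perm.cycleType_prime_order (show (orderOf σ).Prime by
    rw [orderOf_eq_prime h2 hne]; exact Nat.prime_two)
  rw [orderOf_eq_prime h2 hne] at hn
  have hsum := Equiv.Perm.sum_cycleType σ
  rw [hn, Multiset.sum_replicate, smul_eq_mul, hcard] at hsum
  refine index_two_of_sign ((Equiv.Perm.sign).comp (MulAction.toPermHom G (G ⧸ H))) (g := x) ?_
  show Equiv.Perm.sign σ = -1
  rw [Equiv.Perm.sign_of_cycleType, hn, Multiset.sum_replicate, Multiset.card_replicate, smul_eq_mul,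
    show (n + 1) * 2 + (n + 1) = 2 * (3 * u + 1) + 1 by omega, pow_succ, pow_mul]
  simp

section Transfer

variable {A : Type*} [CommGroup A] [Finite A] (φ : H →* A)

/-- The elements of `H` with value `a`. -/
def valSet (a : A) : Set G := {y | ∃ hy : y ∈ H, φ ⟨y, hy⟩ = a}

theorem inv_valSet (a : A) : Inv H (valSet φ a) := by
  intro b hb y
  have key : ∀ (y c : G), c ∈ H → y ∈ valSet φ a → c⁻¹ * y * c ∈ valSet φ a := by
    rintro y c hc ⟨hy, hv⟩
    refine ⟨mul_mem (mul_mem (inv_mem hc) hy) hc, ?_⟩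
    have e : (⟨c⁻¹ * y * c, mul_mem (mul_mem (inv_mem hc) hy) hc⟩ : H) =
        (⟨c, hc⟩ : H)⁻¹ * ⟨y, hy⟩ * ⟨c, hc⟩ := rfl
    rw [e, map_mul, map_mul, map_inv, hv, mul_right_comm, inv_mul_cancel, one_mul]
  refine ⟨fun h => ?_, key y b hb⟩
  have := key _ b⁻¹ (inv_mem hb) h
  convert this using 1
  group

/-- The value at a fixed coset, and one elsewhere. -/
noncomputable def fixVal (φ : H →* A) (x : G) (c : G ⧸ H) : A :=
  open scoped Classical in
  if hc : c.out⁻¹ * x * c.out ∈ H then φ ⟨_, hc⟩ else 1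

theorem transfer_eq_prod (hx : x * x = 1) [Fintype (G ⧸ H)] :
    MonoidHom.transfer φ x = ∏ c : G ⧸ H, fixVal φ x c := by
  classical
  haveI : Fintype (Quotient (orbitRel (zpowers x) (G ⧸ H))) := Fintype.ofFinite _
  rw [MonoidHom.transfer_eq_prod_quotient_orbitRel_zpowers_quot]
  set f : Quotient (orbitRel (zpowers x) (G ⧸ H)) → A := fun q =>
    φ ⟨q.out.out⁻¹ * x ^ Function.minimalPeriod (x • ·) q.out * q.out.out,
      QuotientGroup.out_conj_pow_minimalPeriod_mem H x q.out⟩ with hf
  change ∏ q, f q = _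
  have hx2 : x ^ 2 = 1 := by rw [sq, hx]
  have hval : ∀ q : Quotient (orbitRel (zpowers x) (G ⧸ H)), f q = fixVal φ x q.out := by
    intro q
    have hd : Function.minimalPeriod (x • ·) q.out ∣ 2 := by
      rw [← MulAction.pow_smul_eq_iff_minimalPeriod_dvd, hx2, one_smul]
    rcases (Nat.dvd_prime Nat.prime_two).1 hd with e | e
    · have hm := QuotientGroup.out_conj_pow_minimalPeriod_mem H x q.out
      rw [e, pow_one] at hm
      rw [hf, fixVal, dif_pos hm]
      simp only [e, pow_one]
    · have h1 : f q = 1 := by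
        rw [hf]
        simp only [e, hx2, mul_one, inv_mul_cancel]
        exact map_one φ
      rw [h1, fixVal, dif_neg]
      intro hc
      have h2 := Function.minimalPeriod_eq_one_iff_isFixedPt (f := (x • ·)) (x := q.out) |>.2
        ((out_mem_iff q.out).2 hc)
      omega
  rw [Finset.prod_congr rfl fun q _ => hval q]
  refine Finset.prod_bij_ne_one (fun q _ _ => q.out) (fun _ _ _ => Finset.mem_univ _)
    (fun a _ _ b _ _ h => by rw [← Quotient.out_eq a, ← Quotient.out_eq b, h])
    (fun c _ hc => ?_) (fun _ _ _ => rfl)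
  have hfix : x • c = c := by
    refine (out_mem_iff c).2 ?_
    by_contra h
    rw [fixVal, dif_neg h] at hc
    exact hc rfl
  have hout : (Quotient.mk'' c : Quotient (orbitRel (zpowers x) (G ⧸ H))).out = c := by
    obtain ⟨⟨_, i, rfl⟩, hi⟩ := Quotient.eq''.1 (Quotient.out_eq'
      (Quotient.mk'' c : Quotient (orbitRel (zpowers x) (G ⧸ H))))
    have hst : x ∈ MulAction.stabilizer G c := hfix
    exact hi.symm.trans (MulAction.mem_stabilizer_iff.1 (Subgroup.zpow_mem _ hst i))
  exact ⟨Quotient.mk'' c, Finset.mem_univ _, by rwa [hout], hout⟩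

omit [Finite G] in
theorem conj_square {y : G} (hx : x * x = 1) (h : IsConj x y) : y * y = 1 := by
  obtain ⟨g, rfl⟩ := isConj_iff.1 h
  rw [show g * x * g⁻¹ * (g * x * g⁻¹) = g * (x * x) * g⁻¹ by group, hx, mul_one, mul_inv_cancel]

theorem transfer_eq_single (hx : x * x = 1) {ε : A} {M : ℕ} (hM : Odd M) (hε : ε ≠ 1)
    (hcount : Nat.card (conjOf (valSet φ ε) x) * Nat.card (centralizer ({x} : Set G)) = M * Nat.card H)
    (hrest : ∀ a : A, a ≠ ε → a ≠ 1 → ∃ m, Even m ∧
      Nat.card (conjOf (valSet φ a) x) * Nat.card (centralizer ({x} : Set G)) = m * Nat.card H) :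
    MonoidHom.transfer φ x = ε := by
  classical
  haveI : Fintype (G ⧸ H) := Fintype.ofFinite _
  haveI : Fintype A := Fintype.ofFinite _
  rw [transfer_eq_prod φ hx, ← Finset.prod_fiberwise Finset.univ (fixVal φ x) (fixVal φ x)]
  rw [Finset.prod_congr rfl fun a _ => Finset.prod_eq_pow_card (b := a)
    fun c hc => (Finset.mem_filter.1 hc).2]
  have hn : ∀ a : A, a ≠ 1 → (Finset.univ.filter fun c => fixVal φ x c = a).card * Nat.card H =
      Nat.card (conjOf (valSet φ a) x) * Nat.card (centralizer ({x} : Set G)) := by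
    intro a ha
    rw [← card_fixOf_mul (inv_valSet φ a), ← Set.ncard_coe_finset, Nat.card_coe_set_eq]
    congr 2
    ext c
    rw [Finset.mem_coe, Finset.mem_filter]
    show (c ∈ Finset.univ ∧ fixVal φ x c = a) ↔ c.out⁻¹ * x * c.out ∈ valSet φ a
    constructor
    · rintro ⟨-, h⟩
      by_cases hc : c.out⁻¹ * x * c.out ∈ H
      · rw [fixVal, dif_pos hc] at h
        exact ⟨hc, h⟩
      · rw [fixVal, dif_neg hc] at h
        exact absurd h.symm ha
    · rintro ⟨hc, h⟩
      refine ⟨Finset.mem_univ _, ?_⟩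
      rw [fixVal, dif_pos hc, h]
  have hne : ε * ε = 1 := by
    have h0 : 0 < Nat.card (conjOf (valSet φ ε) x) := by
      refine Nat.pos_of_mul_pos_right (b := Nat.card (centralizer ({x} : Set G))) ?_
      rw [hcount]
      exact Nat.mul_pos hM.pos Nat.card_pos
    obtain ⟨⟨y, hy, hyH, hv⟩⟩ := (Nat.card_pos_iff.1 h0).1
    rw [← hv, ← map_mul, ← map_one φ]
    exact congrArg φ (Subtype.ext (conj_square hx hy))
  rw [Finset.prod_eq_single ε]
  · have hc := hn ε hε
    rw [hcount] at hc
    obtain ⟨k, rfl⟩ := hM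
    rw [Nat.eq_of_mul_eq_mul_right Nat.card_pos hc, pow_succ, pow_mul, sq, hne, one_pow, one_mul]
  · intro a _ ha
    by_cases h1 : a = 1
    · rw [h1, one_pow]
    obtain ⟨m, hm, he⟩ := hrest a ha h1
    have hc := hn a h1
    rw [he] at hc
    rw [Nat.eq_of_mul_eq_mul_right Nat.card_pos hc]
    obtain ⟨k, rfl⟩ := hm
    rcases Nat.eq_zero_or_pos k with rfl | hk
    · rw [pow_zero]
    · have h0 : 0 < Nat.card (conjOf (valSet φ a) x) := by
        refine Nat.pos_of_mul_pos_right (b := Nat.card (centralizer ({x} : Set G))) ?_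
        rw [he]
        exact Nat.mul_pos (by omega) Nat.card_pos
      obtain ⟨⟨y, hy, hyH, hv⟩⟩ := (Nat.card_pos_iff.1 h0).1
      have ha2 : a * a = 1 := by
        rw [← hv, ← map_mul, ← map_one φ]
        exact congrArg φ (Subtype.ext (conj_square hx hy))
      rw [pow_add, ← mul_pow, ha2, one_pow]
  · exact fun h => absurd (Finset.mem_univ _) h

theorem index_two_of_hom (f : G →* A) {g : G} (hg : f g * f g = 1) (hne : f g ≠ 1) :
    ∃ H' : Subgroup G, H'.index = 2 := by
  haveI : Fact (Nat.Prime 2) := ⟨Nat.prime_two⟩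
  set R := f.range
  have hev : 2 ∣ Nat.card R := by
    have ho : orderOf (⟨f g, g, rfl⟩ : R) = 2 :=
      orderOf_eq_prime (Subtype.ext (by rw [sq]; exact hg)) (fun h => hne (congrArg Subtype.val h))
    exact ho ▸ orderOf_dvd_natCard _
  set S : Subgroup R := (powMonoidHom 2 : R →* R).range with hS
  have hlt : S ≠ ⊤ := by
    intro h
    have hsur : Function.Surjective (powMonoidHom 2 : R →* R) := MonoidHom.range_eq_top.1 h
    have hinj := Finite.injective_iff_surjective.2 hsur
    obtain ⟨y, hy⟩ := exists_prime_orderOf_dvd_card' 2 hev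
    have : y = 1 := hinj (by
      show y ^ 2 = (1 : R) ^ 2
      rw [one_pow, ← hy, pow_orderOf_eq_one])
    rw [this, orderOf_one] at hy
    exact absurd hy (by norm_num)
  have hp : IsPGroup 2 (R ⧸ S) := by
    intro q
    induction q using QuotientGroup.induction_on with
    | _ r => exact ⟨1, by
        rw [pow_one, ← QuotientGroup.mk_pow, QuotientGroup.eq_one_iff]
        exact ⟨r, rfl⟩⟩
  obtain ⟨k, hk⟩ := IsPGroup.iff_card.1 hp
  have hk0 : k ≠ 0 := by
    intro h
    rw [h, pow_zero] at hk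
    exact hlt (Subgroup.index_eq_one.1 (by rw [Subgroup.index_eq_card, hk]))
  obtain ⟨k, rfl⟩ := Nat.exists_eq_succ_of_ne_zero hk0
  obtain ⟨K, hK⟩ := Sylow.exists_subgroup_card_pow_prime (G := R ⧸ S) 2
    (show 2 ^ k ∣ Nat.card (R ⧸ S) from hk ▸ pow_dvd_pow 2 (Nat.le_succ k))
  have hKi : K.index = 2 := by
    have := K.card_mul_index
    rw [hK, hk, pow_succ] at this
    exact Nat.eq_of_mul_eq_mul_left (by positivity) this
  refine ⟨K.comap ((QuotientGroup.mk' S).comp f.rangeRestrict), ?_⟩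
  rw [Subgroup.index_comap_of_surjective _ ?_, hKi]
  rw [MonoidHom.coe_comp]
  exact (QuotientGroup.mk'_surjective S).comp f.rangeRestrict_surjective

/-- The transfer criterion. -/
theorem index_two_of_value (hx : x * x = 1) {ε : A} {M : ℕ} (hM : Odd M) (hε : ε ≠ 1)
    (hcount : Nat.card (conjOf (valSet φ ε) x) * Nat.card (centralizer ({x} : Set G)) = M * Nat.card H)
    (hrest : ∀ a : A, a ≠ ε → a ≠ 1 → ∃ m, Even m ∧
      Nat.card (conjOf (valSet φ a) x) * Nat.card (centralizer ({x} : Set G)) = m * Nat.card H) :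
    ∃ H' : Subgroup G, H'.index = 2 := by
  have hT := transfer_eq_single φ hx hM hε hcount hrest
  refine index_two_of_hom (MonoidHom.transfer φ) (g := x) ?_ ?_
  · rw [← map_mul, hx, map_one]
  · rwa [hT]

end Transfer

end Cfsg.Agent.SixInv
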