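import Cfsg.Agent.Lib.SixInv.Init

/-!
The check run on a model for a character of order two.
-/

set_option autoImplicit false
set_option linter.unusedSectionVars false
set_option maxRecDepth 100000

namespace Cfsg.Agent.SixInv

open Subgroup

/-- A sign given by a predicate. -/
def sgnOf (p : ℕ → Bool) (x : ℕ) : ℤˣ := bif p x then -1 else 1

/-- The derivation ends in a contradiction, or in a count with odd normalisation. -/
def signOK (rs : List Tower.Rel) (base : List Coord) (img : List ℕ) (facts : List (ℕ × Bool))
    (steps : List Step) (φ : ℕ → Bool) (m : ℕ) : Bool :=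
  (List.range (2 ^ rs.length)).all (fun x => x % 2 != 0 || Tower.pw (Tower.mulC rs) img (x / 2) == x) &&
    match run rs img steps (start (2 ^ rs.length) base facts) with
    | none => true
    | some k => homCheck rs (sgnOf φ) && complete rs (sgnOf φ) 1 k &&
        decide (countVal rs (sgnOf φ) (-1) k * 1440 = m * 2 ^ rs.length) && decide (m % 2 = 1)

variable {G : Type*} [Group G] [Finite G] {t : G} {F : Fr t}

theorem Model.index_two_checked (hP : PatFour F) (M : Model F) {rs : List Tower.Rel} {base : List Coord}
    (hrs : M.rs = rs) (hbase : M.base = base) {img : List ℕ} {facts : List (ℕ × Bool)} {steps : List Step}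
    {φ : ℕ → Bool} {m : ℕ} (hc : signOK rs base img facts steps φ m = true)
    (hfacts : ∀ p ∈ facts, (IsConj t (M.ev p.1) ↔ p.2 = true)) : ∃ H' : Subgroup G, H'.index = 2 := by
  subst hrs hbase
  simp only [signOK, Bool.and_eq_true] at hc
  have hs := Model.run_sound hP (M.hasAut_fix hc.1) steps (M.start_sound hP (2 ^ M.rs.length) facts hfacts)
  cases hk : run M.rs img steps (start (2 ^ M.rs.length) M.base facts) with
  | none => rw [hk] at hs; exact hs.elim
  | some k =>
    rw [hk] at hs hc
    simp only [Bool.and_eq_true, decide_eq_true_iff] at hc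
    obtain ⟨-, ⟨⟨hhom, hcomp⟩, hcount⟩, hm⟩ := hc
    exact Model.index_two_sign (sgnOf φ) hhom hs hcomp (Nat.odd_iff.2 hm) hcount

end Cfsg.Agent.SixInv
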