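import Cfsg.Agent.Lib.SixInv.Perm

/-!
The exceptional automorphism of the symmetric group of degree six, from the six totals.
-/

set_option autoImplicit false
set_option maxRecDepth 100000
set_option linter.unusedSectionVars false

namespace Cfsg.Agent.SixInv

open Equiv

/-- The six totals. -/
def totals : List (List S6) :=
  [
    [swap 0 1 * swap 2 4 * swap 3 5,
      swap 0 2 * swap 1 5 * swap 3 4,
      swap 0 3 * swap 1 2 * swap 4 5,
      swap 0 4 * swap 1 3 * swap 2 5,
      swap 0 5 * swap 1 4 * swap 2 3],
    [swap 0 1 * swap 2 5 * swap 3 4,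
      swap 0 2 * swap 1 4 * swap 3 5,
      swap 0 3 * swap 1 2 * swap 4 5,
      swap 0 4 * swap 1 5 * swap 2 3,
      swap 0 5 * swap 1 3 * swap 2 4],
    [swap 0 1 * swap 2 5 * swap 3 4,
      swap 0 2 * swap 1 3 * swap 4 5,
      swap 0 3 * swap 1 5 * swap 2 4,
      swap 0 4 * swap 1 2 * swap 3 5,
      swap 0 5 * swap 1 4 * swap 2 3],
    [swap 0 1 * swap 2 4 * swap 3 5,
      swap 0 2 * swap 1 3 * swap 4 5,
      swap 0 3 * swap 1 4 * swap 2 5,
      swap 0 4 * swap 1 5 * swap 2 3,
      swap 0 5 * swap 1 2 * swap 3 4],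
    [swap 0 1 * swap 2 3 * swap 4 5,
      swap 0 2 * swap 1 4 * swap 3 5,
      swap 0 3 * swap 1 5 * swap 2 4,
      swap 0 4 * swap 1 3 * swap 2 5,
      swap 0 5 * swap 1 2 * swap 3 4],
    [swap 0 1 * swap 2 3 * swap 4 5,
      swap 0 2 * swap 1 5 * swap 3 4,
      swap 0 3 * swap 1 4 * swap 2 5,
      swap 0 4 * swap 1 2 * swap 3 5,
      swap 0 5 * swap 1 3 * swap 2 4]]

/-- A total. -/
def total (i : Fin 6) : List S6 := totals.getD i.val []

/-- `π` is the permutation of the totals induced by `σ`. -/
def Ind (σ π : S6) : Prop := ∀ i, ∀ s ∈ total i, σ * s * σ⁻¹ ∈ total (π i)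

/-- The check for `Ind`. -/
def indCheck (σ π : S6) : Bool :=
  (List.finRange 6).all fun i => (total i).all fun s => ((total (π i)).map code).contains (code (σ * s * σ⁻¹))

theorem ind_of_check {σ π : S6} (h : indCheck σ π = true) : Ind σ π := fun i s hs =>
  mem_of_code (List.all_eq_true.1 (List.all_eq_true.1 h i (List.mem_finRange i)) s hs)

theorem total_meet {i j : Fin 6} (h : i ≠ j) {a b : S6} (ha : a ∈ total i) (hb : b ∈ total i)
    (ha' : a ∈ total j) (hb' : b ∈ total j) : a = b := by
  have key : ((List.finRange 6).all fun i => (List.finRange 6).all fun j => i == j ||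
      ((total i).all fun a => (total i).all fun b => code a == code b ||
        !(((total j).map code).contains (code a)) || !(((total j).map code).contains (code b)))) = true := by
    decide +kernel
  have h1 := List.all_eq_true.1 (List.all_eq_true.1 key i (List.mem_finRange i)) j (List.mem_finRange j)
  simp only [Bool.or_eq_true, beq_iff_eq, h, false_or] at h1
  have h2 := List.all_eq_true.1 (List.all_eq_true.1 h1 a ha) b hb
  simp only [Bool.or_eq_true, beq_iff_eq] at h2
  rcases h2 with (e | e) | e
  · exact code_injective e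
  · rw [code_of_mem ha'] at e; simp at e
  · rw [code_of_mem hb'] at e; simp at e

theorem total_two (i : Fin 6) : ∃ a ∈ total i, ∃ b ∈ total i, a ≠ b := by
  have key : ((List.finRange 6).all fun i => (total i).any fun a => (total i).any fun b =>
      code a != code b) = true := by decide +kernel
  have h1 := List.all_eq_true.1 key i (List.mem_finRange i)
  simp only [List.any_eq_true, bne_iff_ne] at h1
  obtain ⟨a, ha, b, hb, hne⟩ := h1
  exact ⟨a, ha, b, hb, fun e => hne (congrArg code e)⟩

theorem Ind.unique {σ π π' : S6} (h : Ind σ π) (h' : Ind σ π') : π = π' := by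
  refine Equiv.ext fun i => by_contra fun hne => ?_
  obtain ⟨a, ha, b, hb, hab⟩ := total_two i
  exact hab (mul_left_cancel (mul_right_cancel
    (total_meet hne (h i a ha) (h i b hb) (h' i a ha) (h' i b hb))))

theorem Ind.mul {σ τ π ρ : S6} (h : Ind σ π) (h' : Ind τ ρ) : Ind (σ * τ) (π * ρ) := fun i s hs => by
  have := h _ _ (h' i s hs)
  rw [Equiv.Perm.mul_apply]
  convert this using 1
  group

theorem exists_ind (σ : S6) : ∃ π, Ind σ π := by
  induction σ using Equiv.Perm.swap_induction_on with
  | one => exact ⟨1, fun i s hs => by simpa using hs⟩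
  | swap_mul f x y hxy ih =>
    obtain ⟨π, hπ⟩ := ih
    have key : ∀ x y : Fin 6, x ≠ y →
        ((totals.flatMap id).any fun π => indCheck (swap x y) π) = true := by decide +kernel
    obtain ⟨ρ, -, hρ⟩ := List.any_eq_true.1 (key x y hxy)
    exact ⟨ρ * π, (ind_of_check hρ).mul hπ⟩

/-- The induced homomorphism. -/
noncomputable def outHom : S6 →* S6 :=
  MonoidHom.mk' (fun σ => (exists_ind σ).choose) fun σ τ =>
    (exists_ind (σ * τ)).choose_spec.unique ((exists_ind σ).choose_spec.mul (exists_ind τ).choose_spec)

theorem outHom_eq {σ π : S6} (h : indCheck σ π = true) : outHom σ = π :=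
  (exists_ind σ).choose_spec.unique (ind_of_check h)

theorem outHom_injective : Function.Injective outHom := by
  rw [injective_iff_map_eq_one]
  intro σ h
  have hI : Ind σ 1 := h ▸ (exists_ind σ).choose_spec
  have hfix : ∀ s ∈ totals.flatMap id, σ * s * σ⁻¹ = s := by
    intro s hs
    have key : ((totals.flatMap id).all fun s => (List.finRange 6).any fun i => (List.finRange 6).any fun j =>
        i != j && ((total i).map code).contains (code s) && ((total j).map code).contains (code s) &&
        ((totals.flatMap id).all fun r => !((total i).map code).contains (code r) ||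
          !((total j).map code).contains (code r) || code r == code s)) = true := by
      decide +kernel
    have h1 := List.all_eq_true.1 key s hs
    simp only [List.any_eq_true, Bool.and_eq_true, bne_iff_ne] at h1
    obtain ⟨i, -, j, -, ⟨⟨hij, hi⟩, hj⟩, -⟩ := h1
    have hi' := hI i s (mem_of_code hi)
    have hj' := hI j s (mem_of_code hj)
    rw [Equiv.Perm.one_apply] at hi' hj'
    exact total_meet hij hi' (mem_of_code hi) hj' (mem_of_code hj)
  have hsw : ∀ a b : Fin 6, a ≠ b → σ * swap a b = swap a b * σ := by
    intro a b hab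
    have key : ∀ a b : Fin 6, a ≠ b → ((totals.flatMap id).any fun p => (totals.flatMap id).any fun q =>
        (totals.flatMap id).any fun r => code (p * q * r) == code (swap a b)) = true := by decide +kernel
    have h1 := key a b hab
    simp only [List.any_eq_true, beq_iff_eq] at h1
    obtain ⟨p, hp, q, hq, r, hr, e⟩ := h1
    rw [← code_injective e]
    refine (mul_inv_eq_iff_eq_mul.1 ?_)
    calc σ * (p * q * r) * σ⁻¹ = σ * p * σ⁻¹ * (σ * q * σ⁻¹) * (σ * r * σ⁻¹) := by group
      _ = p * q * r := by rw [hfix p hp, hfix q hq, hfix r hr]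
  refine Equiv.ext fun a => ?_
  rw [Equiv.Perm.one_apply]
  by_contra hne
  have hthird : ∀ u v : Fin 6, ∃ c, c ≠ u ∧ c ≠ v := by decide
  obtain ⟨c, hca, hcb⟩ := hthird a (σ a)
  have := congrArg (fun f : S6 => f a) (hsw a c (Ne.symm hca))
  simp only [Equiv.Perm.mul_apply, swap_apply_left] at this
  rw [swap_apply_of_ne_of_ne hne (Ne.symm hcb)] at this
  exact hca (σ.injective this)

/-- The exceptional automorphism. -/
noncomputable def outS6 : S6 ≃* S6 :=
  MulEquiv.ofBijective outHom (Finite.injective_iff_bijective.1 outHom_injective)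

theorem outS6_eq {σ π : S6} (h : indCheck σ π = true) : outS6 σ = π := outHom_eq h

theorem out_w : outS6 pW = pT := outS6_eq (by decide +kernel)
theorem out_z : outS6 pZ = pZ := outS6_eq (by decide +kernel)
theorem out_t : outS6 pT = pW := outS6_eq (by decide +kernel)
theorem out_a : outS6 pA = pB * pW := outS6_eq (by decide +kernel)
theorem out_b : outS6 pB = pA * pT := outS6_eq (by decide +kernel)
theorem out_c : outS6 pC = pA * pW := outS6_eq (by decide +kernel)

end Cfsg.Agent.SixInv
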