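import Cfsg.Agent.Lib.SixInv.HCerts
import Mathlib.GroupTheory.Index

/-!
The untwisted case gives a subgroup of index two.
-/

set_option autoImplicit false
set_option linter.unusedSectionVars false
set_option maxRecDepth 100000

namespace Cfsg.Agent.SixInv

open Subgroup

variable {G : Type*} [Group G] [Finite G] {t : G} {F : Fr t}

attribute [local irreducible] Model.homOf Tower.mulC Tower.val run maskOf

theorem sgn_false {p : ℕ → Bool} {x : ℕ} : sgnOf p x = 1 ↔ p x = false := by
  unfold sgnOf
  cases p x <;> simp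

theorem chi_hom : homCheck (hRels false true) (sgnOf hChi) = true ∧
    ((List.range 256).all fun x => match coord hBase x with
      | some _ => !hChi x
      | none => true) = true ∧
    ((List.range 256).countP fun x => !hChi x) = 128 := by
  refine ⟨?_, ?_, ?_⟩ <;> decide +kernel

/-- The codes of the Sylow subgroup and three elements moving `t`. -/
theorem syl_codes : ((List.range 256).countP fun x => (coord hBase x).isSome) = 32 ∧
    ((List.range 256).all fun x => match coord hBase x with
      | some p => (tList.map code).contains (code p.2)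
      | none => true) = true ∧
    ([(8, true, pW), (6, true, pZ), (14, true, pT)] : List (ℕ × Bool × S6)).all (fun q =>
      ((List.range 256).any fun v => match coord hBase v with
        | some p => p.1 && code p.2 == code q.2.2 &&
            Tower.mulC (hRels false true) q.1 16 == Tower.mulC (hRels false true) v q.1
        | none => false) && !hChi q.1 &&
      (List.range 256).all fun c => !(coord hBase c).isSome || (List.range 256).any fun d =>
        (coord hBase d).isSome && Tower.mulC (hRels false true) c q.1 == Tower.mulC (hRels false true) q.1 d)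
      = true := by
  refine ⟨?_, ?_, ?_⟩ <;> decide +kernel

theorem xGens_ok : (xGens.all fun g => !hChi g.1 && Tower.mulC (hRels false true) g.1 g.2 == 0 &&
      decide (g.1 < 256) && decide (g.2 < 256)) = true ∧
    ((List.range 256).all fun x => hChi x || decide (x = 0) || xGens.any fun g =>
      decide (Tower.mulC (hRels false true) g.2 x < x)) = true := by
  refine ⟨?_, ?_⟩ <;> decide +kernel

/-- The last subcase. -/
theorem index_two_last (hP : PatFour F) (M : Model F) (hrs : M.rs = hRels false true) (hbase : M.base = hBase)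
    (hfacts : ∀ p ∈ hFacts true, (IsConj t (M.ev p.1) ↔ p.2 = true)) :
    ∃ H' : Subgroup G, H'.index = 2 := by
  classical
  have hN : M.N = 256 := by rw [Model.N, hrs]; rfl
  have h8 : 2 ^ M.rs.length = 256 := hN
  have hfix : M.HasAut hImg := by
    refine M.hasAut_fix ?_
    rw [hrs]; decide +kernel
  have hs := Model.run_sound hP hfix h01 (M.start_sound hP (2 ^ M.rs.length) (hFacts true) hfacts)
  have hlast : lastOK M.rs M.base = true := by rw [hrs, hbase]; exact last_ok
  simp only [lastOK] at hlast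
  cases hk : run M.rs hImg h01 (start (2 ^ M.rs.length) M.base (hFacts true)) with
  | none => rw [hk] at hs; exact hs.elim
  | some k =>
  rw [hk] at hs hlast
  simp only [Bool.and_eq_true, decide_eq_true_iff, List.all_eq_true, List.mem_range] at hlast
  obtain ⟨⟨⟨⟨h48, h32⟩, hdec⟩, hreps⟩, hcover⟩ := hlast
  have hD : ∀ x < 256, (IsConj t (M.ev x) ↔ k.1.testBit x = true) := fun x hx =>
    M.decided_iff hs (hN.symm ▸ hx) (hdec x hx)
  -- the normaliser of the Sylow subgroup
  have hhom : homCheck M.rs (sgnOf hChi) = true := by rw [hrs]; exact chi_hom.1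
  set χ := M.homOf (sgnOf hChi) hhom with hχ
  set X : Subgroup G := χ.ker.map M.H.subtype with hX
  have memX : ∀ g, g ∈ X ↔ ∃ x < 256, hChi x = false ∧ M.ev x = g := by
    intro g
    constructor
    · rintro ⟨⟨g', hg'⟩, hker, rfl⟩
      obtain ⟨x, hx, rfl⟩ := M.mem_H.1 hg'
      refine ⟨x, hN ▸ hx, sgn_false.1 ?_, rfl⟩
      rw [← M.homOf_ev (sgnOf hChi) hhom hx]
      exact MonoidHom.mem_ker.1 hker
    · rintro ⟨x, hx, hc, rfl⟩
      refine ⟨⟨M.ev x, M.ev_mem (hN.symm ▸ hx)⟩, MonoidHom.mem_ker.2 ?_, rfl⟩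
      rw [hχ, M.homOf_ev (sgnOf hChi) hhom (hN.symm ▸ hx)]
      exact sgn_false.2 hc
  have hset : ∀ (p : ℕ → Bool), (M.ev '' {x | x < 256 ∧ p x = true}).ncard = (List.range 256).countP p := by
    intro p
    have := M.image_card p
    rwa [hN] at this
  have cardX : Nat.card X = 128 := by
    rw [show Nat.card X = (X : Set G).ncard from Nat.card_coe_set_eq _,
      show (X : Set G) = M.ev '' {x | x < 256 ∧ (!hChi x) = true} by
        ext g; simp [memX, and_assoc],
      hset]
    exact chi_hom.2.2
  have hXH : X ≤ M.H := map_subtype_le _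
  have hHX : ∀ h ∈ M.H, ∀ x ∈ X, h * x * h⁻¹ ∈ X := by
    intro h hh x hx
    obtain ⟨x', hx', rfl⟩ := Subgroup.mem_map.1 hx
    refine Subgroup.mem_map.2 ⟨(⟨h, hh⟩ : M.H) * x' * (⟨h, hh⟩ : M.H)⁻¹,
      (MonoidHom.normal_ker χ).conj_mem x' hx' _, ?_⟩
    simp
  -- the Sylow subgroup
  have hT : ∀ g, g ∈ F.syl ↔ ∃ x < 256, (coord hBase x).isSome = true ∧ M.ev x = g := by
    have hsub : M.ev '' {x | x < 256 ∧ (coord hBase x).isSome = true} ⊆ (F.syl : Set G) := by
      rintro _ ⟨x, ⟨hx, hc⟩, rfl⟩
      obtain ⟨p, hp⟩ := Option.isSome_iff_exists.1 hc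
      have h1 := List.all_eq_true.1 syl_codes.2.1 x (List.mem_range.2 hx)
      rw [hp] at h1
      have hm := mem_of_code h1
      rw [M.ev_coord (hbase.symm ▸ hp)]
      obtain ⟨b, σ⟩ := p
      cases b
      · exact F.ι_mem_syl hm
      · exact F.x_ι_mem_syl hm
    have heq := Set.eq_of_subset_of_ncard_le hsub (by
      rw [hset, syl_codes.1, ← Nat.card_coe_set_eq]; exact F.card_syl.le) (Set.toFinite _)
    intro g
    rw [← SetLike.mem_coe, ← heq]
    simp [and_assoc]
  have hTX : F.syl ≤ X := by
    intro g hg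
    obtain ⟨x, hx, hc, rfl⟩ := (hT g).1 hg
    obtain ⟨p, hp⟩ := Option.isSome_iff_exists.1 hc
    have h1 := List.all_eq_true.1 chi_hom.2.1 x (List.mem_range.2 hx)
    rw [hp] at h1
    exact (memX _).2 ⟨x, hx, by simpa using h1, rfl⟩
  have hmv : ∀ σ ∈ ([pW, pZ, pT] : List S6), ∃ x ∈ X, Pres F x ∧ x * t * x⁻¹ = t * F.ι σ := by
    intro σ hσ
    obtain ⟨q, hq, rfl⟩ : ∃ q ∈ ([(8, true, pW), (6, true, pZ), (14, true, pT)] : List (ℕ × Bool × S6)),
        q.2.2 = σ := by
      simp only [List.mem_cons, List.not_mem_nil, or_false] at hσ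
      rcases hσ with rfl | rfl | rfl <;> simp
    have h1 := List.all_eq_true.1 syl_codes.2.2 q hq
    have hq256 : q.1 < 256 := by
      simp only [List.mem_cons, List.not_mem_nil, or_false] at hq
      rcases hq with rfl | rfl | rfl <;> norm_num
    simp only [Bool.and_eq_true, List.any_eq_true, List.all_eq_true, Bool.or_eq_true, List.mem_range,
      beq_iff_eq] at h1
    obtain ⟨⟨⟨v, -, hv⟩, hc⟩, hnorm⟩ := h1
    refine ⟨M.ev q.1, (memX _).2 ⟨q.1, hq256, by simpa using hc, rfl⟩, ?_, ?_⟩
    · have hinv : ∀ g ∈ F.syl, (M.ev q.1)⁻¹ * g * M.ev q.1 ∈ F.syl := by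
        intro g hg
        obtain ⟨c, hc', hcs, rfl⟩ := (hT g).1 hg
        obtain ⟨d, hd, hds, e⟩ := (hnorm c hc').resolve_left (by simp [hcs])
        refine (hT _).2 ⟨d, hd, hds, ?_⟩
        have := congrArg M.ev e
        rw [← hrs] at this
        change M.ev (M.mul c q.1) = M.ev (M.mul q.1 d) at this
        rw [M.ev_mul, M.ev_mul] at this
        rw [mul_assoc, this, inv_mul_cancel_left]
      have hp : Pres F (M.ev q.1)⁻¹ := fun g hg => by
        rw [inv_inv]; exact hinv g hg
      simpa using hp.inv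
    · cases hp : coord hBase v with
      | none => rw [hp] at hv; simp at hv
      | some p =>
        rw [hp] at hv
        simp only [Bool.and_eq_true, beq_iff_eq] at hv
        obtain ⟨⟨hb, hcode⟩, e⟩ := hv
        have := congrArg M.ev e
        rw [← hrs] at this
        change M.ev (M.mul q.1 16) = M.ev (M.mul v q.1) at this
        rw [M.ev_mul, M.ev_mul, M.ev_coord (x := v) (p := p) (by rw [hbase]; exact hp), hb, cond_true,
          code_injective hcode] at this
        have ht : M.ev 16 = t := by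
          rw [M.ev_coord (x := 16) (p := (true, 1)) (by rw [hbase]; simp [hBase, coord])]
          rw [cond_true, map_one, mul_one]
        rw [ht] at this
        rw [this, mul_inv_cancel_right]
  have hPres : ∀ n, Pres F n → n ∈ X := by
    intro n hn
    have key : ∀ σ ∈ ([pW, pZ, pT] : List S6), n * t * n⁻¹ = t * F.ι σ → n ∈ X := by
      intro σ hσ e
      obtain ⟨x, hxX, hxP, hxt⟩ := hmv σ hσ
      have hm := regular F (cen_self F) (hxP.inv.mul hn) (by
        calc x⁻¹ * n * t * (x⁻¹ * n)⁻¹ = x⁻¹ * (n * t * n⁻¹) * x := by group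
          _ = t := by rw [e, ← hxt]; group)
      simpa using mul_mem hxX (hTX hm)
    rcases classify_cen F ((cen_self F).map hn) with e | ⟨hD, -⟩ | ⟨-, e⟩ | ⟨-, e⟩ | ⟨hD, -⟩ | ⟨-, e⟩
    · exact hTX (regular F (cen_self F) hn e)
    · exact absurd hD hP.a
    · exact key _ (by simp) e
    · exact key _ (by simp) e
    · exact absurd hD hP.f
    · exact key _ (by simp) e
  -- the normaliser of the kernel
  set Nr : Subgroup G := Subgroup.normalizer (X : Set G) with hNr
  have hHN : ∀ h ∈ M.H, h ∈ Nr := by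
    intro h hh
    rw [hNr, Subgroup.mem_normalizer_iff]
    intro x
    refine ⟨hHX h hh x, fun hx => ?_⟩
    have := hHX h⁻¹ (inv_mem hh) _ hx
    convert this using 1
    group
  have hrep : ∀ y ∈ hReps, ∃ g ∈ Nr, g * t * g⁻¹ = M.ev y := by
    intro y hy
    obtain ⟨hpos, hnc⟩ := hreps y hy
    have hy256 : y < 256 := by
      simp only [hReps, List.mem_cons, List.not_mem_nil, or_false] at hy
      rcases hy with rfl | rfl | rfl | rfl <;> norm_num
    simp only [normCent, Bool.and_eq_true, beq_iff_eq, List.all_eq_true, List.mem_filter, List.mem_range,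
      Bool.not_eq_true', h8] at hnc
    obtain ⟨⟨hlen, hyχ⟩, hgen⟩ := hnc
    set U := X ⊓ centralizer ({M.ev y} : Set G) with hU
    have hUmem : ∀ c < 256, hChi c = false → (M.ev c ∈ U ↔ Tower.mulC M.rs c y = Tower.mulC M.rs y c) := by
      intro c hc hcχ
      rw [hU, mem_inf, mem_centralizer_singleton_iff, ← M.ev_mul, ← M.ev_mul]
      refine ⟨fun h => M.ev_inj (M.mul_lt (hN.symm ▸ hc) (hN.symm ▸ hy256))
        (M.mul_lt (hN.symm ▸ hy256) (hN.symm ▸ hc)) h.2, fun h => ⟨(memX _).2 ⟨c, hc, hcχ, rfl⟩, congrArg M.ev h⟩⟩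
    have hUc : Nat.card U = 32 := by
      rw [show Nat.card U = (U : Set G).ncard from Nat.card_coe_set_eq _,
        show (U : Set G) = M.ev '' {c | c < 256 ∧ (!hChi c && Tower.mulC M.rs c y == Tower.mulC M.rs y c) = true} by
          ext g
          constructor
          · intro hg
            obtain ⟨c, hc, hcχ, rfl⟩ := (memX g).1 hg.1
            exact ⟨c, ⟨hc, by simp [hcχ, (hUmem c hc hcχ).1 hg]⟩, rfl⟩
          · rintro ⟨c, ⟨hc, h⟩, rfl⟩
            simp only [Bool.and_eq_true, Bool.not_eq_true', beq_iff_eq] at h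
            exact (hUmem c hc h.1).2 h.2,
        hset, List.countP_eq_length_filter]
      exact hlen
    -- the kernel normalises it
    set S : Subgroup G := X ⊓ Subgroup.normalizer (U : Set G) with hS
    have hgenN : ∀ q ∈ xGens, M.ev q.1 ∈ Subgroup.normalizer (U : Set G) := by
      intro q hq
      have hq' := List.all_eq_true.1 xGens_ok.1 q hq
      simp only [Bool.and_eq_true, Bool.not_eq_true', beq_iff_eq, decide_eq_true_iff, ← hrs] at hq'
      obtain ⟨⟨⟨hqχ, hinv⟩, h1⟩, h2⟩ := hq'
      have e2 : M.ev q.2 = (M.ev q.1)⁻¹ := eq_inv_of_mul_eq_one_right (by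
        rw [← M.ev_mul, show M.mul q.1 q.2 = 0 from hinv, M.ev_zero])
      have hmem1 : M.ev q.1 ∈ X := (memX _).2 ⟨q.1, h1, hqχ, rfl⟩
      have hstep : ∀ g ∈ U, M.ev q.1 * g * (M.ev q.1)⁻¹ ∈ U := by
        intro g hg
        obtain ⟨c, hc, hcχ, rfl⟩ := (memX g).1 hg.1
        refine ⟨X.mul_mem (X.mul_mem hmem1 hg.1) (X.inv_mem hmem1), mem_centralizer_singleton_iff.2 ?_⟩
        have := hgen q hq c ⟨hc, by simp [hcχ, (hUmem c hc hcχ).1 hg]⟩
        rw [← e2, ← M.ev_mul, ← M.ev_mul, ← M.ev_mul, ← M.ev_mul]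
        exact congrArg M.ev this
      exact Subgroup.mem_normalizer_iff.2 fun g => ⟨hstep g, fun hg => by
        obtain ⟨⟨g', hg'⟩, he⟩ := (Finite.injective_iff_surjective.1
          (show Function.Injective fun z : U => (⟨_, hstep z z.2⟩ : U) from fun a b h => Subtype.ext (by
            simpa using congrArg (fun z : U => (z : G)) h))) ⟨_, hg⟩
        have he' : M.ev q.1 * g' * (M.ev q.1)⁻¹ = M.ev q.1 * g * (M.ev q.1)⁻¹ :=
          congrArg (fun z : U => (z : G)) he
        obtain rfl : g' = g := by simpa using he'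
        exact hg'⟩
    have hnorm : ∀ n x, x < 256 → x ≤ n → hChi x = false → M.ev x ∈ Subgroup.normalizer (U : Set G) := by
      intro n
      induction n with
      | zero => intro x _ hx _; obtain rfl : x = 0 := by omega
                rw [M.ev_zero]; exact one_mem _
      | succ n ih =>
        intro x hx hxn hχx
        by_cases hx0 : x = 0
        · rw [hx0, M.ev_zero]; exact one_mem _
        have h1 := List.all_eq_true.1 xGens_ok.2 x (List.mem_range.2 hx)
        simp only [hχx, hx0, decide_false, Bool.or_false, Bool.false_or, List.any_eq_true,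
          decide_eq_true_iff, ← hrs] at h1
        obtain ⟨q, hq, hlt⟩ := h1
        have hq' := List.all_eq_true.1 xGens_ok.1 q hq
        simp only [Bool.and_eq_true, Bool.not_eq_true', beq_iff_eq, decide_eq_true_iff, ← hrs] at hq'
        obtain ⟨⟨⟨hqχ, hinv⟩, h1'⟩, h2'⟩ := hq'
        have e2 : M.ev q.2 = (M.ev q.1)⁻¹ := eq_inv_of_mul_eq_one_right (by
          rw [← M.ev_mul, show M.mul q.1 q.2 = 0 from hinv, M.ev_zero])
        have hz : M.ev (M.mul q.2 x) ∈ X := by
          rw [M.ev_mul, e2]
          exact mul_mem (inv_mem ((memX _).2 ⟨q.1, h1', hqχ, rfl⟩)) ((memX _).2 ⟨x, hx, hχx, rfl⟩)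
        obtain ⟨z, hz256, hzχ, hze⟩ := (memX _).1 hz
        have hzeq : z = M.mul q.2 x := M.ev_inj (hN.symm ▸ hz256)
          (M.mul_lt (hN.symm ▸ h2') (hN.symm ▸ hx)) hze
        have hz' := ih z hz256 (by subst hzeq; exact (Nat.le_of_lt_succ (lt_of_lt_of_le hlt hxn))) hzχ
        rw [hze, M.ev_mul, e2] at hz'
        simpa using mul_mem (hgenN q hq) hz'
    obtain ⟨g, hgt, hgU⟩ := exists_frame_syl F ((hD y hy256).2 hpos)
      (inf_le_right : U ≤ centralizer ({M.ev y} : Set G)) hUc
    refine ⟨g, ?_, hgt⟩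
    have hsub : ∀ x ∈ X, g⁻¹ * x * g ∈ X := by
      intro x hx
      refine hPres _ fun s hs => ?_
      have hsU : g * s * g⁻¹ ∈ U := (hgU _).2 (by
        rw [show g⁻¹ * (g * s * g⁻¹) * g = s by group]; exact hs)
      obtain ⟨c, hc, hcχ, rfl⟩ := (memX x).1 hx
      have := (hgU _).1 ((Subgroup.mem_normalizer_iff.1 (hnorm c c hc le_rfl hcχ) _).1 hsU)
      convert this using 1
      group
    have heq : conjImage g⁻¹ X = X := eq_of_le_of_card_ge (by
      rintro _ ⟨x, hx, rfl⟩
      simpa using hsub x hx) (by rw [card_conjImage])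
    rw [hNr, Subgroup.mem_normalizer_iff]
    intro x
    constructor
    · intro hx
      rw [← heq] at hx
      obtain ⟨x', hx', e⟩ := hx
      simp only [MulEquiv.coe_toMonoidHom, MulAut.conj_apply, inv_inv] at e
      rw [← e, show g * (g⁻¹ * x' * g) * g⁻¹ = x' by group]
      exact hx'
    · intro hx
      have := hsub _ hx
      convert this using 1
      group
  have horb : orb Nr t = M.ev '' {x | x < 256 ∧ (!hChi x && k.1.testBit x) = true} := by
    ext y
    constructor
    · rintro ⟨n, hn, rfl⟩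
      have hm : n * t * n⁻¹ ∈ X :=
        (Subgroup.mem_normalizer_iff.1 (hNr ▸ hn) t).1 (hTX F.self_mem_syl)
      obtain ⟨x, hx, hχx, e⟩ := (memX _).1 hm
      exact ⟨x, ⟨hx, by simp [hχx, (hD x hx).1 (e.symm ▸ isConj_iff.2 ⟨n, rfl⟩)]⟩, e⟩
    · rintro ⟨x, ⟨hx, h⟩, rfl⟩
      simp only [Bool.and_eq_true, Bool.not_eq_true'] at h
      have hc := hcover x hx
      simp only [h.1, h.2, Bool.not_true, Bool.or_false, Bool.false_or, List.any_eq_true, List.mem_range,
        beq_iff_eq] at hc
      obtain ⟨g, hg256, y, hy, e⟩ := hc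
      obtain ⟨n, hn, hnt⟩ := hrep y hy
      refine ⟨M.ev g * n, mul_mem (hHN _ (M.ev_mem (hN.symm ▸ hg256))) hn, ?_⟩
      have e' : M.ev g * M.ev y = M.ev x * M.ev g := by
        rw [← M.ev_mul, ← M.ev_mul]; exact congrArg M.ev e
      calc M.ev g * n * t * (M.ev g * n)⁻¹ = M.ev g * (n * t * n⁻¹) * (M.ev g)⁻¹ := by group
        _ = _ := by rw [hnt, e', mul_inv_cancel_right]
  have hstab : Nr ⊓ centralizer ({t} : Set G) = F.syl := by
    refine le_antisymm (fun n hn => ?_) (le_inf (fun s hs => hHN s (hXH (hTX hs))) F.syl_le)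
    have hc : ∀ s ∈ F.syl, ∀ m ∈ Nr ⊓ centralizer ({t} : Set G), m * s * m⁻¹ ∈ X ⊓ centralizer ({t} : Set G) :=
      fun s hs m hm => ⟨(Subgroup.mem_normalizer_iff.1 (hNr ▸ hm.1) s).1 (hTX hs),
        (centralizer ({t} : Set G)).mul_mem ((centralizer ({t} : Set G)).mul_mem hm.2 (F.syl_le hs))
          ((centralizer ({t} : Set G)).inv_mem hm.2)⟩
    have hXC : ∀ x ∈ X ⊓ centralizer ({t} : Set G), x ∈ F.syl := by
      intro x hx
      obtain ⟨c, hc', hcχ, rfl⟩ := (memX x).1 hx.1
      by_cases hsome : (coord hBase c).isSome = true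
      · exact (hT _).2 ⟨c, hc', hsome, rfl⟩
      · exfalso
        have hk := List.all_eq_true.1 M.hker c (List.mem_range.2 (h8.symm ▸ hc'))
        have hc0 : c ≠ 0 := by rintro rfl; exact hsome rfl
        have hnone : coord hBase c = none := by
          cases hq : coord hBase c with
          | none => rfl
          | some p => exact absurd (by rw [hq]; rfl) hsome
        rw [if_neg hc0, hbase, hnone] at hk
        obtain ⟨d, -, hd⟩ := List.any_eq_true.1 hk
        cases hp : coord hBase d with
        | none => rw [hp] at hd; simp at hd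
        | some p =>
          rw [hp] at hd
          simp only [Bool.and_eq_true, beq_iff_eq] at hd
          have e : M.ev (M.mul c M.tc) = M.ev (M.mul d c) := congrArg M.ev hd.2
          rw [M.ev_mul, M.ev_mul, M.ev_tc, mem_centralizer_singleton_iff.1 hx.2] at e
          have e' := mul_right_cancel e
          rw [M.ev_coord (hbase.symm ▸ hp)] at e'
          obtain ⟨b, σ⟩ := p
          cases b
          · exact F.notmem σ e'.symm
          · simp only [cond_true] at e'
            have hσ : σ = 1 := F.x_mul_inj (by rw [map_one, mul_one]; exact e'.symm)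
            rw [hσ] at hd
            simp at hd
    refine F.syl_normalizer (mem_centralizer_singleton_iff.1 hn.2) fun s hs => hXC _ (hc s hs n hn)
  have hcardN : Nat.card Nr = 1024 := by
    rw [← orb_card Nr t, horb, hset, h32, hstab, F.card_syl]
  -- the cosets of the subgroup of order 256
  have hG : 4 ∣ M.H.index := by
    have h1 : 1024 ∣ Nat.card G := hcardN ▸ Nr.card_subgroup_dvd_card
    rw [← M.H.card_mul_index, M.card_H, hN, show 1024 = 256 * 4 from rfl] at h1
    exact (Nat.mul_dvd_mul_iff_left (by norm_num)).1 h1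
  have hcount : Nat.card (conjOf (M.H : Set G) t) * Nat.card (centralizer ({t} : Set G)) = 270 * Nat.card M.H := by
    have e : conjOf (M.H : Set G) t = M.ev '' {x | x < 256 ∧ k.1.testBit x = true} := by
      ext g
      constructor
      · rintro ⟨hg, hgH⟩
        obtain ⟨x, hx, rfl⟩ := M.mem_H.1 hgH
        exact ⟨x, ⟨hN ▸ hx, (hD x (hN ▸ hx)).1 hg⟩, rfl⟩
      · rintro ⟨x, ⟨hx, h⟩, rfl⟩
        exact ⟨(hD x hx).2 h, M.ev_mem (hN.symm ▸ hx)⟩
    rw [Nat.card_coe_set_eq, e, hset, h48, F.card_centralizer, M.card_H, hN]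
  have hge : 270 ≤ M.H.index := by
    have h := card_fixOf_mul (x := t) (inv_self_set M.H)
    rw [hcount] at h
    rw [← Nat.eq_of_mul_eq_mul_right Nat.card_pos h, Subgroup.index_eq_card]
    exact Nat.card_le_card_of_injective _ Subtype.val_injective
  refine index_two_of_fix F.sq (u := (M.H.index - 272) / 4) hcount ?_
  obtain ⟨c, hc⟩ := hG
  omega

/-- The untwisted case. -/
theorem index_two_untwisted (hP : PatFour F) {h : G} (S : Swapper F h) (hb0 : h * F.ι pB * h⁻¹ = F.ι pB) :
    ∃ H' : Subgroup G, H'.index = 2 := by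
  obtain ⟨g, f, M, hrs, hbase, h84, h82⟩ := exists_hModel hP S hb0
  have facts : ∀ b : Bool, (IsConj t (M.ev 8) ↔ b = true) →
      ∀ p ∈ hFacts b, (IsConj t (M.ev p.1) ↔ p.2 = true) := by
    intro b hb p hp
    simp only [hFacts, List.mem_cons, List.not_mem_nil, or_false] at hp
    rcases hp with rfl | rfl | rfl
    · exact hb
    · exact Iff.trans ⟨fun c => c.trans h84.symm, fun c => c.trans h84⟩ hb
    · exact Iff.trans ⟨fun c => c.trans h82.symm, fun c => c.trans h82⟩ hb
  have facts' : ∀ (b : Bool) (x : ℕ) (c : Bool), (IsConj t (M.ev 8) ↔ b = true) →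
      (IsConj t (M.ev x) ↔ c = true) →
      ∀ p ∈ hFacts b ++ [(x, c)], (IsConj t (M.ev p.1) ↔ p.2 = true) := by
    intro b x c hb hc p hp
    rcases List.mem_append.1 hp with hp | hp
    · exact facts b hb p hp
    · rw [List.mem_singleton] at hp
      subst hp
      exact hc
  by_cases h8 : IsConj t (M.ev 8)
  · have hb : IsConj t (M.ev 8) ↔ true = true := iff_of_true h8 rfl
    cases g <;> cases f
    · exact M.index_two_checked hP hrs hbase chk_h00.1 (facts _ hb)
    · exact index_two_last hP M hrs hbase (facts _ hb)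
    · by_cases h26 : IsConj t (M.ev 26)
      · exact M.index_two_checked hP hrs hbase chk_h10.2.2.1 (facts' _ _ _ hb (iff_of_true h26 rfl))
      · exact M.index_two_checked hP hrs hbase chk_h10.2.2.2
          (facts' _ _ _ hb (iff_of_false h26 Bool.false_ne_true))
    · exact M.index_two_checked hP hrs hbase chk_h11.1 (facts _ hb)
  · have hb : IsConj t (M.ev 8) ↔ false = true := iff_of_false h8 Bool.false_ne_true
    by_cases h9 : IsConj t (M.ev 9)
    · cases g <;> cases f
      · exact M.index_two_checked hP hrs hbase chk_h00.2.1 (facts' _ _ _ hb (iff_of_true h9 rfl))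
      · exact M.index_two_checked hP hrs hbase chk_h01 (facts _ hb)
      · exact M.index_two_checked hP hrs hbase chk_h10.1 (facts' _ _ _ hb (iff_of_true h9 rfl))
      · exact M.index_two_checked hP hrs hbase chk_h11.2.1 (facts' _ _ _ hb (iff_of_true h9 rfl))
    · have hc : IsConj t (M.ev 9) ↔ false = true := iff_of_false h9 Bool.false_ne_true
      cases g <;> cases f
      · exact M.index_two_checked hP hrs hbase chk_h00.2.2 (facts' _ _ _ hb hc)
      · exact M.index_two_checked hP hrs hbase chk_h01 (facts _ hb)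
      · exact M.index_two_checked hP hrs hbase chk_h10.2.1 (facts' _ _ _ hb hc)
      · exact M.index_two_checked hP hrs hbase chk_h11.2.2 (facts' _ _ _ hb hc)

end Cfsg.Agent.SixInv
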