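import Cfsg.Agent.Lib.SixInv.TwoData

/-!
The pattern of type two gives a subgroup of index two.
-/

set_option autoImplicit false
set_option linter.unusedSectionVars false
set_option maxRecDepth 100000

namespace Cfsg.Agent.SixInv

open Subgroup

/-- `g` or one. -/
def gp {G : Type*} [One G] (b : Bool) (g : G) : G := bif b then g else 1

variable {G : Type*} [Group G] [Finite G] {t : G} {F : Fr t}

theorem gp_comm {x g : G} (h : Commute x g) (b : Bool) : Commute (gp b x) g := by
  cases b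
  · exact Commute.one_left g
  · exact h

/-- What is known of an element exchanging `t` and `t z`. -/
structure SwapZ (F : Fr t) (g : G) : Prop where
  pres : Pres F g
  move : g * t * g⁻¹ = t * F.ι pZ
  fixz : g * F.ι pZ * g⁻¹ = F.ι pZ
  sq : g * g ∈ F.syl

theorem z_two : F.ι pZ * F.ι pZ = 1 := by
  rw [← map_mul, show pZ * pZ = 1 by decide +kernel, map_one]

theorem z_ne_one : F.ι pZ ≠ 1 := fun h =>
  absurd (F.inj (h.trans (map_one _).symm)) (by decide +kernel)

theorem mem_syl_word {x : G} (hx : x ∈ F.syl) :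
    ∃ α β γ δ η, x = gp α t * F.ι (word β γ δ η) := by
  obtain ⟨σ, hσ, e | e⟩ := F.mem_syl.1 hx <;> obtain ⟨β, γ, δ, η, rfl⟩ := exists_word hσ
  · exact ⟨false, β, γ, δ, η, e.trans (one_mul _).symm⟩
  · exact ⟨true, β, γ, δ, η, e⟩

theorem word_mem_syl (α β γ δ η : Bool) : gp α t * F.ι (word β γ δ η) ∈ F.syl :=
  mul_mem (by cases α <;> [exact one_mem _; exact F.self_mem_syl]) (F.ι_mem_syl (word_mem _ _ _ _))

theorem word_gen_inj {α β γ δ η α' β' γ' δ' η' : Bool}
    (h : gp α t * F.ι (word β γ δ η) = gp α' t * F.ι (word β' γ' δ' η')) :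
    α = α' ∧ β = β' ∧ γ = γ' ∧ δ = δ' ∧ η = η' := by
  cases α <;> cases α' <;> simp only [gp, cond_true, cond_false, one_mul] at h
  · exact ⟨rfl, word_inj (F.inj h)⟩
  · exact absurd h.symm (F.x_mul_ne _ _)
  · exact absurd h (F.x_mul_ne _ _)
  · exact ⟨rfl, word_inj (F.x_mul_inj h)⟩

theorem conj_word (g : G) (β γ δ η : Bool) :
    g * F.ι (word β γ δ η) * g⁻¹ = gp β (g * F.ι pW * g⁻¹) * gp γ (g * F.ι pA * g⁻¹) *
      gp δ (g * F.ι (pB * pW) * g⁻¹) * gp η (g * F.ι pZ * g⁻¹) := by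
  have e : ∀ (b : Bool) (σ : S6), g * F.ι (bp b σ) * g⁻¹ = gp b (g * F.ι σ * g⁻¹) := by
    intro b σ
    cases b <;> simp [bp, gp]
  rw [← e, ← e, ← e, ← e, word, map_mul, map_mul, map_mul]
  group

theorem conj_eq_of_syl {x : G} (hx : x ∈ F.syl) {σ : S6} (h : σ ∈ tList) :
    x * F.ι σ * x⁻¹ = F.ι σ ∨ x * F.ι σ * x⁻¹ = F.ι σ * F.ι pZ := by
  have key : (tList.all fun τ => tList.all fun σ => code (τ * σ * τ⁻¹) == code σ ||
      code (τ * σ * τ⁻¹) == code (σ * pZ)) = true := by decide +kernel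
  obtain ⟨τ, hτ, e⟩ := F.mem_syl.1 hx
  have h1 := List.all_eq_true.1 (List.all_eq_true.1 key τ hτ) σ h
  have ex : x * F.ι σ * x⁻¹ = F.ι (τ * σ * τ⁻¹) := by
    rcases e with e | e <;> rw [e, map_mul, map_mul, map_inv]
    calc t * F.ι τ * F.ι σ * (t * F.ι τ)⁻¹ = t * (F.ι τ * F.ι σ * (F.ι τ)⁻¹) * t⁻¹ := by group
      _ = t * F.ι (τ * σ * τ⁻¹) * t⁻¹ := by rw [map_mul, map_mul, map_inv]
      _ = F.ι τ * F.ι σ * (F.ι τ)⁻¹ := by
        rw [(F.comm _).eq, mul_inv_cancel_right, map_mul, map_mul, map_inv]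
  simp only [Bool.or_eq_true, beq_iff_eq] at h1
  rcases h1 with c | c <;> rw [ex, code_injective c]
  · exact Or.inl rfl
  · exact Or.inr (map_mul _ _ _)

variable (hP : PatTwo F)
include hP

theorem SwapZ.conj_two {g : G} (S : SwapZ F g) {σ : S6} (hσ : σ ∈ twoList) :
    ∃ σ' ∈ twoList, g * F.ι σ * g⁻¹ = F.ι (pZ * σ') := by
  have hm := F.x_ι_mem_syl (twoList_sub hσ)
  have hD : IsConj t (g * (t * F.ι σ) * g⁻¹) :=
    ((two_members hP hm).2 ⟨σ, hσ, rfl⟩).trans (isConj_iff.2 ⟨g, rfl⟩)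
  obtain ⟨σ', hσ', e⟩ := (two_members hP (S.pres _ hm)).1 hD
  refine ⟨σ', hσ', ?_⟩
  have e2 : g * t * g⁻¹ * (g * F.ι σ * g⁻¹) = t * F.ι σ' := by rw [← e]; group
  rw [S.move, mul_assoc] at e2
  have e3 := mul_left_cancel e2
  rw [map_mul, ← e3, ← mul_assoc, z_two, one_mul]

theorem SwapZ.conj_w {g : G} (S : SwapZ F g) :
    g * F.ι pW * g⁻¹ = F.ι pW ∨ g * F.ι pW * g⁻¹ = F.ι pT := by
  set v := g * F.ι pW * g⁻¹ with hv
  have hvm : v ∈ F.syl := S.pres _ (F.ι_mem_syl pW_mem)
  have hinj : ∀ {a b : G}, g * a * g⁻¹ = g * b * g⁻¹ → a = b := fun h => by simpa using h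
  have hcen : ∀ s ∈ F.syl, v * s = s * v := by
    intro s hs
    have h := S.pres.inv s hs
    rw [inv_inv] at h
    have hc : F.ι pW * (g⁻¹ * s * g) = g⁻¹ * s * g * F.ι pW := by
      obtain ⟨τ, hτ, e | e⟩ := F.mem_syl.1 h <;> rw [e]
      · rw [← map_mul, ← map_mul, centre_comm (by simp [tCentre]) hτ]
      · rw [← mul_assoc, ← (F.comm pW).eq, mul_assoc, ← map_mul,
          centre_comm (by simp [tCentre]) hτ, map_mul, ← mul_assoc]
    calc v * s = g * (F.ι pW * (g⁻¹ * s * g)) * g⁻¹ := by rw [hv]; group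
      _ = g * (g⁻¹ * s * g * F.ι pW) * g⁻¹ := by rw [hc]
      _ = s * v := by rw [hv]; group
  have hgg : g * (g * F.ι pW * g⁻¹) * g⁻¹ = F.ι pW := by
    rcases conj_eq_of_syl S.sq pW_mem with e | e
    · calc g * (g * F.ι pW * g⁻¹) * g⁻¹ = g * g * F.ι pW * (g * g)⁻¹ := by group
        _ = F.ι pW := e
    · exfalso
      obtain ⟨τ, hτ, c⟩ := F.mem_syl.1 S.sq
      have key : g * g * F.ι pW * (g * g)⁻¹ = F.ι pW := by
        refine mul_inv_eq_iff_eq_mul.2 ?_
        rcases c with c | c <;> rw [c]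
        · rw [← map_mul, ← map_mul, centre_comm (by simp [tCentre]) hτ]
        · rw [← mul_assoc, ← (F.comm pW).eq, mul_assoc t (F.ι pW), ← map_mul,
            centre_comm (by simp [tCentre]) hτ, map_mul, ← mul_assoc]
      rw [key] at e
      exact z_ne_one (left_eq_mul.1 e)
  have key : (tList.all fun σ => (tList.any fun τ => code (σ * τ) != code (τ * σ)) ||
      ([1, pW, pZ, pT].map code).contains (code σ)) = true := by decide +kernel
  obtain ⟨σ, hσ, e⟩ := F.mem_syl.1 hvm
  have hc : σ ∈ ([1, pW, pZ, pT] : List S6) := by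
    have h1 := List.all_eq_true.1 key σ hσ
    simp only [Bool.or_eq_true, List.any_eq_true, bne_iff_ne] at h1
    rcases h1 with ⟨τ, hτ, hne⟩ | h1
    · refine absurd (congrArg code ?_) hne
      have h := hcen _ (F.ι_mem_syl hτ)
      rcases e with e | e <;> rw [e] at h
      · exact F.inj (by rw [map_mul, map_mul, h])
      · refine F.inj ?_
        rw [mul_assoc, ← mul_assoc (F.ι τ), ← (F.comm τ).eq, mul_assoc] at h
        rw [map_mul, map_mul, mul_left_cancel h]
    · exact mem_of_code h1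
  have gtσ : ∀ ρ : S6, g * (t * F.ι ρ) * g⁻¹ = t * F.ι pZ * (g * F.ι ρ * g⁻¹) := fun ρ => by
    rw [← S.move]; group
  have hnt : ∀ ρ : S6, t * F.ι ρ ≠ F.ι pW := fun ρ => F.x_mul_ne _ _
  simp only [List.mem_cons, List.not_mem_nil, or_false] at hc
  rcases e with e | e <;> rcases hc with rfl | rfl | rfl | rfl
  · rw [hv, map_one, conj_eq_one_iff] at e
    exact absurd (F.inj (e.trans (map_one _).symm)) (by decide +kernel)
  · exact Or.inl e
  · exact absurd (F.inj (hinj ((hv ▸ e).trans S.fixz.symm))) (by decide +kernel)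
  · exact Or.inr e
  · exfalso
    rw [← hv, e, map_one, mul_one, S.move] at hgg
    exact hnt _ hgg
  · exfalso
    rw [← hv, e, gtσ, ← hv, e, (F.comm pZ).symm.mul_mul_mul_comm, F.sq, one_mul, ← map_mul] at hgg
    exact absurd (F.inj hgg) (by decide +kernel)
  · exfalso
    rw [← hv, e, gtσ, S.fixz, mul_assoc, z_two, mul_one] at hgg
    exact F.notmem _ hgg.symm
  · exfalso
    have hT : g * F.ι pT * g⁻¹ = v * F.ι pZ := by
      rw [show pT = pW * pZ by decide +kernel, map_mul, ← conj_mul, ← hv, S.fixz]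
    rw [← hv, e, gtσ, hT, e, mul_assoc t (F.ι pT), ← map_mul, show pT * pZ = pW by decide +kernel,
      (F.comm pZ).symm.mul_mul_mul_comm, F.sq, one_mul, ← map_mul] at hgg
    exact absurd (F.inj hgg) (by decide +kernel)

/-- The images of the generators. -/
theorem SwapZ.images {g : G} (S : SwapZ F g) : ∃ j p i k : Bool,
    g * F.ι pW * g⁻¹ = F.ι (word true false false j) ∧
    g * F.ι pA * g⁻¹ = F.ι (word false (!p) p i) ∧
    g * F.ι (pB * pW) * g⁻¹ = F.ι (word false p (!p) k) := by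
  obtain ⟨j, hj⟩ : ∃ j, g * F.ι pW * g⁻¹ = F.ι (word true false false j) := by
    rcases S.conj_w hP with e | e
    · exact ⟨false, by rw [e, show word true false false false = pW by decide +kernel]⟩
    · exact ⟨true, by rw [e, show word true false false true = pT by decide +kernel]⟩
  have key : ((twoList.map fun σ => pZ * σ).all fun τ => code τ == code 1 || code τ == code pZ ||
      [false, true].any fun p => [false, true].any fun i => code τ == code (word false (!p) p i)) = true := by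
    decide +kernel
  have hinj : ∀ {a b : G}, g * a * g⁻¹ = g * b * g⁻¹ → a = b := fun h => by simpa using h
  have get : ∀ σ ∈ twoList, σ ≠ 1 → σ ≠ pZ → ∃ p i, g * F.ι σ * g⁻¹ = F.ι (word false (!p) p i) := by
    intro σ hσ h1 hz
    obtain ⟨σ', hσ', e⟩ := S.conj_two hP hσ
    have h2 := List.all_eq_true.1 key _ (List.mem_map_of_mem hσ')
    simp only [Bool.or_eq_true, List.any_eq_true, beq_iff_eq] at h2
    rcases h2 with (c | c) | ⟨p, -, i, -, c⟩
    · rw [code_injective c, map_one, conj_eq_one_iff] at e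
      exact absurd (F.inj (e.trans (map_one _).symm)) h1
    · rw [code_injective c] at e
      exact absurd (F.inj (hinj (e.trans S.fixz.symm))) hz
    · exact ⟨p, i, by rw [e, code_injective c]⟩
  obtain ⟨p, i, ha⟩ := get pA (by decide +kernel) (by decide +kernel) (by decide +kernel)
  obtain ⟨q, k, hb⟩ := get (pB * pW) (by decide +kernel) (by decide +kernel) (by decide +kernel)
  refine ⟨j, p, i, k, hj, ha, ?_⟩
  have hpq : q = !p := by
    by_contra hne
    have hq : q = p := by revert hne; cases p <;> cases q <;> decide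
    subst hq
    rcases eq_or_ne i k with rfl | hik
    · exact absurd (F.inj (hinj (ha.trans hb.symm))) (by decide +kernel)
    · have e : g * F.ι (pA * (pB * pW)) * g⁻¹ = g * F.ι pZ * g⁻¹ := by
        rw [S.fixz, map_mul, ← conj_mul, ha, hb, ← map_mul]
        congr 1
        revert hik
        cases q <;> cases i <;> cases k <;> intro hik <;> first | exact absurd rfl hik | decide +kernel
      exact absurd (F.inj (hinj e)) (by decide +kernel)
  rw [hb, hpq, Bool.not_not]

/-- The image of a word. -/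
theorem conj_word_eq {g : G} {j p i k : Bool} (hw : g * F.ι pW * g⁻¹ = F.ι (word true false false j))
    (ha : g * F.ι pA * g⁻¹ = F.ι (word false (!p) p i))
    (hb : g * F.ι (pB * pW) * g⁻¹ = F.ι (word false p (!p) k))
    (hz : g * F.ι pZ * g⁻¹ = F.ι pZ) (β γ δ η : Bool) :
    g * F.ι (word β γ δ η) * g⁻¹ = F.ι (bp β (word true false false j) * bp γ (word false (!p) p i) *
      bp δ (word false p (!p) k) * bp η pZ) := by
  have e : ∀ (b : Bool) (σ : S6), gp b (F.ι σ) = F.ι (bp b σ) := by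
    intro b σ
    cases b
    · exact (map_one _).symm
    · rfl
  rw [conj_word, hw, ha, hb, hz, e, e, e, e, map_mul, map_mul, map_mul]

end Cfsg.Agent.SixInv
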