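import Cfsg.Agent.Lib.SixInv.Members
import Cfsg.Agent.Lib.SixInv.PatTwo

/-!
The pattern of type four: elements of the normaliser of the Sylow subgroup act on the coordinates, and
in the swapping case one of them can be taken to be an involution fixing an alternating group.
-/

set_option autoImplicit false
set_option linter.unusedSectionVars false
set_option maxRecDepth 100000

namespace Cfsg.Agent.SixInv

open Subgroup

/-- A three-cycle. -/
def pK1 : S6 := Equiv.swap 0 1 * Equiv.swap 1 2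
/-- A second three-cycle. -/
def pK2 : S6 := Equiv.swap 0 2 * Equiv.swap 2 3
/-- The rotation of the three pairs. -/
def pK : S6 := Equiv.swap 0 2 * Equiv.swap 2 4 * (Equiv.swap 1 3 * Equiv.swap 3 5)

/-- The alternating group on the first four points. -/
def a4List : List S6 := ([1, pZ, pA, pA * pZ] : List S6).flatMap fun v => [v, v * pK1, v * pK1 * pK1]

/-- The centraliser of `pW`. -/
def cwList : List S6 := a4List.flatMap fun v => [v, v * pW, v * pB, v * pB * pW]

/-- The elements of order three of the centraliser of `pW`. -/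
def l3List : List S6 := cwList.filter fun σ => code (σ * σ * σ) == code 1 && code σ != code 1

theorem cwList_comm : ∀ σ ∈ cwList, σ * pW = pW * σ := by
  have h : (cwList.all fun σ => code (σ * pW) == code (pW * σ)) = true := by decide +kernel
  intro σ hσ
  exact code_injective (beq_iff_eq.1 (List.all_eq_true.1 h σ hσ))

theorem cwList_nodup : cwList.Nodup := by
  refine List.Nodup.of_map code ?_
  decide +kernel

theorem mem_cwList {σ : S6} (h : σ * pW = pW * σ) : σ ∈ cwList := by
  classical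
  have h1 : cwList.toFinset = Finset.univ.filter fun τ : S6 => τ * pW = pW * τ := by
    refine Finset.eq_of_subset_of_card_le (fun τ hτ => Finset.mem_filter.2
      ⟨Finset.mem_univ _, cwList_comm τ (List.mem_toFinset.1 hτ)⟩) ?_
    rw [List.toFinset_card_of_nodup cwList_nodup]
    have e : (Finset.univ.filter fun τ : S6 => τ * pW = pW * τ).card = 48 := by
      rw [← centralizer_w, Nat.card_eq_fintype_card, ← Fintype.card_subtype]
      exact Fintype.card_congr (Equiv.subtypeEquivRight fun τ =>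
        Subgroup.mem_centralizer_singleton_iff.symm)
    rw [e]; rfl
  exact List.mem_toFinset.1 (h1 ▸ Finset.mem_filter.2 ⟨Finset.mem_univ _, h⟩)

/-- The involutions of the Sylow subgroup, with the unit. -/
def invList : List S6 := tList.filter fun σ => code (σ * σ) == code 1

theorem mem_invList {σ : S6} : σ ∈ invList ↔ σ ∈ tList ∧ σ * σ = 1 := by
  simp only [invList, List.mem_filter, beq_iff_eq]
  exact ⟨fun h => ⟨h.1, code_injective h.2⟩, fun h => ⟨h.1, congrArg code h.2⟩⟩

variable {G : Type*} [Group G] [Finite G] {t : G} {F : Fr t}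

/-- The members of the Sylow subgroup. -/
theorem syl_member (hP : PatFour F) {x : G} (hx : x ∈ F.syl) :
    IsConj t x ↔ ∃ σ ∈ invList, x = t * F.ι σ := by
  constructor
  · intro hD
    obtain ⟨σ, hσ, e | e⟩ := F.mem_syl.1 hx
    · exact absurd (e ▸ hD) (four_ι_not hP σ)
    · refine ⟨σ, mem_invList.2 ⟨hσ, F.inj ?_⟩, e⟩
      rw [map_one, ← F.x_mul_sq, ← e, conj_square F.sq hD]
  · rintro ⟨σ, hσ, rfl⟩
    exact four_member hP (mem_invList.1 hσ).2

/-- An element of the normaliser maps involutions of the symmetric part into it. -/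
theorem pres_inv (hP : PatFour F) {d : G} (hd : Pres F d) {σ : S6} (hσ : σ ∈ invList) :
    ∃ τ ∈ invList, d * F.ι σ * d⁻¹ = F.ι τ := by
  obtain ⟨hσT, hσ2⟩ := mem_invList.1 hσ
  set x := d * F.ι σ * d⁻¹ with hx
  have hxm : x ∈ F.syl := hd _ (F.ι_mem_syl hσT)
  have hnD : ¬ IsConj t x := fun h => four_ι_not hP σ (h.trans (isConj_iff.2 ⟨d⁻¹, by rw [hx]; group⟩))
  have hx2 : x * x = 1 := by
    rw [hx, conj_mul, ← map_mul, hσ2, map_one, mul_one, mul_inv_cancel]
  obtain ⟨τ, hτ, e | e⟩ := F.mem_syl.1 hxm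
  · refine ⟨τ, mem_invList.2 ⟨hτ, F.inj ?_⟩, e⟩
    rw [map_one, map_mul, ← e, hx2]
  · refine absurd ((syl_member hP hxm).2 ⟨τ, mem_invList.2 ⟨hτ, F.inj ?_⟩, e⟩) hnD
    rw [map_one, ← F.x_mul_sq, ← e, hx2]

/-- An element with `σ³ = 1` commuting with `t` lies in the symmetric part. -/
theorem three_ι {x : G} (hx : x * t = t * x) (h3 : x * x * x = 1) :
    ∃ τ : S6, x = F.ι τ ∧ τ * τ * τ = 1 := by
  obtain ⟨τ, e | e⟩ := F.surj x hx
  · refine ⟨τ, e, F.inj ?_⟩
    rw [map_one, map_mul, map_mul, ← e, h3]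
  · exfalso
    rw [e, F.x_mul_sq, ← mul_assoc, (F.comm (τ * τ)).symm.eq, mul_assoc, ← map_mul, ← map_one F.ι] at h3
    exact F.x_mul_ne _ _ h3

/-- A conjugating element. -/
theorem conj_mem_cwList {σ τ : S6} {d : G} (h1 : d * F.ι σ * d⁻¹ = F.ι τ)
    (hw : d * F.ι pW * d⁻¹ = F.ι pW) (hσ : σ ∈ cwList) : τ ∈ cwList := by
  refine mem_cwList (F.inj ?_)
  rw [map_mul, map_mul, ← h1, ← hw, conj_mul, conj_mul, ← map_mul, ← map_mul, cwList_comm σ hσ]

/-- An involution exchanging `t` and `t w`, fixing an alternating group. -/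
structure Swapper (F : Fr t) (h : G) : Prop where
  sq : h * h = 1
  move : h * t * h⁻¹ = t * F.ι pW
  w : h * F.ι pW * h⁻¹ = F.ι pW
  k1 : h * F.ι pK1 * h⁻¹ = F.ι pK1
  k2 : h * F.ι pK2 * h⁻¹ = F.ι pK2
  b : h * F.ι pB * h⁻¹ = F.ι pB ∨ h * F.ι pB * h⁻¹ = F.ι (pB * pW)

theorem w_two : F.ι pW * F.ι pW = 1 := by
  rw [← map_mul, show pW * pW = 1 by decide +kernel, map_one]

theorem exists_swapper (hP : PatFour F) {d : G} (hm : d * t * d⁻¹ = t * F.ι pW)
    (hw : d * F.ι pW * d⁻¹ = F.ι pW) : ∃ h, Swapper F h := by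
  have hback : d * (t * F.ι pW) * d⁻¹ = t := by rw [← conj_mul, hm, hw, mul_assoc, w_two, mul_one]
  have get : ∀ σ ∈ l3List, ∃ τ ∈ l3List, d * F.ι σ * d⁻¹ = F.ι τ := by
    intro σ hσ
    simp only [l3List, List.mem_filter, Bool.and_eq_true, beq_iff_eq, bne_iff_ne] at hσ
    obtain ⟨hc, h3, h1⟩ := hσ
    have hc' : F.ι σ * (t * F.ι pW) = t * F.ι pW * F.ι σ := by
      rw [← mul_assoc, ← (F.comm σ).eq, mul_assoc, ← map_mul, cwList_comm σ hc, map_mul, ← mul_assoc]
    have hct : d * F.ι σ * d⁻¹ * t = t * (d * F.ι σ * d⁻¹) := by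
      have h := (Commute.map (show Commute _ _ from hc') (MulAut.conj d)).eq
      simp only [MulAut.conj_apply] at h
      rwa [hback] at h
    obtain ⟨τ, e, h3'⟩ := three_ι (F := F) hct (by
      rw [conj_mul, conj_mul, ← map_mul, ← map_mul, code_injective h3, map_one, mul_one, mul_inv_cancel])
    refine ⟨τ, ?_, e⟩
    simp only [l3List, List.mem_filter, Bool.and_eq_true, beq_iff_eq, bne_iff_ne]
    refine ⟨conj_mem_cwList e hw hc, congrArg code h3', fun hτ => h1 (congrArg code (F.inj ?_))⟩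
    rw [code_injective hτ, map_one, conj_eq_one_iff] at e
    rw [e, map_one]
  have m1 : pK1 ∈ l3List := mem_of_code (by decide +kernel)
  have m2 : pK2 ∈ l3List := mem_of_code (by decide +kernel)
  obtain ⟨τ1, hτ1, e1⟩ := get _ m1
  obtain ⟨τ2, hτ2, e2⟩ := get _ m2
  have hrel : (τ1 * (τ2 * τ2)) * (τ1 * (τ2 * τ2)) = 1 := by
    refine F.inj ?_
    rw [map_mul, map_mul, map_mul, ← e1, ← e2, conj_mul, conj_mul, conj_mul, ← map_mul, ← map_mul, ← map_mul,
      show pK1 * (pK2 * pK2) * (pK1 * (pK2 * pK2)) = 1 by decide +kernel, map_one, mul_one, mul_inv_cancel]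
  have hne : code τ1 ≠ code τ2 := fun e => absurd
    (F.inj ((MulAut.conj d).injective (show d * F.ι pK1 * d⁻¹ = d * F.ι pK2 * d⁻¹ by
      rw [e1, e2, code_injective e]))) (by decide +kernel)
  have key : (l3List.all fun x => l3List.all fun y => code x == code y ||
      code (x * (y * y) * (x * (y * y))) != code 1 ||
      cwList.any fun τ => code (τ * pK1) == code (x * τ) && code (τ * pK2) == code (y * τ)) = true := by
    decide +kernel
  have h1 := List.all_eq_true.1 (List.all_eq_true.1 key τ1 hτ1) τ2 hτ2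
  simp only [Bool.or_eq_true, List.any_eq_true, Bool.and_eq_true, beq_iff_eq, bne_iff_ne] at h1
  obtain ⟨τ, hτ, q1, q2⟩ := h1.resolve_left fun h => h.elim hne fun h' => h' (congrArg code hrel)
  set e := (F.ι τ)⁻¹ * d with he
  have hτw : F.ι τ * F.ι pW = F.ι pW * F.ι τ := by rw [← map_mul, ← map_mul, cwList_comm τ hτ]
  have hmove : e * t * e⁻¹ = t * F.ι pW := by
    calc e * t * e⁻¹ = (F.ι τ)⁻¹ * (d * t * d⁻¹) * F.ι τ := by rw [he]; group
      _ = (F.ι τ)⁻¹ * (t * (F.ι pW * F.ι τ)) := by rw [hm]; group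
      _ = (F.ι τ)⁻¹ * (F.ι τ * (t * F.ι pW)) := by rw [← hτw, ← mul_assoc t, (F.comm τ).eq, mul_assoc (F.ι τ)]
      _ = _ := inv_mul_cancel_left _ _
  have fix : ∀ {σ σ' : S6}, d * F.ι σ * d⁻¹ = F.ι σ' → code (τ * σ) = code (σ' * τ) →
      e * F.ι σ * e⁻¹ = F.ι σ := by
    intro σ σ' h hq
    calc e * F.ι σ * e⁻¹ = (F.ι τ)⁻¹ * (d * F.ι σ * d⁻¹) * F.ι τ := by rw [he]; group
      _ = (F.ι τ)⁻¹ * (F.ι τ * F.ι σ) := by rw [h, mul_assoc, ← map_mul F.ι σ', ← code_injective hq, map_mul]
      _ = _ := inv_mul_cancel_left _ _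
  have hew : e * F.ι pW * e⁻¹ = F.ι pW := fix hw (congrArg code (cwList_comm τ hτ))
  have hek1 := fix e1 q1
  have hek2 := fix e2 q2
  have hK : pB * pK1 * pB = pK1 * pK1 ∧ pB * pK2 * pB = pK1 * pK2 := by
    constructor <;> decide +kernel
  -- the image of the transposition
  have hb : e * F.ι pB * e⁻¹ = F.ι pB ∨ e * F.ι pB * e⁻¹ = F.ι (pB * pW) := by
    set x := e * F.ι pB * e⁻¹ with hx
    have hback' : e * (t * F.ι pW) * e⁻¹ = t := by rw [← conj_mul, hmove, hew, mul_assoc, w_two, mul_one]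
    have hbw : pB * pW = pW * pB := by decide +kernel
    have hxt : x * t = t * x := by
      have h : F.ι pB * (t * F.ι pW) = t * F.ι pW * F.ι pB := by
        rw [← mul_assoc (F.ι pB), ← (F.comm pB).eq, mul_assoc t, ← map_mul, hbw, map_mul, ← mul_assoc]
      have h' := (Commute.map (show Commute _ _ from h) (MulAut.conj e)).eq
      simp only [MulAut.conj_apply] at h'
      rwa [hback'] at h'
    have hx2 : x * x = 1 := by
      rw [hx, conj_mul, ← map_mul, show pB * pB = 1 by decide +kernel, map_one, mul_one, mul_inv_cancel]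
    have hnD : ¬ IsConj t x := fun h => four_ι_not hP pB (h.trans (isConj_iff.2 ⟨e⁻¹, by rw [hx]; group⟩))
    obtain ⟨ρ, hρ | hρ⟩ := F.surj x hxt
    swap
    · refine absurd ?_ hnD
      rw [hρ]
      refine four_member hP (F.inj ?_)
      rw [map_one, ← F.x_mul_sq, ← hρ, hx2]
    have c1 : F.ι (ρ * pK1 * ρ) = F.ι (pK1 * pK1) := by
      rw [map_mul, map_mul, ← hρ]
      nth_rewrite 1 [← hek1]
      rw [hx, conj_mul, conj_mul, ← map_mul, ← map_mul, hK.1, map_mul, ← conj_mul, hek1]
    have c2 : F.ι (ρ * pK2 * ρ) = F.ι (pK1 * pK2) := by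
      rw [map_mul, map_mul, ← hρ]
      nth_rewrite 1 [← hek2]
      rw [hx, conj_mul, conj_mul, ← map_mul, ← map_mul, hK.2, map_mul, ← conj_mul, hek1, hek2]
    have c3 : ρ ∈ cwList := conj_mem_cwList hρ hew (mem_of_code (by decide +kernel))
    have key : (cwList.all fun ρ => code (ρ * pK1 * ρ) != code (pK1 * pK1) ||
        code (ρ * pK2 * ρ) != code (pK1 * pK2) || code (ρ * ρ) != code 1 || code ρ == code pB || code ρ == code (pB * pW)) = true := by
      decide +kernel
    have h2 := List.all_eq_true.1 key ρ c3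
    simp only [Bool.or_eq_true, bne_iff_ne, beq_iff_eq] at h2
    rcases h2 with (((h | h) | h) | h) | h
    · exact absurd (congrArg code (F.inj c1)) h
    · exact absurd (congrArg code (F.inj c2)) h
    · exact absurd (congrArg code (F.inj (by rw [map_mul, ← hρ, hx2, map_one]))) h
    · exact Or.inl (by rw [hρ, code_injective h])
    · exact Or.inr (by rw [hρ, code_injective h])
  -- the square
  have sq2 : ∀ {σ : S6}, e * F.ι σ * e⁻¹ = F.ι σ → Commute (e * e) (F.ι σ) := fun {σ} h => by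
    have hc : Commute e (F.ι σ) := mul_inv_eq_iff_eq_mul.1 h
    exact hc.mul_left hc
  have hsb : Commute (e * e) (F.ι pB) := by
    rcases hb with h | h
    · exact sq2 h
    · refine mul_inv_eq_iff_eq_mul.1 ?_
      calc e * e * F.ι pB * (e * e)⁻¹ = e * (e * F.ι pB * e⁻¹) * e⁻¹ := by group
        _ = F.ι pB := by rw [h, map_mul, ← conj_mul, h, hew, map_mul, mul_assoc, w_two, mul_one]
  have het : e * e * t = t * (e * e) := by
    refine mul_inv_eq_iff_eq_mul.1 ?_
    calc e * e * t * (e * e)⁻¹ = e * (e * t * e⁻¹) * e⁻¹ := by group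
      _ = t := by rw [hmove, ← conj_mul, hmove, hew, mul_assoc, w_two, mul_one]
  obtain ⟨ρ, hρ⟩ := F.surj (e * e) het
  have hcomm : ∀ {σ : S6}, Commute (e * e) (F.ι σ) → ρ * σ = σ * ρ := by
    intro σ h
    refine F.inj ?_
    rw [map_mul, map_mul]
    rcases hρ with r | r
    · rw [← r]; exact h.eq
    · have h' : Commute (t * (e * e)) (F.ι σ) := (F.comm σ).mul_left h
      rw [show F.ι ρ = t * (e * e) by rw [r, ← mul_assoc, F.sq, one_mul]]
      exact h'.eq
  have r1 := hcomm (sq2 hek1)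
  have r2 := hcomm (sq2 hek2)
  have r3 := hcomm hsb
  have rw' := hcomm (sq2 hew)
  have hρw : ρ = 1 ∨ ρ = pW := by
    have key : (cwList.all fun ρ => code (ρ * pK1) != code (pK1 * ρ) || code (ρ * pB) != code (pB * ρ) ||
        code ρ == code 1 || code ρ == code pW) = true := by decide +kernel
    have h2 := List.all_eq_true.1 key ρ (mem_cwList rw')
    simp only [Bool.or_eq_true, bne_iff_ne, beq_iff_eq] at h2
    rcases h2 with ((h | h) | h) | h
    · exact absurd (congrArg code r1) h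
    · exact absurd (congrArg code r3) h
    · exact Or.inl (code_injective h)
    · exact Or.inr (code_injective h)
  rcases hρ with r | r
  swap
  · exfalso
    have hD : IsConj t (t * F.ι ρ) := by
      rcases hρw with h | h <;> rw [h]
      · rw [map_one, mul_one]
      · exact hP.b
    obtain ⟨g, hg⟩ := isConj_iff.1 hD
    exact not_square (F.conj g) e (r.trans hg.symm)
  rcases hρw with rfl | rfl
  · exact ⟨e, by rw [r, map_one], hmove, hew, hek1, hek2, hb⟩
  · have hts : ∀ σ : S6, e * t * F.ι σ * (e * t)⁻¹ = e * F.ι σ * e⁻¹ := fun σ => by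
      calc e * t * F.ι σ * (e * t)⁻¹ = e * (t * F.ι σ * t⁻¹) * e⁻¹ := by group
        _ = _ := by rw [(F.comm σ).eq, mul_inv_cancel_right]
    refine ⟨e * t, ?_, ?_, (hts _).trans hew, (hts _).trans hek1, (hts _).trans hek2, ?_⟩
    · calc e * t * (e * t) = e * t * e⁻¹ * (e * e) * t := by group
        _ = 1 := by rw [hmove, r, mul_assoc t, w_two, mul_one, F.sq]
    · calc e * t * t * (e * t)⁻¹ = e * (t * t) * t⁻¹ * e⁻¹ := by group
        _ = _ := by rw [F.sq, mul_one, F.inv_self, hmove]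
    · rcases hb with h | h
      · exact Or.inl ((hts _).trans h)
      · exact Or.inr ((hts _).trans h)

end Cfsg.Agent.SixInv
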