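import Cfsg.Agent.Lib.SixInv.Know
import Cfsg.Agent.Lib.SixInv.Lift

/-!
The untwisted case: the model of order 256 generated by the Sylow subgroup and the three rotated
involutions.
-/

set_option autoImplicit false
set_option linter.unusedSectionVars false
set_option maxRecDepth 100000

namespace Cfsg.Agent.SixInv

open Subgroup

variable {G : Type*} [Group G] [Finite G] {t : G} {F : Fr t}

theorem gen_z : pK1 * pK1 * pK2 = pZ := by decide +kernel
theorem gen_a : pK1 * pK2 * pK1 = pA := by decide +kernel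

/-- An element fixing generators of the centraliser of `pW` fixes all of it. -/
theorem comm_cwList {h : G} (h1 : Commute h (F.ι pK1)) (h2 : Commute h (F.ι pK2))
    (hw : Commute h (F.ι pW)) (hb : Commute h (F.ι pB)) {σ : S6} (hσ : σ ∈ cwList) :
    Commute h (F.ι σ) := by
  set K : Subgroup S6 := (centralizer ({h} : Set G)).comap F.ι with hK
  have mem : ∀ {τ : S6}, Commute h (F.ι τ) → τ ∈ K := fun c => mem_centralizer_singleton_iff.2 c.symm.eq
  suffices hs : σ ∈ K from (show Commute (F.ι σ) h from mem_centralizer_singleton_iff.1 hs).symm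
  have m1 := mem h1
  have m2 := mem h2
  have mz : pZ ∈ K := gen_z ▸ mul_mem (mul_mem m1 m1) m2
  have ma : pA ∈ K := gen_a ▸ mul_mem (mul_mem m1 m2) m1
  have mw := mem hw
  have mb := mem hb
  simp only [cwList, List.mem_flatMap, List.mem_cons, List.not_mem_nil, or_false] at hσ
  obtain ⟨v, hv, hσ⟩ := hσ
  simp only [a4List, List.mem_flatMap, List.mem_cons, List.not_mem_nil, or_false] at hv
  obtain ⟨u, hu, hv⟩ := hv
  have hu' : u ∈ K := by
    rcases hu with e | e | e | e <;> rw [e]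
    · exact one_mem K
    · exact mz
    · exact ma
    · exact mul_mem ma mz
  have hv' : v ∈ K := by
    rcases hv with e | e | e <;> rw [e]
    · exact hu'
    · exact mul_mem hu' m1
    · exact mul_mem (mul_mem hu' m1) m1
  rcases hσ with e | e | e | e <;> rw [e]
  · exact hv'
  · exact mul_mem hv' mw
  · exact mul_mem hv' mb
  · exact mul_mem (mul_mem hv' mb) mw

/-- The product of the last generators. -/
def hE (f g g' : Bool) : S6 := bp f pC * (bp g pB * bp g' pW)

/-- The rotations of an untwisted swapper and their commutator. -/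
theorem hData (hP : PatFour F) {h : G} (S : Swapper F h) (hb0 : h * F.ι pB * h⁻¹ = F.ι pB) :
    ∃ (h1 h2 : G) (g f : Bool),
      (IsConj h h1 ∧ IsConj h h2) ∧ (h1 * h1 = 1 ∧ h2 * h2 = 1) ∧
      (h1⁻¹ * t * h1 = t * F.ι pB ∧ h2⁻¹ * t * h2 = t * F.ι pC) ∧
      (∀ σ ∈ ([pW, pB, pC] : List S6),
        h⁻¹ * F.ι σ * h = F.ι σ ∧ h1⁻¹ * F.ι σ * h1 = F.ι σ ∧ h2⁻¹ * F.ι σ * h2 = F.ι σ) ∧
      h1⁻¹ * h * h1 = h * F.ι (hE f g g) ∧ h2⁻¹ * h1 * h2 = h1 * F.ι (hE g g f) ∧
      h2⁻¹ * h * h2 = h * F.ι (hE g f g) ∧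
      ((F.ι pA)⁻¹ * h * F.ι pA = h ∧ (F.ι pA)⁻¹ * h1 * F.ι pA = h2 ∧ (F.ι pA)⁻¹ * h2 * F.ι pA = h1) := by
  have hcw : ∀ {σ : S6}, σ ∈ cwList → Commute h (F.ι σ) := fun hσ => comm_cwList
    (mul_inv_eq_iff_eq_mul.1 S.k1) (mul_inv_eq_iff_eq_mul.1 S.k2) (mul_inv_eq_iff_eq_mul.1 S.w)
    (mul_inv_eq_iff_eq_mul.1 hb0) hσ
  set K := MulAut.conj (F.ι pK) with hK
  have Kι : ∀ σ : S6, K (F.ι σ) = F.ι (pK * σ * pK⁻¹) := fun σ => by
    rw [hK, MulAut.conj_apply, map_mul, map_mul, map_inv]
  have Kt : K t = t := by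
    rw [hK, MulAut.conj_apply, ← (F.comm pK).eq, mul_inv_cancel_right]
  have kw : pK * pW * pK⁻¹ = pB := by decide +kernel
  have kb : pK * pB * pK⁻¹ = pC := by decide +kernel
  have kc : pK * pC * pK⁻¹ = pW := by decide +kernel
  set h1 := K h with h1def
  set h2 := K h1 with h2def
  have mw : pW ∈ cwList := mem_of_code (by decide +kernel)
  have mb : pB ∈ cwList := mem_of_code (by decide +kernel)
  have mc : pC ∈ cwList := mem_of_code (by decide +kernel)
  have ma : pA ∈ cwList := mem_of_code (by decide +kernel)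
  have hi : h⁻¹ = h := inv_eq_of_mul_eq_one_right S.sq
  have s1 : h1 * h1 = 1 := by rw [h1def, ← map_mul, S.sq, map_one]
  have s2 : h2 * h2 = 1 := by rw [h2def, ← map_mul, s1, map_one]
  have h1i : h1⁻¹ = h1 := inv_eq_of_mul_eq_one_right s1
  have h2i : h2⁻¹ = h2 := inv_eq_of_mul_eq_one_right s2
  have fix0 : ∀ σ ∈ ([pW, pB, pC] : List S6), Commute h (F.ι σ) := by
    intro σ hσ
    simp only [List.mem_cons, List.not_mem_nil, or_false] at hσ
    rcases hσ with rfl | rfl | rfl <;> [exact hcw mw; exact hcw mb; exact hcw mc]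
  have fix1 : ∀ σ ∈ ([pW, pB, pC] : List S6), Commute h1 (F.ι σ) := by
    intro σ hσ
    simp only [List.mem_cons, List.not_mem_nil, or_false] at hσ
    rcases hσ with rfl | rfl | rfl
    · have := (hcw mc).map K; rwa [Kι, kc] at this
    · have := (hcw mw).map K; rwa [Kι, kw] at this
    · have := (hcw mb).map K; rwa [Kι, kb] at this
  have fix2 : ∀ σ ∈ ([pW, pB, pC] : List S6), Commute h2 (F.ι σ) := by
    intro σ hσ
    simp only [List.mem_cons, List.not_mem_nil, or_false] at hσ
    rcases hσ with rfl | rfl | rfl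
    · have := (fix1 pC (by simp)).map K; rwa [Kι, kc] at this
    · have := (fix1 pW (by simp)).map K; rwa [Kι, kw] at this
    · have := (fix1 pB (by simp)).map K; rwa [Kι, kb] at this
  have t0 : h * t * h = t * F.ι pW := by
    have := S.move; rwa [hi] at this
  have t1 : h1 * t * h1 = t * F.ι pB := by
    have := congrArg K t0
    rwa [map_mul, map_mul, map_mul, Kt, Kι, kw] at this
  have t2 : h2 * t * h2 = t * F.ι pC := by
    have := congrArg K t1
    rwa [map_mul, map_mul, map_mul, Kt, Kι, kb] at this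
  -- the commutator
  set x := h * h1 * h * h1 with hx
  have conjE : ∀ {a : G}, a * a = 1 → ∀ {σ : S6}, Commute a (F.ι σ) → a * F.ι σ * a = F.ι σ :=
    fun {a} ha {σ} hc => by rw [hc.eq, mul_assoc, ha, mul_one]
  have step : ∀ {a : G} {τ : S6}, a * a = 1 → a * t * a = t * F.ι τ → ∀ {σ : S6}, Commute a (F.ι σ) →
      a * (t * F.ι σ) * a = t * F.ι (τ * σ) := fun {a τ} ha ht {σ} hc => by
    calc a * (t * F.ι σ) * a = a * t * a * (a * F.ι σ * a) := by
          rw [← mul_assoc, ← mul_assoc (a * t * a), ← mul_assoc (a * t * a), mul_assoc (a * t) a a, ha, mul_one]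
      _ = _ := by rw [ht, conjE ha hc, mul_assoc, map_mul]
  have hxt : Commute x t := by
    show x * t = t * x
    refine mul_inv_eq_iff_eq_mul.1 ?_
    calc x * t * x⁻¹ = h * (h1 * (h * (h1 * t * h1) * h) * h1) * h := by
          rw [hx, mul_inv_rev, mul_inv_rev, mul_inv_rev, hi, h1i]; group
      _ = t := by
        rw [t1, step S.sq t0 (hcw mb), show pW * pB = pW * pB from rfl,
          step s1 t1 (show Commute h1 (F.ι (pW * pB)) from
            (map_mul F.ι pW pB).symm ▸ (fix1 pW (by simp)).mul_right (fix1 pB (by simp))),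
          show pB * (pW * pB) = pW by decide +kernel, step S.sq t0 (hcw mw), show pW * pW = 1 by decide +kernel,
          map_one, mul_one]
  have hxσ : ∀ σ ∈ ([pW, pB, pC] : List S6), Commute x (F.ι σ) := fun σ hσ =>
    (((fix0 σ hσ).mul_left (fix1 σ hσ)).mul_left (fix0 σ hσ)).mul_left (fix1 σ hσ)
  obtain ⟨ρ, hρ⟩ := F.surj x hxt.eq
  have hρc : ∀ σ ∈ ([pW, pB, pC] : List S6), ρ * σ = σ * ρ := by
    intro σ hσ
    refine F.inj ?_
    rw [map_mul, map_mul]
    rcases hρ with r | r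
    · rw [← r]; exact (hxσ σ hσ).eq
    · rw [show F.ι ρ = t * x by rw [r, ← mul_assoc, F.sq, one_mul]]
      exact ((F.comm σ).mul_left (hxσ σ hσ)).eq
  have key : (cwList.all fun ρ => code (ρ * pB) != code (pB * ρ) || code (ρ * pC) != code (pC * ρ) ||
      [false, true].any fun i => [false, true].any fun j => [false, true].any fun l =>
        code ρ == code (hE i j l)) = true := by decide +kernel
  obtain ⟨i, j, l, rfl⟩ : ∃ i j l, ρ = hE i j l := by
    have h' := List.all_eq_true.1 key ρ (mem_cwList (hρc pW (by simp)))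
    simp only [Bool.or_eq_true, List.any_eq_true, bne_iff_ne, beq_iff_eq] at h'
    rcases h' with (e | e) | ⟨i, -, j, -, l, -, e⟩
    · exact absurd (congrArg code (hρc pB (by simp))) e
    · exact absurd (congrArg code (hρc pC (by simp))) e
    · exact ⟨i, j, l, code_injective e⟩
  have hEc : ∀ {a : G}, (∀ σ ∈ ([pW, pB, pC] : List S6), Commute a (F.ι σ)) → ∀ i j l,
      Commute a (F.ι (hE i j l)) := by
    intro a ha i j l
    have hbp : ∀ (b : Bool), ∀ σ ∈ ([pW, pB, pC] : List S6), Commute a (F.ι (bp b σ)) := by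
      intro b σ hσ
      cases b
      · rw [show bp false σ = 1 from rfl, map_one]
        exact Commute.one_right a
      · exact ha σ hσ
    rw [hE, map_mul, map_mul]
    exact (hbp i pC (by simp)).mul_right ((hbp j pB (by simp)).mul_right (hbp l pW (by simp)))
  have hEsq : ∀ i j l, hE i j l * hE i j l = 1 := by
    intro i j l; cases i <;> cases j <;> cases l <;> decide +kernel
  -- it is inverted by the first involution
  have hinv : h * x * h = x⁻¹ := by
    rw [hx, mul_inv_rev, mul_inv_rev, mul_inv_rev, hi, h1i, show h * (h * h1 * h * h1) * h =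
      h * h * (h1 * h * h1 * h) by group, S.sq, one_mul]
    group
  rcases hρ with hr | hr
  swap
  · exfalso
    have e1 : x⁻¹ = x := by
      refine inv_eq_of_mul_eq_one_right ?_
      rw [hr, F.x_mul_sq, hEsq, map_one]
    rw [e1, hr, step S.sq t0 (hEc fix0 i j l)] at hinv
    exact absurd (mul_eq_right.1 (F.x_mul_inj hinv)) (by decide +kernel)
  -- and exchanged with its inverse by the symmetry of the two pairs
  have hu2 : pK * pA * (pK * pA) = 1 := by decide +kernel
  set U := MulAut.conj (F.ι (pK * pA)) with hU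
  have U0 : U h = h1 := by
    rw [hU, h1def, hK, MulAut.conj_apply, MulAut.conj_apply, map_mul, mul_inv_rev]
    calc F.ι pK * F.ι pA * h * ((F.ι pA)⁻¹ * (F.ι pK)⁻¹)
        = F.ι pK * (F.ι pA * h) * (F.ι pA)⁻¹ * (F.ι pK)⁻¹ := by group
      _ = _ := by rw [← (hcw ma).eq]; group
  have U1 : U h1 = h := by
    rw [← U0, hU, MulAut.conj_apply, MulAut.conj_apply]
    have hh : (F.ι (pK * pA))⁻¹ = F.ι (pK * pA) := inv_eq_of_mul_eq_one_right (by rw [← map_mul, hu2, map_one])
    rw [hh, ← mul_assoc, ← mul_assoc, ← map_mul, hu2, map_one, one_mul, mul_assoc, ← map_mul, hu2, map_one,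
      mul_one]
  have hij : j = l := by
    have e : U x = F.ι (hE i l j) := by
      rw [hr, hU, MulAut.conj_apply, ← map_inv, ← map_mul, ← map_mul]
      refine congrArg F.ι (code_injective ?_)
      cases i <;> cases j <;> cases l <;> decide +kernel
    have e' : U x = x⁻¹ := by
      rw [hx, map_mul, map_mul, map_mul, U0, U1, mul_inv_rev, mul_inv_rev, mul_inv_rev, hi, h1i]
      group
    rw [e, hr, ← map_inv, show (hE i j l)⁻¹ = hE i j l from inv_eq_of_mul_eq_one_right (hEsq i j l)] at e'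
    have := F.inj e'
    revert this
    cases i <;> cases j <;> cases l <;> intro e <;> first | rfl | exact absurd e (by decide +kernel)
  subst hij
  have r1 : h1 * h * h1 = h * F.ι (hE i j j) := by
    rw [← hr, hx, show h * (h * h1 * h * h1) = h * h * (h1 * h * h1) by group, S.sq, one_mul]
  have rot : ∀ f g g', K (F.ι (hE f g g')) = F.ι (hE g g' f) := by
    intro f g g'
    rw [Kι]; refine congrArg F.ι (code_injective ?_)
    cases f <;> cases g <;> cases g' <;> decide +kernel
  have r2 : h2 * h1 * h2 = h1 * F.ι (hE j j i) := by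
    have := congrArg K r1
    rwa [map_mul, map_mul, map_mul, rot] at this
  have hK3 : K h2 = h := by
    rw [h2def, h1def, hK, MulAut.conj_apply, MulAut.conj_apply, MulAut.conj_apply]
    have e : F.ι pK * F.ι pK * F.ι pK = 1 := by
      rw [← map_mul, ← map_mul, show pK * pK * pK = 1 by decide +kernel, map_one]
    rw [show F.ι pK * (F.ι pK * (F.ι pK * h * (F.ι pK)⁻¹) * (F.ι pK)⁻¹) * (F.ι pK)⁻¹ =
      F.ι pK * F.ι pK * F.ι pK * h * (F.ι pK * F.ι pK * F.ι pK)⁻¹ by group, e, one_mul, inv_one, mul_one]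
  have r3 : h2 * h * h2 = h * F.ι (hE j i j) := by
    have e := congrArg K r2
    rw [map_mul, map_mul, map_mul, rot, ← h2def, hK3] at e
    have hc : h2 * F.ι (hE j i j) * h2 = F.ι (hE j i j) := conjE s2 (hEc fix2 j i j)
    calc h2 * h * h2 = h * (h * h2 * h) * h2 := by
          rw [show h * (h * h2 * h) = h * h * (h2 * h) by group, S.sq, one_mul]
      _ = h * (h2 * F.ι (hE j i j)) * h2 := by rw [e]
      _ = h * (h2 * F.ι (hE j i j) * h2) := by group
      _ = _ := by rw [hc]
  have a2 : (F.ι pA)⁻¹ * h1 * F.ι pA = h2 := by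
    have e0 : pK * pK * pA = pA * pK := by decide +kernel
    have e1 : Commute (F.ι pA) h := (hcw ma).symm
    refine mul_left_cancel (a := F.ι pA) ?_
    rw [← mul_assoc, mul_inv_cancel_left, h2def, h1def, hK, MulAut.conj_apply, MulAut.conj_apply]
    have e2 : F.ι pK * F.ι pK * F.ι pA = F.ι pA * F.ι pK := by rw [← map_mul, ← map_mul, e0, map_mul]
    have e3 : F.ι pA * F.ι pK * F.ι pK = F.ι pK * F.ι pA := by
      rw [← map_mul, ← map_mul, show pA * pK * pK = pK * pA by decide +kernel, map_mul]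
    calc F.ι pK * h * (F.ι pK)⁻¹ * F.ι pA
        = F.ι pK * h * ((F.ι pK)⁻¹ * (F.ι pA * F.ι pK * F.ι pK) * (F.ι pK)⁻¹ * (F.ι pK)⁻¹) := by group
      _ = F.ι pK * (h * F.ι pA) * (F.ι pK)⁻¹ * (F.ι pK)⁻¹ := by rw [e3]; group
      _ = F.ι pK * F.ι pA * h * ((F.ι pK)⁻¹ * (F.ι pK)⁻¹) := by rw [← e1.eq]; group
      _ = F.ι pA * F.ι pK * F.ι pK * h * ((F.ι pK)⁻¹ * (F.ι pK)⁻¹) := by rw [e3]
      _ = _ := by group
  refine ⟨h1, h2, j, i, ⟨isConj_iff.2 ⟨F.ι pK, rfl⟩,
    (isConj_iff.2 ⟨F.ι pK, rfl⟩ : IsConj h h1).trans (isConj_iff.2 ⟨F.ι pK, rfl⟩)⟩, ⟨s1, s2⟩,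
    ⟨by rw [h1i, t1], by rw [h2i, t2]⟩, fun σ hσ => ⟨by rw [hi, conjE S.sq (fix0 σ hσ)],
      by rw [h1i, conjE s1 (fix1 σ hσ)], by rw [h2i, conjE s2 (fix2 σ hσ)]⟩,
    by rw [h1i, r1], by rw [h2i, r2], by rw [h2i, r3], ?_, a2, ?_⟩
  · rw [mul_assoc, (hcw ma).eq, inv_mul_cancel_left]
  · have hh : (F.ι pA)⁻¹ = F.ι pA :=
      inv_eq_of_mul_eq_one_right (by rw [← map_mul, show pA * pA = 1 by decide +kernel, map_one])
    rw [← a2, hh, ← mul_assoc, ← mul_assoc, ← map_mul, show pA * pA = 1 by decide +kernel, map_one, one_mul,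
      mul_assoc, ← map_mul, show pA * pA = 1 by decide +kernel, map_one, mul_one]

/-- The relations of the model. -/
def hRels : Bool → Bool → List Tower.Rel
  | false, false => [(0, [2, 1, 4, 8, 32, 16, 64]), (0, [1, 2, 12, 8, 16, 32]), (0, [1, 10, 4, 8, 16]),
      (0, [9, 2, 4, 8]), (0, [1, 2, 4]), (0, [1, 2]), (0, [1]), (0, [])]
  | false, true => [(0, [2, 1, 4, 8, 32, 16, 64]), (0, [33, 18, 12, 8, 16, 32]), (0, [5, 10, 4, 8, 16]),
      (0, [9, 2, 4, 8]), (0, [1, 2, 4]), (0, [1, 2]), (0, [1]), (0, [])]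
  | true, false => [(0, [2, 1, 4, 8, 32, 16, 64]), (0, [25, 42, 12, 8, 16, 32]), (0, [25, 10, 4, 8, 16]),
      (0, [9, 2, 4, 8]), (0, [1, 2, 4]), (0, [1, 2]), (0, [1]), (0, [])]
  | true, true => [(0, [2, 1, 4, 8, 32, 16, 64]), (0, [57, 58, 12, 8, 16, 32]), (0, [29, 10, 4, 8, 16]),
      (0, [9, 2, 4, 8]), (0, [1, 2, 4]), (0, [1, 2]), (0, [1]), (0, [])]

/-- The coordinates of the generators. -/
def hBase : List Coord :=
  [some (false, pA), none, none, none, some (true, 1), some (false, pC), some (false, pB), some (false, pW)]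

/-- The codes of the elementary subgroup. -/
def hCands : List ℕ := (List.range 16).map (16 * ·)

theorem hRels_ok : ∀ g f, Tower.Bounded (hRels g f) = true ∧ 16 < 2 ^ (hRels g f).length ∧
    Option.map (fun p => (p.1, code p.2)) (coord hBase 16) = some (true, code 1) ∧
    kerCheck (hRels g f) hBase 16 hCands = true := by decide +kernel

/-- The untwisted model. -/
theorem exists_hModel (hP : PatFour F) {h : G} (S : Swapper F h) (hb0 : h * F.ι pB * h⁻¹ = F.ι pB) :
    ∃ (g f : Bool) (M : Model F), M.rs = hRels g f ∧ M.base = hBase ∧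
      (IsConj (M.ev 8) (M.ev 4) ∧ IsConj (M.ev 8) (M.ev 2)) := by
  obtain ⟨h1, h2, g, f, ⟨c1, c2⟩, ⟨s1, s2⟩, ⟨t1, t2⟩, fix, r1, r2, r3, a0, a1, a2⟩ := hData hP S hb0
  have sq' : ∀ σ : S6, σ * σ = 1 → F.ι σ * F.ι σ = 1 := fun σ e => by rw [← map_mul, e, map_one]
  have cE : ∀ σ τ : S6, σ * τ = τ * σ → (F.ι σ)⁻¹ * F.ι τ * F.ι σ = F.ι τ := fun σ τ e => by
    rw [mul_assoc, ← map_mul, ← e, map_mul, inv_mul_cancel_left]
  have ct : ∀ σ : S6, (F.ι σ)⁻¹ * t * F.ι σ = t := fun σ => by
    rw [mul_assoc, (F.comm σ).eq, inv_mul_cancel_left]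
  have tc : ∀ σ : S6, t⁻¹ * F.ι σ * t = F.ι σ := fun σ => by
    rw [mul_assoc, ← (F.comm σ).eq, inv_mul_cancel_left]
  have ai : (F.ι pA)⁻¹ * F.ι pW * F.ι pA = F.ι pW ∧ (F.ι pA)⁻¹ * F.ι pB * F.ι pA = F.ι pC ∧
      (F.ι pA)⁻¹ * F.ι pC * F.ι pA = F.ι pB := by
    refine ⟨cE _ _ (by decide +kernel), ?_, ?_⟩ <;>
      rw [mul_assoc, ← map_mul, ← map_inv, ← map_mul] <;> refine congrArg F.ι (code_injective ?_) <;>
        decide +kernel
  have ht : h⁻¹ * t * h = t * F.ι pW := by
    have hi : h⁻¹ = h := inv_eq_of_mul_eq_one_right S.sq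
    have := S.move
    rwa [hi] at this ⊢
  obtain ⟨w0, w1, w2⟩ := fix pW (by simp)
  obtain ⟨b0, b1, b2⟩ := fix pB (by simp)
  obtain ⟨d0, d1, d2⟩ := fix pC (by simp)
  have cs := cE pC pB (by decide +kernel)
  have cs' := cE pC pW (by decide +kernel)
  have cs'' := cE pB pW (by decide +kernel)
  have sa := sq' pA (by decide +kernel)
  have sc := sq' pC (by decide +kernel)
  have sb := sq' pB (by decide +kernel)
  have sw := sq' pW (by decide +kernel)
  have sh := S.sq
  have st := F.sq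
  refine ⟨g, f,
    { gens := [F.ι pA, h2, h1, h, t, F.ι pC, F.ι pB, F.ι pW]
      rs := hRels g f
      base := hBase
      tc := 16
      cands := hCands
      holds := ?_
      hbase := ?_
      bounded := (hRels_ok g f).1
      tc_lt := (hRels_ok g f).2.1
      htc := (hRels_ok g f).2.2.1
      hker := (hRels_ok g f).2.2.2 }, rfl, rfl, ?_⟩
  · cases g <;> cases f <;>
      simp only [hRels, Tower.Holds, List.forall₂_cons, List.Forall₂.nil, and_true] <;>
      norm_num [Tower.val, hE, bp, map_mul, map_one, mul_assoc] at * <;>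
      simp only [*, and_true, true_and]
  · simp only [hBase, List.forall₂_cons, List.Forall₂.nil, and_true, Option.some.injEq, reduceCtorEq,
      false_imp_iff, implies_true, forall_eq', true_and, cond_true, cond_false, map_one, mul_one]
  · exact ⟨by simpa [Model.ev, Tower.val] using c1, by simpa [Model.ev, Tower.val] using c2⟩

end Cfsg.Agent.SixInv
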