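import Cfsg.Agent.Lib.SixInv.Finish
import Cfsg.Agent.Lib.SixInv.HModel

/-!
The untwisted case: the certificates, and the last subcase, settled by the sign on the cosets.
-/

set_option autoImplicit false
set_option linter.unusedSectionVars false
set_option maxRecDepth 100000

namespace Cfsg.Agent.SixInv

open Subgroup

def hc00 : List Step :=
  [.big 2]

def h00t : List Step :=
  [.law 9 1]

def h00f : List Step :=
  [.conj 1 2 7, .conj 9 2 15, .conj 9 16 137, .conj 9 32 105, .conj 17 2 55, .conj 17 4 87,
   .conj 97 2 103, .conj 129 2 135, .conj 145 2 183, .conj 145 4 215, .conj 225 2 231, .conj 15 16 239,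
   .conj 15 32 111, .conj 137 2 143, .conj 137 32 233]

def hc01 : List Step :=
  [.big 62, .law 17 62, .conj 207 2 9, .law 9 1]

def h01 : List Step :=
  [.big 30, .big 62, .big 94, .conj 1 2 135, .conj 1 4 7, .conj 2 4 130,
   .conj 2 8 66, .conj 2 16 34, .conj 4 2 132, .conj 4 8 36, .conj 4 16 68, .conj 8 2 72,
   .conj 8 4 40, .conj 8 16 136, .conj 17 2 183, .conj 17 4 87, .conj 30 1 158, .conj 30 2 254,
   .conj 62 1 222, .conj 94 1 190, .conj 97 2 231, .conj 97 4 103, .conj 113 2 215, .conj 113 4 55,
   .conj 130 8 194, .conj 130 16 162, .conj 66 16 98, .conj 132 8 164, .conj 132 16 196, .conj 36 16 100,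
   .conj 72 4 104, .conj 72 16 200, .conj 40 16 168, .conj 158 2 126, .conj 194 16 226, .conj 164 16 228,
   .conj 104 16 232, .law 8 1, .law 9 96, .law 17 62, .conj 9 4 47, .conj 9 16 137,
   .conj 105 2 175, .conj 105 4 79, .conj 105 16 233]

def h10t : List Step :=
  [.law 9 1]

def h10f : List Step :=
  [.conj 1 2 103, .conj 1 4 7, .conj 9 2 207, .conj 9 16 137, .conj 9 32 105, .conj 17 2 87,
   .conj 113 2 55, .conj 129 2 231, .conj 129 4 135, .conj 145 2 215, .conj 241 2 183, .conj 207 8 175,
   .conj 207 16 47, .conj 137 2 79, .conj 137 32 233]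

def h10p : List Step :=
  [.conj 1 4 7, .conj 17 2 87, .conj 26 1 28, .conj 26 2 154, .conj 26 4 250, .conj 26 8 58,
   .conj 26 16 186, .conj 113 2 55, .conj 145 2 215, .conj 241 2 183, .conj 28 2 252, .conj 28 4 156,
   .conj 28 8 92, .conj 28 16 220, .conj 154 4 122, .conj 250 8 218, .conj 250 16 90, .conj 252 4 124,
   .conj 252 8 188, .conj 252 16 60, .law 17 7, .conj 118 1 22, .conj 118 2 54, .conj 118 4 86,
   .conj 118 8 150, .conj 22 8 246, .conj 54 8 214, .conj 86 8 182]

def h10n : List Step :=
  [.conj 1 4 7, .conj 17 2 87, .conj 26 1 28, .conj 26 2 154, .conj 26 4 250, .conj 26 8 58,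
   .conj 26 16 186, .conj 113 2 55, .conj 145 2 215, .conj 241 2 183, .conj 28 2 252, .conj 28 4 156,
   .conj 28 8 92, .conj 28 16 220, .conj 154 4 122, .conj 250 8 218, .conj 250 16 90, .conj 252 4 124,
   .conj 252 8 188, .conj 252 16 60, .law 17 7, .conj 118 1 22, .conj 118 2 54, .conj 118 4 86,
   .conj 118 8 150, .conj 22 8 246, .conj 54 8 214, .conj 86 8 182]

def hc11 : List Step :=
  [.big 8]

def h11t : List Step :=
  [.law 9 1]

def h11f : List Step :=
  [.conj 1 2 231, .conj 1 4 7, .conj 9 2 15, .conj 9 4 239, .conj 9 16 137, .conj 9 32 105,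
   .conj 17 2 215, .conj 17 4 87, .conj 97 2 135, .conj 97 4 103, .conj 113 2 183, .conj 113 4 55,
   .conj 15 4 233, .conj 15 32 111, .conj 239 32 143]
/-- The identity images. -/
def hImg : List ℕ := [2, 4, 8, 16, 32, 64, 128]

/-- The two characters. -/
def hq (x : ℕ) : Bool := x.testBit 0
def hp (x : ℕ) : Bool := x.testBit 4

/-- The facts about the three rotated involutions. -/
def hFacts (b : Bool) : List (ℕ × Bool) := [(8, b), (4, b), (2, b)]

theorem chk_h00 : signOK (hRels false false) hBase hImg (hFacts true) hc00 hq 45 = true ∧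
    signOK (hRels false false) hBase hImg (hFacts false ++ [(9, true)]) h00t hq 45 = true ∧
    signOK (hRels false false) hBase hImg (hFacts false ++ [(9, false)]) h00f hq 45 = true := by
  refine ⟨?_, ?_, ?_⟩ <;> decide +kernel

theorem chk_h01 : signOK (hRels false true) hBase hImg (hFacts false) hc01 hq 45 = true := by decide +kernel

theorem chk_h10 : signOK (hRels true false) hBase hImg (hFacts false ++ [(9, true)]) h10t hq 45 = true ∧
    signOK (hRels true false) hBase hImg (hFacts false ++ [(9, false)]) h10f hq 45 = true ∧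
    signOK (hRels true false) hBase hImg (hFacts true ++ [(26, true)]) h10p hp 225 = true ∧
    signOK (hRels true false) hBase hImg (hFacts true ++ [(26, false)]) h10n hp 135 = true := by
  refine ⟨?_, ?_, ?_, ?_⟩ <;> decide +kernel

theorem chk_h11 : signOK (hRels true true) hBase hImg (hFacts true) hc11 hq 45 = true ∧
    signOK (hRels true true) hBase hImg (hFacts false ++ [(9, true)]) h11t hq 45 = true ∧
    signOK (hRels true true) hBase hImg (hFacts false ++ [(9, false)]) h11f hq 45 = true := by
  refine ⟨?_, ?_, ?_⟩ <;> decide +kernel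

/-- The character cutting out the normaliser of the Sylow subgroup. -/
def hChi (x : ℕ) : Bool := xor (x.testBit 1) (x.testBit 2)

/-- Generators of the kernel with their inverses. -/
def xGens : List (ℕ × ℕ) := [(1, 1), (6, 134), (8, 8), (16, 16), (32, 32), (64, 64), (128, 128)]

/-- The centraliser of `y` in the kernel has order 32 and is normalised by the kernel's generators. -/
def normCent (rs : List Tower.Rel) (y : ℕ) : Bool :=
  let L := (List.range (2 ^ rs.length)).filter fun c =>
    !hChi c && Tower.mulC rs c y == Tower.mulC rs y c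
  L.length == 32 && !hChi y && xGens.all fun g => L.all fun c =>
    (fun d => Tower.mulC rs d y == Tower.mulC rs y d) (Tower.mulC rs (Tower.mulC rs g.1 c) g.2)

/-- The representatives of the members in the kernel. -/
def hReps : List ℕ := [8, 9, 16, 17]

/-- The facts used in the last subcase. -/
def lastOK (rs : List Tower.Rel) (base : List Coord) : Bool :=
  match run rs hImg h01 (start (2 ^ rs.length) base (hFacts true)) with
  | none => false
  | some k =>
    decide (((List.range 256).countP fun x => k.1.testBit x) = 48) &&
    decide (((List.range 256).countP fun x => !hChi x && k.1.testBit x) = 32) &&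
    (List.range 256).all (fun x => decided rs k x) &&
    hReps.all (fun y => k.1.testBit y && normCent rs y) &&
    (List.range 256).all (fun x => hChi x || !k.1.testBit x || (List.range 256).any fun g =>
      hReps.any fun y => Tower.mulC rs g y == Tower.mulC rs x g)

theorem last_ok : lastOK (hRels false true) hBase = true := by decide +kernel

end Cfsg.Agent.SixInv
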