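import Cfsg.Agent.Lib.SixInv.Finish
import Cfsg.Agent.Lib.SixInv.IIData

/-!
The twisted case: the model of order 256 and its certificates.
-/

set_option autoImplicit false
set_option linter.unusedSectionVars false
set_option maxRecDepth 100000

namespace Cfsg.Agent.SixInv

open Subgroup

def ii00 : List Step :=
  [.big 2, .big 10, .big 34, .big 98, .conj 2 1 226, .conj 10 1 234,
   .conj 10 16 106, .aut 10 6, .conj 34 1 162, .conj 34 4 194, .aut 34 130, .conj 234 16 138,
   .aut 234 230, .aut 106 166, .conj 6 1 238, .aut 6 14, .conj 162 8 66, .aut 138 70,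
   .conj 166 1 46, .aut 166 206, .law 17 2, .conj 243 1 19, .conj 243 4 187, .conj 243 8 115,
   .conj 243 32 147, .conj 19 4 91, .conj 187 1 59, .conj 187 8 219]

def ii01t : List Step :=
  [.big 58, .conj 2 1 226, .conj 2 4 66, .conj 2 8 130, .conj 58 1 186, .conj 58 2 90,
   .conj 58 8 218, .aut 58 150, .conj 226 4 162, .conj 226 8 98, .conj 66 1 194, .conj 66 8 34,
   .aut 186 214, .aut 90 54, .aut 218 118, .conj 150 1 126, .aut 150 94, .conj 54 1 190,
   .aut 54 158, .law 2 17, .law 17 98, .conj 147 1 115, .conj 147 4 251, .conj 243 1 19,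
   .conj 243 4 123, .conj 115 4 27, .conj 251 16 155]

def ii01f : List Step :=
  [.big 58, .conj 2 1 226, .conj 2 4 66, .conj 2 8 130, .conj 58 1 186, .conj 58 2 90,
   .conj 58 8 218, .aut 58 150, .conj 226 4 162, .conj 226 8 98, .conj 66 1 194, .conj 66 8 34,
   .aut 186 214, .aut 90 54, .aut 218 118, .conj 150 1 126, .aut 150 94, .conj 54 1 190,
   .aut 54 158, .law 17 2, .conj 243 1 19, .conj 243 4 123, .conj 243 32 147, .conj 19 4 155,
   .conj 19 32 115, .conj 123 2 251, .conj 123 16 27]

def ii10 : List Step :=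
  [.big 2, .big 10, .big 34, .big 98, .conj 2 1 226, .conj 10 1 234,
   .conj 10 16 106, .aut 10 6, .conj 34 1 162, .conj 34 4 194, .aut 34 130, .conj 234 16 138,
   .aut 234 230, .aut 106 166, .conj 6 1 14, .aut 6 238, .conj 162 8 66, .aut 138 70,
   .conj 166 1 206, .aut 166 46, .law 17 2, .conj 243 1 19, .conj 243 4 91, .conj 243 8 115,
   .conj 243 32 147, .conj 19 4 187, .conj 91 1 219, .conj 91 8 59]

def ii11t : List Step :=
  [.big 58, .conj 2 1 226, .conj 2 4 66, .conj 2 8 130, .conj 58 1 186, .conj 58 2 90,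
   .conj 58 8 218, .aut 58 150, .conj 226 4 162, .conj 226 8 98, .conj 66 1 194, .conj 66 8 34,
   .aut 186 214, .aut 90 54, .aut 218 118, .conj 150 1 158, .aut 150 190, .conj 54 1 94,
   .aut 54 126, .law 2 17, .law 17 98, .conj 147 1 115, .conj 147 4 27, .conj 243 1 19,
   .conj 243 4 155, .conj 115 4 251, .conj 27 16 123]

def ii11f : List Step :=
  [.big 58, .conj 2 1 226, .conj 2 4 66, .conj 2 8 130, .conj 58 1 186, .conj 58 2 90,
   .conj 58 8 218, .aut 58 150, .conj 226 4 162, .conj 226 8 98, .conj 66 1 194, .conj 66 8 34,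
   .aut 186 214, .aut 90 54, .aut 218 118, .conj 150 1 158, .aut 150 190, .conj 54 1 94,
   .aut 54 126, .law 17 2, .conj 243 1 19, .conj 243 4 155, .conj 243 32 147, .conj 19 4 123,
   .conj 19 32 115, .conj 155 2 27, .conj 155 16 251]

/-- The relations of the twisted model. -/
def iiRels : Bool → Bool → List Tower.Rel
  | false, false => [(0, [113, 6, 4, 8, 32, 16, 64]), (0, [1, 2, 60, 8, 16, 32]), (0, [1, 10, 24, 8, 12]),
      (0, [9, 12, 10, 8]), (0, [1, 2, 4]), (0, [1, 2]), (0, [1]), (0, [])]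
  | false, true => [(0, [113, 6, 4, 8, 32, 16, 64]), (0, [17, 34, 60, 8, 16, 32]), (0, [1, 10, 24, 8, 12]),
      (0, [9, 12, 10, 8]), (0, [1, 2, 4]), (0, [1, 2]), (0, [1]), (0, [])]
  | true, false => [(0, [113, 118, 4, 8, 32, 16, 64]), (0, [1, 2, 60, 8, 16, 32]), (0, [1, 10, 24, 8, 12]),
      (0, [9, 12, 10, 8]), (0, [1, 2, 4]), (0, [1, 2]), (0, [1]), (0, [])]
  | true, true => [(0, [113, 118, 4, 8, 32, 16, 64]), (0, [17, 34, 60, 8, 16, 32]), (0, [1, 10, 24, 8, 12]),
      (0, [9, 12, 10, 8]), (0, [1, 2, 4]), (0, [1, 2]), (0, [1]), (0, [])]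

/-- The images under the rotation. -/
def iiImg : Bool → List ℕ
  | false => [2, 12, 4, 16, 128, 32, 64]
  | true => [2, 236, 4, 16, 128, 32, 64]

/-- The coordinates. -/
def iiBase : List Coord :=
  [some (false, pA), none, none, none, some (true, 1), some (false, pC), some (false, pB), some (false, pW)]

theorem iiRels_ok : ∀ b c, Tower.Bounded (iiRels b c) = true ∧ 16 < 2 ^ (iiRels b c).length ∧
    Option.map (fun p => (p.1, code p.2)) (coord iiBase 16) = some (true, code 1) ∧
    kerCheck (iiRels b c) iiBase 16 ((List.range 16).map (16 * ·)) = true := by decide +kernel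

/-- The exponent of the second swapper. -/
def iiPhi (x : ℕ) : Bool := x.testBit 1

/-- A derivation with the rotation ends in a count or a contradiction. -/
def iiOK (b c : Bool) (facts : List (ℕ × Bool)) (steps : List Step) : Bool :=
  match run (iiRels b c) (iiImg b) steps (start 256 iiBase facts) with
  | none => true
  | some k => homCheck (iiRels b c) (sgnOf iiPhi) && complete (iiRels b c) (sgnOf iiPhi) 1 k &&
      decide (countVal (iiRels b c) (sgnOf iiPhi) (-1) k * 1440 = 45 * 256)

theorem iiOK_all : iiOK false false [] ii00 = true ∧ iiOK false true [(2, true)] ii01t = true ∧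
    iiOK false true [(2, false)] ii01f = true ∧ iiOK true false [] ii10 = true ∧
    iiOK true true [(2, true)] ii11t = true ∧ iiOK true true [(2, false)] ii11f = true := by
  refine ⟨?_, ?_, ?_, ?_, ?_, ?_⟩ <;> decide +kernel

variable {G : Type*} [Group G] [Finite G] {t : G} {F : Fr t}

theorem exists_iiModel {n nb nc τ : G} {b c : Bool} (I : IIFacts F n nb nc τ (paramOf b c).1 (paramOf b c).2) :
    ∃ M : Model F, M.rs = iiRels b c ∧ M.base = iiBase ∧ M.HasAut (iiImg b) := by
  obtain ⟨n2, nb2, τ2, nE, nbE, τE, na, nba, τa, hnc, nbn, τn, τnb, kn, knb, kτ⟩ := I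
  have ni : n⁻¹ = n := inv_eq_of_mul_eq_one_right n2
  have nbi : nb⁻¹ = nb := inv_eq_of_mul_eq_one_right nb2
  have τi : τ⁻¹ = τ := inv_eq_of_mul_eq_one_right τ2
  have ew : el F (false, true, false, false) = F.ι pW := congrArg F.ι (by decide +kernel)
  have eb : el F (false, false, true, false) = F.ι pB := congrArg F.ι (by decide +kernel)
  have ec : el F (false, false, false, true) = F.ι pC := congrArg F.ι (by decide +kernel)
  have et : el F (true, false, false, false) = t := by
    show t * F.ι (e3 false false false) = t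
    rw [show e3 false false false = 1 by decide +kernel, map_one, mul_one]
  -- the coordinate of a code in the last four generators
  have hcoord : ∀ z, Tower.val [t, F.ι pC, F.ι pB, F.ι pW] z =
      el F (z % 2 == 1, z / 2 / 2 / 2 % 2 == 1, z / 2 / 2 % 2 == 1, z / 2 % 2 == 1) := by
    intro z
    simp only [Tower.val]
    rcases Nat.mod_two_eq_zero_or_one z with h0 | h0 <;>
    rcases Nat.mod_two_eq_zero_or_one (z / 2) with h1 | h1 <;>
    rcases Nat.mod_two_eq_zero_or_one (z / 2 / 2) with h2 | h2 <;>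
    rcases Nat.mod_two_eq_zero_or_one (z / 2 / 2 / 2) with h3 | h3 <;>
      simp [h0, h1, h2, h3, el, e3, hE, bp, mul_assoc]
  have hE' : ∀ x, τ * el F x * τ = el F (vT x) := τE
  have sw : ∀ x, el F x * τ = τ * el F (vT x) := fun x => by
    rw [← hE', ← mul_assoc, ← mul_assoc, τ2, one_mul]
  have swnb : ∀ x, el F x * nb = nb * el F (vNb x) := fun x => by
    rw [← nbE, ← mul_assoc, ← mul_assoc, nb2, one_mul]
  have hncode : nc = nb * n * el F (vK (paramOf b c).1) := by
    calc nc = nb * (nb * n * nb) * el F (paramOf b c).1 := by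
          rw [hnc, show nb * (nb * n * nb) = nb * nb * (n * nb) by group, nb2, one_mul]
      _ = _ := by
        rw [nbn, mul_assoc (nb), mul_assoc n, el_mul, ← mul_assoc]
        congr 2
        cases b <;> rfl
  have aE : ∀ σ ρ : S6, pA⁻¹ * σ * pA = ρ → (F.ι pA)⁻¹ * F.ι σ * F.ι pA = F.ι ρ := fun σ ρ e => by
    rw [← e, map_mul, map_mul, map_inv]
  have ct : ∀ σ : S6, (F.ι σ)⁻¹ * t * F.ι σ = t := fun σ => by
    rw [mul_assoc, (F.comm σ).eq, inv_mul_cancel_left]
  have tc : ∀ σ : S6, t⁻¹ * F.ι σ * t = F.ι σ := fun σ => by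
    rw [mul_assoc, ← (F.comm σ).eq, inv_mul_cancel_left]
  have cE : ∀ σ ρ : S6, σ * ρ = ρ * σ → (F.ι σ)⁻¹ * F.ι ρ * F.ι σ = F.ι ρ := fun σ ρ e => by
    rw [mul_assoc, ← map_mul, ← e, map_mul, inv_mul_cancel_left]
  have sq' : ∀ σ : S6, σ * σ = 1 → F.ι σ * F.ι σ = 1 := fun σ e => by rw [← map_mul, e, map_one]
  have gτ : ∀ {v : V4}, τ⁻¹ * el F v * τ = el F (vT v) := fun {v} => by rw [τi, τE]
  have gnb : ∀ {v : V4}, nb⁻¹ * el F v * nb = el F (vNb v) := fun {v} => by rw [nbi, nbE]
  have gn : ∀ {v : V4}, n⁻¹ * el F v * n = el F (vN v) := fun {v} => by rw [ni, nE]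
  have a0 : (F.ι pA)⁻¹ * τ * F.ι pA = τ * el F (false, true, true, true) := τa
  have aw := aE pW pW (by decide +kernel)
  have ab := aE pB pC (by decide +kernel)
  have ac := aE pC pB (by decide +kernel)
  have τ1 : τ⁻¹ * nb * τ = nb * el F (vK (paramOf b c).2) := by rw [τi, τnb]
  have τ2' : τ⁻¹ * n * τ = n * el F (paramOf b c).2 := by rw [τi, τn]
  have nb1 : nb⁻¹ * n * nb = n * el F (vadd (vK (paramOf b c).1) (paramOf b c).1) := by rw [nbi, nbn]
  let gens : List G := [F.ι pA, τ, nb, n, t, F.ι pC, F.ι pB, F.ι pW]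
  have hH : Tower.Holds gens (iiRels b c) := by
    have l0 : ∀ z, Tower.val [F.ι pC, F.ι pB, F.ι pW] z =
        el F (false, z / 2 / 2 % 2 == 1, z / 2 % 2 == 1, z % 2 == 1) := by
      intro z
      simp only [Tower.val]
      rcases Nat.mod_two_eq_zero_or_one z with h1 | h1 <;>
      rcases Nat.mod_two_eq_zero_or_one (z / 2) with h2 | h2 <;>
      rcases Nat.mod_two_eq_zero_or_one (z / 2 / 2) with h3 | h3 <;>
        simp [h1, h2, h3, el, e3, hE, bp, mul_assoc]
    have l1 : ∀ z, Tower.val [n, t, F.ι pC, F.ι pB, F.ι pW] z =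
        (if z % 2 = 1 then n else 1) * el F (z / 2 % 2 == 1, z / 2 / 2 / 2 / 2 % 2 == 1, z / 2 / 2 / 2 % 2 == 1,
          z / 2 / 2 % 2 == 1) := fun z => by rw [Tower.val, hcoord]
    have l2 : ∀ z, Tower.val [nb, n, t, F.ι pC, F.ι pB, F.ι pW] z =
        (if z % 2 = 1 then nb else 1) * ((if z / 2 % 2 = 1 then n else 1) * el F (z / 2 / 2 % 2 == 1,
          z / 2 / 2 / 2 / 2 / 2 % 2 == 1, z / 2 / 2 / 2 / 2 % 2 == 1, z / 2 / 2 / 2 % 2 == 1)) := fun z => by
      rw [Tower.val, l1]
    have l3 : ∀ z, Tower.val [τ, nb, n, t, F.ι pC, F.ι pB, F.ι pW] z =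
        (if z % 2 = 1 then τ else 1) * ((if z / 2 % 2 = 1 then nb else 1) * ((if z / 2 / 2 % 2 = 1 then n else 1) *
          el F (z / 2 / 2 / 2 % 2 == 1, z / 2 / 2 / 2 / 2 / 2 / 2 % 2 == 1, z / 2 / 2 / 2 / 2 / 2 % 2 == 1,
            z / 2 / 2 / 2 / 2 % 2 == 1))) := fun z => by rw [Tower.val, l2]
    have z0 := el_zero F
    have g0 : ∀ v, τ⁻¹ * el F v * τ = el F (vT v) := fun v => gτ
    have q1 := g0 (true, false, false, false); have q2 := g0 (false, true, false, false)
    have q3 := g0 (false, false, true, false); have q4 := g0 (false, false, false, true)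
    have g1 : ∀ v, nb⁻¹ * el F v * nb = el F (vNb v) := fun v => gnb
    have p1 := g1 (true, false, false, false); have p2 := g1 (false, true, false, false)
    have p3 := g1 (false, false, true, false); have p4 := g1 (false, false, false, true)
    have g2 : ∀ v, n⁻¹ * el F v * n = el F (vN v) := fun v => gn
    have r1 := g2 (true, false, false, false); have r2 := g2 (false, true, false, false)
    have r3 := g2 (false, false, true, false); have r4 := g2 (false, false, false, true)
    rw [et] at q1 p1 r1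
    rw [ew] at q2 p2 r2
    rw [eb] at q3 p3 r3
    rw [ec] at q4 p4 r4
    have sa := sq' pA (by decide +kernel)
    have sc := sq' pC (by decide +kernel)
    have sb := sq' pB (by decide +kernel)
    have sw' := sq' pW (by decide +kernel)
    have st := F.sq
    have c1 := cE pC pB (by decide +kernel)
    have c2 := cE pC pW (by decide +kernel)
    have c3 := cE pB pW (by decide +kernel)
    have u1 : Tower.val [F.ι pW] 1 = F.ι pW := by simp [Tower.val]
    cases b <;> cases c <;>
      simp only [gens, iiRels, Tower.Holds, List.forall₂_cons, List.Forall₂.nil, and_true, l3, l2, l1, l0, hcoord] <;>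
      norm_num [q1, q2, q3, q4, p1, p2, p3, p4, r1, r2, r3, r4, sa, sb, sc, sw', st, ct, tc, c1, c2, c3, aw, ab,
        ac, n2, nb2, τ2, τ1, τ2', nb1, a0, nba, hncode, na, vT, vN, vNb, vK, vadd, paramOf, z0, ew, eb, ec, et,
        Tower.val, mul_assoc] <;>
      simp [el, e3, hE, bp]
  refine ⟨
    { gens := gens
      rs := iiRels b c
      base := iiBase
      tc := 16
      cands := (List.range 16).map (16 * ·)
      holds := hH
      hbase := ?_
      bounded := (iiRels_ok b c).1
      tc_lt := (iiRels_ok b c).2.1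
      htc := (iiRels_ok b c).2.2.1
      hker := (iiRels_ok b c).2.2.2 }, rfl, rfl, ?_⟩
  · simp only [gens, iiBase, List.forall₂_cons, List.Forall₂.nil, and_true, Option.some.injEq, reduceCtorEq,
      false_imp_iff, implies_true, forall_eq', true_and, cond_true, cond_false, map_one, mul_one]
  -- the rotation
  intro x _ hx2
  refine isConj_iff.2 ⟨F.ι pK, ?_⟩
  have himg : List.Forall₂ (fun g i => (F.ι pK)⁻¹⁻¹ * g * (F.ι pK)⁻¹ = Tower.val gens i)
      [τ, nb, n, t, F.ι pC, F.ι pB, F.ι pW] (iiImg b) := by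
    have kt : F.ι pK * t * (F.ι pK)⁻¹ = t := by rw [← (F.comm pK).eq, mul_inv_cancel_right]
    have kE : ∀ σ ρ : S6, pK * σ * pK⁻¹ = ρ → F.ι pK * F.ι σ * (F.ι pK)⁻¹ = F.ι ρ := fun σ ρ e => by
      rw [← e, map_mul, map_mul, map_inv]
    have k1 := kE pC pW (by decide +kernel)
    have k2 := kE pB pC (by decide +kernel)
    have k3 := kE pW pB (by decide +kernel)
    cases b <;>
      simp only [iiImg, List.forall₂_cons, List.Forall₂.nil, and_true, inv_inv, kτ, knb, kn, kt, k1, k2, k3] <;>
      norm_num [gens, Tower.val, hncode, paramOf, vK, mul_assoc] <;>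
      simp [el, e3, hE, bp]
  have hxv : Tower.val gens x = Tower.val [τ, nb, n, t, F.ι pC, F.ι pB, F.ι pW] (x / 2) := by
    simp only [gens, Tower.val, hx2, zero_ne_one, if_false, one_mul]
  show F.ι pK * Tower.val gens x * (F.ι pK)⁻¹ =
    Tower.val gens (Tower.pw (Tower.mulC (iiRels b c)) (iiImg b) (x / 2))
  rw [Tower.val_pw (fun u v => Tower.val_mulC hH u v) himg, inv_inv, hxv]

/-- The twisted case. -/
theorem index_two_twisted (hP : PatFour F) {h h' : G} (S : Swapper F h) (S' : Swapper F.outer h')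
    (hb : h * F.ι pB * h⁻¹ = F.ι (pB * pW))
    (hb' : h' * F.outer.ι pB * h'⁻¹ = F.outer.ι (pB * pW)) : ∃ H' : Subgroup G, H'.index = 2 := by
  obtain ⟨n, nb, nc, b, c, I⟩ := iiData F hP S S' hb hb'
  obtain ⟨M, hrs, hbase, hA⟩ := exists_iiModel I
  have fin : ∀ (facts : List (ℕ × Bool)) (steps : List Step), iiOK b c facts steps = true →
      (∀ p ∈ facts, (IsConj t (M.ev p.1) ↔ p.2 = true)) → ∃ H' : Subgroup G, H'.index = 2 := by
    intro facts steps hc hf
    simp only [iiOK, ← hrs, ← hbase] at hc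
    have hs := Model.run_sound hP hA steps (M.start_sound hP 256 facts hf)
    cases hk : run M.rs (iiImg b) steps (start 256 M.base facts) with
    | none => rw [hk] at hs; exact hs.elim
    | some k =>
      rw [hk] at hs hc
      simp only [Bool.and_eq_true, decide_eq_true_iff] at hc
      refine Model.index_two_sign (sgnOf iiPhi) hc.1.1 hs hc.1.2 (m := 45) (by decide) (hc.2.trans ?_)
      rw [hrs]
      cases b <;> cases c <;> rfl
  obtain ⟨h00, h01t, h01f, h10, h11t, h11f⟩ := iiOK_all
  have one : ∀ (v : Bool), (IsConj t (M.ev 2) ↔ v = true) →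
      ∀ p ∈ [(2, v)], (IsConj t (M.ev p.1) ↔ p.2 = true) := fun v hv p hp => by
    rw [List.mem_singleton] at hp; subst hp; exact hv
  cases c
  · cases b
    · exact fin _ _ h00 (by simp)
    · exact fin _ _ h10 (by simp)
  · by_cases hD : IsConj t (M.ev 2)
    · cases b
      · exact fin _ _ h01t (one true (iff_of_true hD rfl))
      · exact fin _ _ h11t (one true (iff_of_true hD rfl))
    · cases b
      · exact fin _ _ h01f (one false (iff_of_false hD Bool.false_ne_true))
      · exact fin _ _ h11f (one false (iff_of_false hD Bool.false_ne_true))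

end Cfsg.Agent.SixInv
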