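import Cfsg.Agent.Lib.SixInv.Know
import Cfsg.Agent.Lib.SixInv.Lift

/-!
The initial knowledge of a model: the part in the centraliser of the involution, and further facts.
-/

set_option autoImplicit false
set_option linter.unusedSectionVars false
set_option maxRecDepth 100000

namespace Cfsg.Agent.SixInv

open Subgroup

/-- The mask of a predicate below a bound. -/
def maskOf (p : ℕ → Bool) : ℕ → ℕ
  | 0 => 0
  | n + 1 => if p n then maskOf p n ||| 2 ^ n else maskOf p n

theorem of_maskOf {p : ℕ → Bool} : ∀ {n x : ℕ}, (maskOf p n).testBit x = true → p x = true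
  | 0, x, h => by simp [maskOf] at h
  | n + 1, x, h => by
    simp only [maskOf] at h
    split_ifs at h with hn
    · rw [Nat.testBit_or, Bool.or_eq_true, Nat.testBit_two_pow] at h
      rcases h with h | h
      · exact of_maskOf h
      · obtain rfl : n = x := of_decide_eq_true h
        exact hn
    · exact of_maskOf h

/-- A code standing for a member in the centraliser. -/
def posT (base : List Coord) (x : ℕ) : Bool :=
  match coord base x with
  | some p => p.1 && code (p.2 * p.2) == code 1
  | none => false

/-- A code standing for a non-member in the centraliser. -/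
def negT (base : List Coord) (x : ℕ) : Bool :=
  match coord base x with
  | some p => !p.1
  | none => false

/-- Adding facts. -/
def addFacts : List (ℕ × Bool) → ℕ × ℕ → ℕ × ℕ
  | [], k => k
  | (x, true) :: l, k => addFacts l (k.1 ||| 2 ^ x, k.2)
  | (x, false) :: l, k => addFacts l (k.1, k.2 ||| 2 ^ x)

/-- The knowledge to start from. -/
def start (n : ℕ) (base : List Coord) (facts : List (ℕ × Bool)) : ℕ × ℕ :=
  addFacts facts (maskOf (posT base) n, maskOf (negT base) n)

variable {G : Type*} [Group G] [Finite G] {t : G} {F : Fr t}

theorem Model.addFacts_sound {M : Model F} : ∀ (l : List (ℕ × Bool)) {k : ℕ × ℕ}, M.Sound k →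
    (∀ p ∈ l, (IsConj t (M.ev p.1) ↔ p.2 = true)) → M.Sound (addFacts l k)
  | [], _, hk, _ => hk
  | (x, b) :: l, k, hk, h => by
    have hx := h (x, b) (List.mem_cons_self ..)
    have hrest := fun p hp => h p (List.mem_cons_of_mem _ hp)
    cases b
    · refine Model.addFacts_sound l ?_ hrest
      intro y
      refine ⟨(hk y).1, fun hy => ?_⟩
      rw [Nat.testBit_or, Bool.or_eq_true, Nat.testBit_two_pow] at hy
      rcases hy with hy | hy
      · exact (hk y).2 hy
      · obtain rfl : x = y := of_decide_eq_true hy
        exact fun c => Bool.false_ne_true (hx.1 c)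
    · refine Model.addFacts_sound l ?_ hrest
      intro y
      refine ⟨fun hy => ?_, (hk y).2⟩
      rw [Nat.testBit_or, Bool.or_eq_true, Nat.testBit_two_pow] at hy
      rcases hy with hy | hy
      · exact (hk y).1 hy
      · obtain rfl : x = y := of_decide_eq_true hy
        exact hx.2 rfl

theorem Model.start_sound (hP : PatFour F) (M : Model F) (n : ℕ) (facts : List (ℕ × Bool))
    (h : ∀ p ∈ facts, (IsConj t (M.ev p.1) ↔ p.2 = true)) : M.Sound (start n M.base facts) := by
  refine Model.addFacts_sound facts (fun x => ⟨fun hx => ?_, fun hx => ?_⟩) h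
  · have hp := of_maskOf hx
    unfold posT at hp
    cases hc : coord M.base x with
    | none => rw [hc] at hp; simp at hp
    | some p =>
      rw [hc] at hp
      obtain ⟨b, σ⟩ := p
      simp only [Bool.and_eq_true, beq_iff_eq] at hp
      obtain ⟨rfl, he⟩ := hp
      rw [M.ev_coord hc]
      exact four_member hP (code_injective he)
  · have hp := of_maskOf hx
    unfold negT at hp
    cases hc : coord M.base x with
    | none => rw [hc] at hp; simp at hp
    | some p =>
      rw [hc] at hp
      obtain ⟨b, σ⟩ := p
      cases b
      · rw [M.ev_coord hc]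
        exact four_ι_not hP σ
      · simp at hp

end Cfsg.Agent.SixInv
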