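import Cfsg.Agent.Lib.SixInv.Members

/-!
What follows for the class membership of the elements of a model: a certificate checker, and the
counting criteria read off from a model.
-/

set_option autoImplicit false
set_option linter.unusedSectionVars false
set_option maxRecDepth 100000

namespace Cfsg.Agent.SixInv

open Subgroup
open Cfsg.Agent.SevenInv (index_two_of_count negConj)

/-- A step of a derivation. -/
inductive Step
  /-- `y` is the conjugate of `x` by `g`. -/
  | conj (x g y : ℕ)
  /-- `y` is a member and `v` an involution commuting with it. -/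
  | law (y v : ℕ)
  /-- `x` has a centraliser of order at least 64. -/
  | big (x : ℕ)
  /-- `y` is the image of `x` under the extra symmetry. -/
  | aut (x y : ℕ)

/-- The known members and non-members, as bit masks; `none` after a contradiction. -/
abbrev Know : Type := Option (ℕ × ℕ)

/-- Record a value. -/
def put (x : ℕ) (b : Bool) : ℕ × ℕ → Know
  | (p, n) =>
    if b then (if n.testBit x then none else some (p ||| 2 ^ x, n))
    else (if p.testBit x then none else some (p, n ||| 2 ^ x))

/-- Copy the value of `x` to `y`. -/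
def copy (x y : ℕ) (k : ℕ × ℕ) : Know :=
  if k.1.testBit x then put y true k else if k.2.testBit x then put y false k else some k

/-- One step. -/
def stepK (rs : List Tower.Rel) (img : List ℕ) : Step → ℕ × ℕ → Know
  | .conj x g y, k =>
    if x < 2 ^ rs.length ∧ g < 2 ^ rs.length ∧ y < 2 ^ rs.length ∧ Tower.mulC rs g x = Tower.mulC rs y g then
      copy x y k else some k
  | .law y v, k =>
    if y < 2 ^ rs.length ∧ v < 2 ^ rs.length ∧ v ≠ 0 ∧ v ≠ y ∧ Tower.mulC rs v v = 0 ∧
        Tower.mulC rs v y = Tower.mulC rs y v ∧ k.1.testBit y then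
      (if k.1.testBit v then put (Tower.mulC rs y v) false k
      else if k.2.testBit v then put (Tower.mulC rs y v) true k else some k)
    else some k
  | .big x, k =>
    if x < 2 ^ rs.length ∧ 64 ≤ (List.range (2 ^ rs.length)).countP
        (fun g => Tower.mulC rs g x == Tower.mulC rs x g) then put x false k else some k
  | .aut x y, k =>
    if x < 2 ^ rs.length ∧ x % 2 = 0 ∧ y = Tower.pw (Tower.mulC rs) img (x / 2) then copy x y k else some k

/-- A derivation. -/
def run (rs : List Tower.Rel) (img : List ℕ) : List Step → ℕ × ℕ → Know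
  | [], k => some k
  | s :: ss, k => (stepK rs img s k).bind (run rs img ss)

/-- Whether a code is decided. -/
def decided (rs : List Tower.Rel) (k : ℕ × ℕ) (x : ℕ) : Bool :=
  k.1.testBit x || k.2.testBit x || Tower.mulC rs x x != 0

/-- Everything of value different from one is decided. -/
def complete {α : Type} [DecidableEq α] (rs : List Tower.Rel) (f : ℕ → α) (one : α) (k : ℕ × ℕ) :
    Bool :=
  (List.range (2 ^ rs.length)).all fun x => f x == one || decided rs k x

/-- The number of members of a value. -/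
def countVal {α : Type} [DecidableEq α] (rs : List Tower.Rel) (f : ℕ → α) (a : α) (k : ℕ × ℕ) : ℕ :=
  (List.range (2 ^ rs.length)).countP fun x => f x == a && k.1.testBit x

/-- `f` is multiplicative. -/
def homCheck {α : Type} [DecidableEq α] [Mul α] [One α] (rs : List Tower.Rel) (f : ℕ → α) : Bool :=
  f 0 == 1 &&
  ((List.range (2 ^ rs.length)).all fun x => (List.range rs.length).all fun i =>
    f (Tower.mulC rs x (2 ^ i)) == f x * f (2 ^ i)) &&
  (List.range (2 ^ rs.length)).all fun y => y == 0 || (List.range rs.length).any fun i =>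
    y.testBit i && Tower.mulC rs (2 ^ i) (y - 2 ^ i) == y

variable {G : Type*} [Group G] [Finite G] {t : G} {F : Fr t}

namespace Model

variable (M : Model F)

/-- The known values are true. -/
def Sound (k : ℕ × ℕ) : Prop :=
  ∀ x, (k.1.testBit x = true → IsConj t (M.ev x)) ∧ (k.2.testBit x = true → ¬ IsConj t (M.ev x))

/-- A result is sound. -/
def SoundK : Know → Prop
  | some k => M.Sound k
  | none => False

/-- The extra symmetry. -/
def HasAut (img : List ℕ) : Prop :=
  ∀ x, x < M.N → x % 2 = 0 → IsConj (M.ev x) (M.ev (Tower.pw (Tower.mulC M.rs) img (x / 2)))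

variable {M}

theorem put_sound {k : ℕ × ℕ} (hk : M.Sound k) {x : ℕ} {b : Bool}
    (h : IsConj t (M.ev x) ↔ b = true) : M.SoundK (put x b k) := by
  obtain ⟨p, n⟩ := k
  cases b
  · simp only [put, Bool.false_eq_true, if_false]
    split_ifs with hp
    · exact absurd ((hk x).1 hp) (fun c => Bool.false_ne_true (h.1 c))
    · intro y
      refine ⟨(hk y).1, fun hy => ?_⟩
      rw [Nat.testBit_or, Bool.or_eq_true, Nat.testBit_two_pow] at hy
      rcases hy with hy | hy
      · exact (hk y).2 hy
      · obtain rfl : x = y := of_decide_eq_true hy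
        exact fun c => Bool.false_ne_true (h.1 c)
  · simp only [put, if_true]
    split_ifs with hn
    · exact absurd (h.2 rfl) ((hk x).2 hn)
    · intro y
      refine ⟨fun hy => ?_, (hk y).2⟩
      rw [Nat.testBit_or, Bool.or_eq_true, Nat.testBit_two_pow] at hy
      rcases hy with hy | hy
      · exact (hk y).1 hy
      · obtain rfl : x = y := of_decide_eq_true hy
        exact h.2 rfl

theorem copy_sound {k : ℕ × ℕ} (hk : M.Sound k) {x y : ℕ} (h : IsConj (M.ev x) (M.ev y)) :
    M.SoundK (copy x y k) := by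
  unfold copy
  split_ifs with h1 h2
  · exact put_sound hk (iff_of_true (((hk x).1 h1).trans h) rfl)
  · exact put_sound hk (iff_of_false (fun c => (hk x).2 h2 (c.trans h.symm)) Bool.false_ne_true)
  · exact hk

theorem step_sound (hP : PatFour F) {img : List ℕ} (hA : M.HasAut img) (s : Step) {k : ℕ × ℕ}
    (hk : M.Sound k) : M.SoundK (stepK M.rs img s k) := by
  cases s with
  | conj x g y =>
    simp only [stepK]
    split_ifs with h
    · obtain ⟨-, -, -, he⟩ := h
      refine copy_sound hk (isConj_iff.2 ⟨M.ev g, mul_inv_eq_iff_eq_mul.2 ?_⟩)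
      rw [← M.ev_mul, ← M.ev_mul]
      exact congrArg M.ev he
    · exact hk
  | law y v =>
    simp only [stepK]
    split_ifs with h h1 h2
    · obtain ⟨hy, hv, h0, hne, hsq, hc, hpy⟩ := h
      refine put_sound hk (iff_of_false ?_ Bool.false_ne_true)
      rw [show M.ev (Tower.mulC M.rs y v) = M.ev y * M.ev v from M.ev_mul y v]
      refine (four_law hP ((hk y).1 hpy) ?_ ?_ ?_ ?_).1 ((hk v).1 h1)
      · rw [← M.ev_mul, show M.mul v v = 0 from hsq, M.ev_zero]
      · rw [← M.ev_mul, ← M.ev_mul, show M.mul v y = M.mul y v from hc]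
      · exact fun e => h0 (M.ev_inj hv (Nat.two_pow_pos _) (e.trans M.ev_zero.symm))
      · exact fun e => hne (M.ev_inj hv hy e)
    · obtain ⟨hy, hv, h0, hne, hsq, hc, hpy⟩ := h
      refine put_sound hk (iff_of_true ?_ rfl)
      rw [show M.ev (Tower.mulC M.rs y v) = M.ev y * M.ev v from M.ev_mul y v]
      refine not_not.1 (mt (four_law hP ((hk y).1 hpy) ?_ ?_ ?_ ?_).2 ((hk v).2 h2))
      · rw [← M.ev_mul, show M.mul v v = 0 from hsq, M.ev_zero]
      · rw [← M.ev_mul, ← M.ev_mul, show M.mul v y = M.mul y v from hc]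
      · exact fun e => h0 (M.ev_inj hv (Nat.two_pow_pos _) (e.trans M.ev_zero.symm))
      · exact fun e => hne (M.ev_inj hv hy e)
    · exact hk
    · exact hk
  | big x =>
    simp only [stepK]
    split_ifs with h
    · obtain ⟨hx, h64⟩ := h
      refine put_sound hk (iff_of_false ?_ Bool.false_ne_true)
      refine not_member_of_big F (inf_le_right : M.H ⊓ centralizer ({M.ev x} : Set G) ≤ _) ?_
      have hset : ((M.H ⊓ centralizer ({M.ev x} : Set G) : Subgroup G) : Set G) =
          M.ev '' {g | g < M.N ∧ (Tower.mulC M.rs g x == Tower.mulC M.rs x g) = true} := by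
        ext a
        simp only [coe_inf, Set.mem_inter_iff, SetLike.mem_coe, Set.mem_image, Set.mem_ofPred_eq,
          mem_centralizer_singleton_iff, beq_iff_eq]
        constructor
        · rintro ⟨⟨g, hg, rfl⟩, hc⟩
          refine ⟨g, ⟨hg, M.ev_inj (M.mul_lt hg hx) (M.mul_lt hx hg) ?_⟩, rfl⟩
          have e1 : M.ev (M.mul g x) = M.ev (M.mul x g) := by rw [M.ev_mul, M.ev_mul]; exact hc
          exact e1
        · rintro ⟨g, ⟨hg, hc⟩, rfl⟩
          refine ⟨M.ev_mem hg, ?_⟩
          rw [← M.ev_mul, ← M.ev_mul]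
          exact congrArg M.ev hc
      have hcard : 64 ≤ Nat.card ↥(M.H ⊓ centralizer ({M.ev x} : Set G)) := by
        refine le_of_le_of_eq h64 ?_
        rw [show Nat.card ↥(M.H ⊓ centralizer ({M.ev x} : Set G)) =
          ((M.H ⊓ centralizer ({M.ev x} : Set G) : Subgroup G) : Set G).ncard from Nat.card_coe_set_eq _,
          hset, M.image_card]
        rfl
      obtain ⟨m, -, he⟩ := (Nat.dvd_prime_pow Nat.prime_two).1
        (show Nat.card ↥(M.H ⊓ centralizer ({M.ev x} : Set G)) ∣ 2 ^ M.rs.length from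
          (show Nat.card M.H = 2 ^ M.rs.length from M.card_H) ▸ card_dvd_of_le inf_le_left)
      rw [he] at hcard ⊢
      exact pow_dvd_pow 2 ((Nat.pow_le_pow_iff_right (Nat.lt_succ_self 1)).1
        (show 2 ^ 6 ≤ 2 ^ m from hcard))
    · exact hk
  | aut x y =>
    simp only [stepK]
    split_ifs with h
    · exact copy_sound hk (h.2.2 ▸ hA x h.1 h.2.1)
    · exact hk

theorem hasAut_fix {img : List ℕ}
    (h : ((List.range (2 ^ M.rs.length)).all fun x =>
      x % 2 != 0 || Tower.pw (Tower.mulC M.rs) img (x / 2) == x) = true) : M.HasAut img := fun x hx h2 => by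
  have h1 := List.all_eq_true.1 h x (List.mem_range.2 hx)
  simp only [h2, bne_self_eq_false, Bool.false_or, beq_iff_eq] at h1
  rw [h1]

theorem run_sound (hP : PatFour F) {img : List ℕ} (hA : M.HasAut img) :
    ∀ (ss : List Step) {k : ℕ × ℕ}, M.Sound k → M.SoundK (run M.rs img ss k)
  | [], _, hk => hk
  | s :: ss, k, hk => by
    have h := step_sound hP hA s hk
    simp only [run]
    cases hs : stepK M.rs img s k with
    | none => rw [hs] at h; exact h.elim
    | some k' =>
      rw [hs] at h
      exact run_sound hP hA ss h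


/-- What is decided is true. -/
theorem decided_iff {k : ℕ × ℕ} (hk : M.Sound k) {x : ℕ} (hx : x < M.N)
    (h : decided M.rs k x = true) : IsConj t (M.ev x) ↔ k.1.testBit x = true := by
  refine ⟨fun hD => ?_, (hk x).1⟩
  simp only [decided, Bool.or_eq_true, bne_iff_ne] at h
  rcases h with (h | h) | h
  · exact h
  · exact absurd hD ((hk x).2 h)
  · refine absurd (M.ev_inj (M.mul_lt hx hx) (Nat.two_pow_pos _) ?_) h
    rw [M.ev_mul, M.ev_zero, conj_square F.sq hD]

section Hom

variable {α : Type} [DecidableEq α] [CommGroup α] (f : ℕ → α)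

/-- The code of an element of the subgroup. -/
noncomputable def codeOf (g : M.H) : ℕ := (M.mem_H.1 g.2).choose

theorem codeOf_lt (g : M.H) : M.codeOf g < M.N := (M.mem_H.1 g.2).choose_spec.1

theorem ev_codeOf (g : M.H) : M.ev (M.codeOf g) = g := (M.mem_H.1 g.2).choose_spec.2

theorem f_mul (hf : homCheck M.rs f = true) {x y : ℕ} (hx : x < M.N) (hy : y < M.N) :
    f (M.mul x y) = f x * f y := by
  simp only [homCheck, Bool.and_eq_true, List.all_eq_true, List.mem_range, beq_iff_eq, Bool.or_eq_true,
    List.any_eq_true] at hf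
  obtain ⟨⟨h0, hgen⟩, hdec⟩ := hf
  induction y using Nat.strongRecOn generalizing x with
  | _ y ih =>
    rcases hdec y hy with rfl | ⟨i, hi, hbit, he⟩
    · rw [h0, mul_one]
      refine congrArg f (M.ev_inj (M.mul_lt hx hy) hx ?_)
      rw [M.ev_mul, M.ev_zero, mul_one]
    · have hle := Nat.ge_two_pow_of_testBit hbit
      have hlt : y - 2 ^ i < y := Nat.sub_lt_self (Nat.two_pow_pos i) hle
      have hp : 2 ^ i < M.N := Nat.pow_lt_pow_right (Nat.lt_succ_self 1) hi
      have hr : y - 2 ^ i < M.N := hlt.trans hy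
      have e : M.mul x y = M.mul (M.mul x (2 ^ i)) (y - 2 ^ i) := by
        refine M.ev_inj (M.mul_lt hx hy) (M.mul_lt (M.mul_lt hx hp) hr) ?_
        rw [M.ev_mul, M.ev_mul, M.ev_mul, mul_assoc, ← M.ev_mul (2 ^ i)]
        exact congrArg (fun z => M.ev x * M.ev z) he.symm
      have e2 : f y = f (2 ^ i) * f (y - 2 ^ i) := by
        have h2 := ih _ hlt (x := 2 ^ i) hp hr
        rwa [show M.mul (2 ^ i) (y - 2 ^ i) = y from he] at h2
      rw [e, ih _ hlt (M.mul_lt hx hp) hr, show f (M.mul x (2 ^ i)) = f x * f (2 ^ i) from hgen x hx i hi,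
        e2, mul_assoc]

/-- The homomorphism given by values on codes. -/
noncomputable def homOf (hf : homCheck M.rs f = true) : M.H →* α :=
  MonoidHom.mk' (fun g => f (M.codeOf g)) fun a b => by
    rw [← M.f_mul f hf (M.codeOf_lt a) (M.codeOf_lt b)]
    refine congrArg f (M.ev_inj (M.codeOf_lt _) (M.mul_lt (M.codeOf_lt a) (M.codeOf_lt b)) ?_)
    rw [M.ev_codeOf, M.ev_mul, M.ev_codeOf, M.ev_codeOf, Subgroup.coe_mul]

theorem homOf_ev (hf : homCheck M.rs f = true) {x : ℕ} (hx : x < M.N) :
    M.homOf f hf ⟨M.ev x, M.ev_mem hx⟩ = f x :=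
  congrArg f (M.ev_inj (M.codeOf_lt _) hx (M.ev_codeOf _))

theorem conj_valSet (hf : homCheck M.rs f = true) {k : ℕ × ℕ} (hk : M.Sound k)
    (hc : complete M.rs f 1 k = true) {a : α} (ha : a ≠ 1) :
    Nat.card (conjOf (valSet (M.homOf f hf) a) t) = countVal M.rs f a k := by
  have key : ∀ x, x < M.N → f x = a → (IsConj t (M.ev x) ↔ k.1.testBit x = true) := fun x hx hfx => by
    refine M.decided_iff hk hx ?_
    have h := List.all_eq_true.1 hc x (List.mem_range.2 hx)
    simp only [Bool.or_eq_true, beq_iff_eq] at h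
    exact h.resolve_left fun e => ha (hfx.symm.trans e)
  have e : conjOf (valSet (M.homOf f hf) a) t =
      M.ev '' {x | x < M.N ∧ (f x == a && k.1.testBit x) = true} := by
    ext g
    constructor
    · rintro ⟨hD, hg, hv⟩
      obtain ⟨x, hx, rfl⟩ := M.mem_H.1 hg
      have hfx : f x = a := (M.homOf_ev f hf hx).symm.trans hv
      exact ⟨x, ⟨hx, by simp [hfx, (key x hx hfx).1 hD]⟩, rfl⟩
    · rintro ⟨x, ⟨hx, h⟩, rfl⟩
      simp only [Bool.and_eq_true, beq_iff_eq] at h
      exact ⟨(key x hx h.1).2 h.2, M.ev_mem hx, (M.homOf_ev f hf hx).trans h.1⟩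
  rw [Nat.card_coe_set_eq, e, M.image_card]
  rfl

end Hom

/-- An odd count in one value of a character into a group of order two. -/
theorem index_two_sign (f : ℕ → ℤˣ) (hf : homCheck M.rs f = true) {k : ℕ × ℕ} (hk : M.Sound k)
    (hc : complete M.rs f 1 k = true) {m : ℕ} (hm : Odd m)
    (hcount : countVal M.rs f (-1) k * 1440 = m * 2 ^ M.rs.length) :
    ∃ H' : Subgroup G, H'.index = 2 := by
  refine index_two_of_value (M.homOf f hf) (x := t) F.sq (ε := -1) hm (by decide) ?_ ?_
  · rw [M.conj_valSet f hf hk hc (by decide), F.card_centralizer, M.card_H]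
    exact hcount
  · intro a h1 h2
    rcases Int.units_eq_one_or a with rfl | rfl
    · exact absurd rfl h2
    · exact absurd rfl h1

end Model

theorem transfer_eq_counts {H : Subgroup G} {A : Type*} [CommGroup A] [Fintype A] (φ : H →* A) {x : G}
    (hx : x * x = 1) (N : A → ℕ)
    (hcount : ∀ a : A, a ≠ 1 →
      Nat.card (conjOf (valSet φ a) x) * Nat.card (centralizer ({x} : Set G)) = N a * Nat.card H) :
    MonoidHom.transfer φ x = ∏ a : A, a ^ N a := by
  classical
  haveI : Fintype (G ⧸ H) := Fintype.ofFinite _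
  rw [transfer_eq_prod φ hx, ← Finset.prod_fiberwise Finset.univ (fixVal φ x) (fixVal φ x)]
  refine Finset.prod_congr rfl fun a _ => ?_
  rw [Finset.prod_eq_pow_card (b := a) fun c hc => (Finset.mem_filter.1 hc).2]
  by_cases ha : a = 1
  · rw [ha, one_pow, one_pow]
  congr 1
  refine Nat.eq_of_mul_eq_mul_right (Nat.card_pos : 0 < Nat.card H) ?_
  rw [← hcount a ha, ← card_fixOf_mul (inv_valSet φ a), ← Set.ncard_coe_finset, Nat.card_coe_set_eq]
  congr 2
  ext c
  rw [Finset.mem_coe, Finset.mem_filter]
  show (c ∈ Finset.univ ∧ fixVal φ x c = a) ↔ c.out⁻¹ * x * c.out ∈ valSet φ a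
  constructor
  · rintro ⟨-, h⟩
    by_cases hc : c.out⁻¹ * x * c.out ∈ H
    · rw [fixVal, dif_pos hc] at h
      exact ⟨hc, h⟩
    · rw [fixVal, dif_neg hc] at h
      exact absurd h.symm ha
  · rintro ⟨hc, h⟩
    refine ⟨Finset.mem_univ _, ?_⟩
    rw [fixVal, dif_pos hc, h]

/-- A nontrivial transfer, read off from a model of order `2 ^ n`. -/
theorem Model.index_two_transfer {M : Model F} {A : Type} [DecidableEq A] [CommGroup A] [Fintype A]
    (f : ℕ → A) (hf : homCheck M.rs f = true) {k : ℕ × ℕ} (hk : M.Sound k)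
    (hc : complete M.rs f 1 k = true)
    (hdiv : ∀ a : A, a ≠ 1 → 2 ^ M.rs.length ∣ countVal M.rs f a k * 1440)
    (hne : (∏ a : A, a ^ (countVal M.rs f a k * 1440 / 2 ^ M.rs.length)) ≠ 1) :
    ∃ H' : Subgroup G, H'.index = 2 := by
  set N : A → ℕ := fun a => countVal M.rs f a k * 1440 / 2 ^ M.rs.length with hN
  have hT := transfer_eq_counts (M.homOf f hf) (x := t) F.sq N fun a ha => by
    rw [M.conj_valSet f hf hk hc ha, F.card_centralizer, M.card_H]
    exact (Nat.div_mul_cancel (hdiv a ha)).symm
  refine index_two_of_hom (MonoidHom.transfer (M.homOf f hf)) (g := t) ?_ ?_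
  · rw [← map_mul, F.sq, map_one]
  · rw [hT]
    exact hne

end Cfsg.Agent.SixInv
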