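import Cfsg.Agent.Lib.SixInv.PatTwoEnd

/-!
The pattern of type two when the swap fixes the pairs: the model of order 64.
-/

set_option autoImplicit false
set_option linter.unusedSectionVars false
set_option maxRecDepth 100000

namespace Cfsg.Agent.SixInv

open Subgroup
open Cfsg.Agent.SevenInv (index_two_of_count negConj)

variable {G : Type*} [Group G] [Finite G] {t : G}

namespace V6

theorem all_nodup : all.Nodup := by decide +kernel

theorem setOf_ncard (p : V6 → Bool) {L : List V6} (hL : L.Nodup) (h : ∀ x, p x = true → x ∈ L) :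
    {x : V6 | p x = true}.ncard = L.countP p := by
  classical
  have e : {x : V6 | p x = true} = ((L.filter p).toFinset : Set V6) := by
    ext x
    simp only [List.coe_toFinset, List.mem_filter, Set.mem_ofPred_eq]
    exact ⟨fun hx => ⟨h x hx, hx⟩, fun hx => hx.2⟩
  rw [e, Set.ncard_coe_finset, List.toFinset_card_of_nodup (hL.filter p), List.countP_eq_length_filter]

/-- The inner members and the involutions outside. -/
def cand (i j : Bool) : List V6 := inner ++ reps i j ++ (reps i j).map flip

theorem cand_nodup : ∀ i j : Bool, (cand i j).Nodup := by decide +kernel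

theorem mem_cand_iff (i j : Bool) (x : V6) :
    x ∈ cand i j ↔ x ∈ inner ∨ (x.e = true ∧ mul i j x x = one) := by
  refine forall_of_all (P := fun x => x ∈ cand i j ↔ x ∈ inner ∨ (x.e = true ∧ mul i j x x = one)) ?_ x
  cases i <;> cases j <;> decide +kernel

theorem cand_comm (i j : Bool) (x : V6) (hx : x ∈ cand i j) :
    all.countP (fun u => comm i j u x) = 32 := by
  have key : (cand i j).all (fun x => all.countP (fun u => comm i j u x) == 32) = true := by
    cases i <;> cases j <;> decide +kernel
  exact beq_iff_eq.1 (List.all_eq_true.1 key x hx)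

theorem comm_flip (i j : Bool) (x y : V6) : comm i j (flip x) y = comm i j x y := by
  obtain ⟨a, b, c, d, f, e⟩ := x
  obtain ⟨a', b', c', d', f', e'⟩ := y
  simp only [comm, flip, mul, V6.mk.injEq]
  cases i <;> cases j <;> cases f <;> cases f' <;> cases c <;> cases d <;> cases c' <;> cases d' <;>
    cases e <;> cases e' <;> cases a <;> cases a' <;> cases b <;> cases b' <;> rfl

theorem conj_t_flip (i j : Bool) (x : V6) (hx : x.e = true) :
    mul i j (mul i j ⟨true, false, false, false, false, false⟩ x) ⟨true, false, false, false, false, false⟩ =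
      flip x := by
  obtain ⟨a, b, c, d, f, e⟩ := x
  subst hx
  cases i <;> cases j <;> cases a <;> cases b <;> cases c <;> cases d <;> cases f <;> rfl

end V6

/-- The model. -/
structure Fix6 (F : Fr t) where
  v : G
  i : Bool
  j : Bool
  sq : v * v = 1
  move : v * t * v⁻¹ = t * F.ι pZ
  act : ∀ β γ δ η, v * F.ι (word β γ δ η) * v⁻¹ =
    F.ι (word β γ δ (xor η (xor (j && β) (xor γ (i && δ)))))
  notMem : v ∉ F.syl

namespace Fix6

variable {F : Fr t} (M : Fix6 F)

/-- The element with given coordinates. -/
def val (x : V6) : G := gp x.al t * F.ι (word x.be x.ga x.de x.et) * gp x.e M.v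

theorem t_conj : ∀ α, M.v * gp α t * M.v⁻¹ = gp α t * F.ι (word false false false α) := by
  intro α
  cases α
  · simp [gp, show word false false false false = 1 by decide +kernel]
  · exact (show word false false false true = pZ by decide +kernel) ▸ M.move

theorem comb (α α' β γ δ η β' γ' δ' η' : Bool) :
    gp α t * F.ι (word β γ δ η) * (gp α' t * F.ι (word β' γ' δ' η')) =
      gp (xor α α') t * F.ι (word (xor β β') (xor γ γ') (xor δ δ') (xor (xor η η') (δ && γ'))) := by
  rw [← word_mul, map_mul]
  have hc : Commute (F.ι (word β γ δ η)) (gp α' t) := (gp_comm (F.comm _) α').symm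
  rw [hc.mul_mul_mul_comm]
  congr 1
  cases α <;> cases α' <;> simp [gp, F.sq]

theorem val_mul (x y : V6) : M.val (V6.mul M.i M.j x y) = M.val x * M.val y := by
  obtain ⟨a, b, c, d, f, e⟩ := x
  obtain ⟨a', b', c', d', f', e'⟩ := y
  simp only [val, V6.mul]
  cases e
  · simp only [Bool.false_and, Bool.xor_false, Bool.false_xor, gp, cond_false, mul_one]
    rw [← mul_assoc, show (bif a then t else 1) = gp a t from rfl, show (bif a' then t else 1) = gp a' t from rfl,
      comb (F := F) a a' b c d f b' c' d' f']
    rfl
  · simp only [Bool.true_and, Bool.true_xor]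
    have hw : word b' c' d' (xor f' (xor (xor a' (M.j && b')) (xor c' (M.i && d')))) =
        word false false false a' * word b' c' d' (xor f' (xor (M.j && b') (xor c' (M.i && d')))) := by
      refine code_injective ?_
      cases a' <;> cases b' <;> cases c' <;> cases d' <;> cases f' <;> cases M.i <;> cases M.j <;>
        decide +kernel
    have hv : M.v * (gp a' t * F.ι (word b' c' d' f')) =
        gp a' t * F.ι (word b' c' d' (xor f' (xor (xor a' (M.j && b')) (xor c' (M.i && d'))))) * M.v := by
      rw [← mul_inv_eq_iff_eq_mul, ← conj_mul, M.t_conj, M.act, hw, map_mul, mul_assoc]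
    calc gp (xor a a') t * F.ι (word (xor b b') (xor c c') (xor d d')
          (xor (xor (xor f f') (d && c')) (xor (xor a' (M.j && b')) (xor c' (M.i && d'))))) * gp (!e') M.v
        = gp a t * F.ι (word b c d f) *
            (gp a' t * F.ι (word b' c' d' (xor f' (xor (xor a' (M.j && b')) (xor c' (M.i && d')))))) *
            gp (!e') M.v := by
          rw [comb]
          congr 4
          cases f <;> cases f' <;> cases (d && c') <;> cases (xor (xor a' (M.j && b')) (xor c' (M.i && d'))) <;> rfl
      _ = gp a t * F.ι (word b c d f) * (M.v * (gp a' t * F.ι (word b' c' d' f'))) * gp e' M.v := by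
          rw [hv]
          cases e'
          · simp [gp, mul_assoc]
          · simp [gp, mul_assoc, M.sq]
      _ = _ := by simp [gp, mul_assoc]

theorem val_injective : Function.Injective M.val := by
  rintro ⟨a, b, c, d, f, e⟩ ⟨a', b', c', d', f', e'⟩ h
  simp only [val] at h
  have he : e = e' := by
    cases e <;> cases e' <;> first | rfl | exfalso
    · simp only [gp, cond_false, cond_true, mul_one] at h
      refine M.notMem ?_
      rw [show M.v = (gp a' t * F.ι (word b' c' d' f'))⁻¹ * (gp a t * F.ι (word b c d f)) by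
        simp only [gp]; rw [h]; group]
      exact mul_mem (inv_mem (word_mem_syl _ _ _ _ _)) (word_mem_syl _ _ _ _ _)
    · simp only [gp, cond_false, cond_true, mul_one] at h
      refine M.notMem ?_
      rw [show M.v = (gp a t * F.ι (word b c d f))⁻¹ * (gp a' t * F.ι (word b' c' d' f')) by
        simp only [gp]; rw [← h]; group]
      exact mul_mem (inv_mem (word_mem_syl _ _ _ _ _)) (word_mem_syl _ _ _ _ _)
  subst he
  obtain ⟨rfl, rfl, rfl, rfl, rfl⟩ := word_gen_inj (mul_right_cancel h)
  rfl

theorem val_one : M.val V6.one = 1 := by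
  simp [val, V6.one, gp, show word false false false false = 1 by decide +kernel]

theorem val_comm {x y : V6} : M.val x * M.val y = M.val y * M.val x ↔ V6.comm M.i M.j x y = true := by
  rw [V6.comm, decide_eq_true_iff, ← M.val_mul, ← M.val_mul, M.val_injective.eq_iff]

variable (hP : PatTwo F)
include hP

theorem inner_iff {x : V6} (hx : x.e = false) : IsConj t (M.val x) ↔ x ∈ V6.inner := by
  obtain ⟨a, b, c, d, f, e⟩ := x
  subst hx
  have hs : M.val ⟨a, b, c, d, f, false⟩ ∈ F.syl := by
    simp only [val, gp, cond_false, mul_one]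
    exact word_mem_syl a b c d f
  rw [two_members hP hs]
  have key1 : (V6.inner.all fun x => x.al && (twoList.map code).contains (code (word x.be x.ga x.de x.et))) =
      true := by decide +kernel
  have key2 : (twoList.all fun σ => V6.inner.any fun x => code (word x.be x.ga x.de x.et) == code σ) = true := by
    decide +kernel
  constructor
  · rintro ⟨σ, hσ, h⟩
    obtain ⟨x, hx, hc⟩ := List.any_eq_true.1 (List.all_eq_true.1 key2 σ hσ)
    have hw := code_injective (beq_iff_eq.1 hc)
    have h1 := List.all_eq_true.1 key1 x hx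
    simp only [Bool.and_eq_true] at h1
    have he : x.e = false := by
      have : (V6.inner.all fun x => !x.e) = true := by decide
      simpa using List.all_eq_true.1 this x hx
    have : M.val x = M.val ⟨a, b, c, d, f, false⟩ := by
      rw [h, val, he, h1.1, hw]
      simp [gp]
    exact M.val_injective this ▸ hx
  · intro h
    have h1 := List.all_eq_true.1 key1 _ h
    simp only [Bool.and_eq_true] at h1
    refine ⟨word b c d f, mem_of_code h1.2, ?_⟩
    have ha : a = true := h1.1
    simp [val, gp, ha]

theorem flip_iff {x : V6} (hx : x.e = true) : IsConj t (M.val (V6.flip x)) ↔ IsConj t (M.val x) := by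
  rw [← V6.conj_t_flip M.i M.j x hx, M.val_mul, M.val_mul]
  have ht : M.val ⟨true, false, false, false, false, false⟩ = t := by
    simp [val, gp, show word false false false false = 1 by decide +kernel]
  rw [ht]
  have hc : IsConj (M.val x) (t * M.val x * t) := isConj_iff.2 ⟨t, by rw [F.inv_self]⟩
  exact ⟨fun h => h.trans hc.symm, fun h => h.trans hc⟩

theorem sq_of_member {x : V6} (h : IsConj t (M.val x)) : V6.mul M.i M.j x x = V6.one := by
  refine M.val_injective ?_
  rw [M.val_mul, M.val_one, conj_square F.sq h]

theorem range_card {p : V6 → Bool} : (M.val '' {x | p x = true}).ncard = {x | p x = true}.ncard :=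
  Set.ncard_image_of_injective _ M.val_injective

open scoped Classical in
theorem six {x : V6} (hx : IsConj t (M.val x)) :
    (V6.cand M.i M.j).countP (fun u => decide (IsConj t (M.val u)) && V6.comm M.i M.j u x) = 6 := by
  have hcand : ∀ u, IsConj t (M.val u) → u ∈ V6.cand M.i M.j := by
    intro u hu
    rw [V6.mem_cand_iff]
    cases he : u.e
    · exact Or.inl ((M.inner_iff hP he).1 hu)
    · exact Or.inr ⟨rfl, M.sq_of_member hP hu⟩
  let U : Subgroup G :=
    { carrier := M.val '' {u | V6.comm M.i M.j u x = true}
      one_mem' := ⟨V6.one, M.val_comm.1 (by rw [M.val_one]; group), M.val_one⟩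
      mul_mem' := by
        rintro _ _ ⟨u, hu, rfl⟩ ⟨w, hw, rfl⟩
        refine ⟨V6.mul M.i M.j u w, M.val_comm.1 ?_, M.val_mul u w⟩
        rw [M.val_mul]
        exact (Commute.mul_left (M.val_comm.2 hu) (M.val_comm.2 hw)).eq
      inv_mem' := by
        rintro _ ⟨u, hu, rfl⟩
        have key : (V6.all.all fun u => V6.all.any fun w => decide (V6.mul M.i M.j u w = V6.one)) = true := by
          cases M.i <;> cases M.j <;> decide +kernel
        obtain ⟨w, -, hw⟩ := List.any_eq_true.1 (List.all_eq_true.1 key u (V6.mem_all u))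
        have hw' : M.val w = (M.val u)⁻¹ := eq_inv_of_mul_eq_one_right (by
          rw [← M.val_mul, of_decide_eq_true hw, M.val_one])
        refine ⟨w, M.val_comm.1 ?_, hw'⟩
        rw [hw']
        exact (Commute.inv_left (M.val_comm.2 hu)).eq }
  have hUle : U ≤ centralizer ({M.val x} : Set G) := by
    rintro _ ⟨u, hu, rfl⟩
    exact mem_centralizer_singleton_iff.2 (M.val_comm.2 hu)
  have hU : Nat.card U = 32 := by
    show Nat.card (M.val '' {u | V6.comm M.i M.j u x = true}) = 32
    rw [Nat.card_coe_set_eq, M.range_card hP, V6.setOf_ncard _ V6.all_nodup fun u _ => V6.mem_all u]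
    exact V6.cand_comm _ _ x (hcand x hx)
  obtain ⟨g, hg, hgU⟩ := exists_frame_syl F hx hUle hU
  have hset : M.val '' {u | (decide (IsConj t (M.val u)) && V6.comm M.i M.j u x) = true} =
      (fun y => g * y * g⁻¹) '' {y | IsConj t y ∧ y ∈ F.syl} := by
    ext y
    constructor
    · rintro ⟨u, hu, rfl⟩
      simp only [Set.mem_ofPred_eq, Bool.and_eq_true, decide_eq_true_iff] at hu
      refine ⟨g⁻¹ * M.val u * g, ⟨?_, (hgU _).1 ⟨u, hu.2, rfl⟩⟩, by group⟩
      exact hu.1.trans (isConj_iff.2 ⟨g⁻¹, by rw [inv_inv]⟩)
    · rintro ⟨y, ⟨hD, hy⟩, rfl⟩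
      have hm : g * y * g⁻¹ ∈ U := (hgU _).2 (by
        rw [show g⁻¹ * (g * y * g⁻¹) * g = y by group]; exact hy)
      obtain ⟨u, hu, e⟩ := hm
      refine ⟨u, ?_, e⟩
      simp only [Set.mem_ofPred_eq, Bool.and_eq_true, decide_eq_true_iff]
      exact ⟨by rw [e]; exact hD.trans (isConj_iff.2 ⟨g, rfl⟩), hu⟩
  have h6 := congrArg Set.ncard hset
  rw [M.range_card hP, Set.ncard_image_of_injective _ (fun a b h => by simpa using h),
    card_members hP, V6.setOf_ncard _ (V6.cand_nodup _ _) ?_] at h6
  · exact h6
  · intro u hu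
    simp only [Bool.and_eq_true, decide_eq_true_iff] at hu
    exact hcand u hu.1

open scoped Classical in
theorem outside_count : ∃ c, Odd c ∧
    {x : V6 | (x.e && decide (IsConj t (M.val x))) = true}.ncard = 2 * c := by
  set D : V6 → Bool := fun x => decide (IsConj t (M.val x)) with hD
  have hrep : ∀ x ∈ V6.reps M.i M.j, x.e = true := by
    intro x hx
    simp only [V6.reps, List.mem_filter, Bool.and_eq_true] at hx
    exact hx.2.1.1
  have hinner : ∀ x ∈ V6.inner, x.e = false ∧ D x = true := by
    intro x hx
    have h0 : (V6.inner.all fun x => !x.e) = true := by decide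
    have he : x.e = false := by simpa using List.all_eq_true.1 h0 x hx
    exact ⟨he, decide_eq_true ((M.inner_iff hP he).2 hx)⟩
  have hflip : ∀ x ∈ V6.reps M.i M.j, D (V6.flip x) = D x := fun x hx =>
    decide_eq_decide.2 (M.flip_iff hP (hrep x hx))
  have hsum : ∀ x, D x = true →
      V6.inner.countP (fun u => V6.comm M.i M.j u x) +
        2 * V6.cntSel (fun u => V6.comm M.i M.j u x) (V6.reps M.i M.j) ((V6.reps M.i M.j).map D) = 6 := by
    intro x hx
    have h := M.six hP (of_decide_eq_true hx)
    rw [V6.cand, List.countP_append, List.countP_append, List.countP_map] at h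
    rw [V6.cntSel_map]
    have e0 : V6.inner.countP (fun u => decide (IsConj t (M.val u)) && V6.comm M.i M.j u x) =
        V6.inner.countP (fun u => V6.comm M.i M.j u x) := List.countP_congr fun u hu => by
      rw [show decide (IsConj t (M.val u)) = true from (hinner u hu).2, Bool.true_and]
    have e1 : (V6.reps M.i M.j).countP (fun u => decide (IsConj t (M.val u)) && V6.comm M.i M.j u x) =
        (V6.reps M.i M.j).countP (fun u => D u && V6.comm M.i M.j u x) := rfl
    have e2 : (V6.reps M.i M.j).countP
          ((fun u => decide (IsConj t (M.val u)) && V6.comm M.i M.j u x) ∘ V6.flip) =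
        (V6.reps M.i M.j).countP (fun u => D u && V6.comm M.i M.j u x) := List.countP_congr fun u hu => by
      simp only [Function.comp_apply, V6.comm_flip]
      rw [show decide (IsConj t (M.val (V6.flip u))) = D u from hflip u hu]
    rw [e0, e1, e2] at h
    omega
  have key : V6.okSel M.i M.j ((V6.reps M.i M.j).map D) = true := by
    have hmb : ∀ b : Bool, b ∈ [false, true] := by decide
    refine List.all_eq_true.1 (List.all_eq_true.1 (List.all_eq_true.1 V6.okSel_all M.i (hmb _)) M.j (hmb _)) _ ?_
    have := V6.mem_allB ((V6.reps M.i M.j).map D)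
    rwa [List.length_map] at this
  simp only [V6.okSel, Bool.or_eq_true, List.any_eq_true, Bool.and_eq_true, bne_iff_ne, beq_iff_eq] at key
  rcases key with (⟨p, hp, hp2, hne⟩ | hodd) | ⟨u, hu, hne⟩
  · exfalso
    obtain ⟨x, b⟩ := p
    have hzip : ∀ l : List V6, (x, b) ∈ l.zip (l.map D) → b = D x := by
      intro l
      induction l with
      | nil => simp
      | cons y ys ih =>
        intro h
        simp only [List.map_cons, List.zip_cons_cons, List.mem_cons, Prod.mk.injEq] at h
        rcases h with ⟨rfl, rfl⟩ | h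
        · rfl
        · exact ih h
    exact hne (hsum x ((hzip _ hp).symm.trans hp2))
  · refine ⟨V6.cntSel (fun _ => true) (V6.reps M.i M.j) ((V6.reps M.i M.j).map D), Nat.odd_iff.2 hodd, ?_⟩
    rw [V6.setOf_ncard _ (L := V6.cand M.i M.j) (V6.cand_nodup _ _) ?_]
    · rw [V6.cand, List.countP_append, List.countP_append, List.countP_map,
        show V6.inner.countP (fun x => x.e && decide (IsConj t (M.val x))) = 0 from
          List.countP_eq_zero.2 fun u hu => by simp [(hinner u hu).1],
        List.countP_congr (p := (fun x => x.e && decide (IsConj t (M.val x))) ∘ V6.flip)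
          (q := fun x => x.e && decide (IsConj t (M.val x))) ?_,
        List.countP_congr (p := fun x => x.e && decide (IsConj t (M.val x)))
          (q := fun x => D x && true) ?_, V6.cntSel_map]
      · omega
      · intro u hu
        simp [hrep u hu, D]
      · intro u hu
        show (((V6.flip u).e && decide (IsConj t (M.val (V6.flip u)))) = true) ↔ _
        rw [show (V6.flip u).e = u.e from rfl, show decide (IsConj t (M.val (V6.flip u))) = D u from hflip u hu]
    · intro u hu
      simp only [Bool.and_eq_true, decide_eq_true_iff] at hu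
      rw [V6.mem_cand_iff]
      exact Or.inr ⟨hu.1, M.sq_of_member hP hu.2⟩
  · exact (hne (hsum u (hinner u hu).2)).elim

end Fix6

variable {F : Fr t}

/-- The pattern of type two gives a subgroup of index two. -/
theorem index_two_of_patTwo (hP : PatTwo F) : ∃ H' : Subgroup G, H'.index = 2 := by
  classical
  obtain ⟨g, hg, hgt, -, hz, hgg⟩ := exists_swap_z F hP.e
  have S : SwapZ F g := ⟨hg, hgt, hz, hgg⟩
  obtain ⟨j, p, i, k, hw, ha, hb⟩ := S.images hP
  cases p
  swap
  · exact two_generic hP S fun y hy hD => two_swapped hP S hw ha hb hy hD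
  set H := extSyl F S with hH
  set u := t * F.ι pA with hu
  have hA : pA ∈ twoList := by simp [twoList]
  have hum : u ∈ F.syl := F.x_ι_mem_syl (twoList_sub hA)
  have huD : IsConj t u := (two_members hP hum).2 ⟨pA, hA, rfl⟩
  have haz : F.ι (word false true false i) = F.ι pA * gp i (F.ι pZ) := by
    cases i
    · rw [show word false true false false = pA by decide +kernel]; simp [gp]
    · rw [show word false true false true = pA * pZ by decide +kernel, map_mul]; rfl
  have ht_syl : ∀ x ∈ F.syl, x * t * x⁻¹ = t := fun x hx =>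
    mul_inv_eq_iff_eq_mul.2 (mem_centralizer_singleton_iff.1 (F.syl_le hx))
  have hcz : Commute (F.ι pZ) (F.ι pA) :=
    (Commute.refl (F.ι pA)).symm.symm |> fun _ => by
      show _ = _
      rw [← map_mul, ← map_mul, centre_comm (by simp [tCentre]) (twoList_sub hA)]
  have horb : orb H u ⊆ {u, u * F.ι pZ} := by
    rintro _ ⟨h, hh, rfl⟩
    have hx : ∀ x ∈ F.syl, x * u * x⁻¹ = u ∨ x * u * x⁻¹ = u * F.ι pZ := by
      intro x hx
      rw [hu, ← conj_mul, ht_syl x hx]
      rcases conj_eq_of_syl hx (twoList_sub hA) with e | e <;> rw [e]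
      · exact Or.inl rfl
      · exact Or.inr (mul_assoc _ _ _).symm
    have hg1 : g * u * g⁻¹ = u ∨ g * u * g⁻¹ = u * F.ι pZ := by
      rw [hu, ← conj_mul, hgt, ha, show word false (!false) false i = word false true false i from rfl, haz]
      cases i
      · refine Or.inr ?_
        simp only [gp, cond_false, mul_one]
        rw [mul_assoc, hcz.eq, mul_assoc]
      · refine Or.inl ?_
        simp only [gp, cond_true]
        rw [mul_assoc, ← mul_assoc (F.ι pZ), hcz.eq, mul_assoc (F.ι pA), z_two, mul_one]
    have hg2 : g * (u * F.ι pZ) * g⁻¹ = g * u * g⁻¹ * F.ι pZ := by rw [← conj_mul, hz]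
    rcases hh with hh | hh
    · exact hx h hh
    · rw [show h * u * h⁻¹ = g * ((g⁻¹ * h) * u * (g⁻¹ * h)⁻¹) * g⁻¹ by group]
      rcases hx _ hh with e | e <;> rw [e]
      · exact hg1
      · rw [hg2]
        rcases hg1 with c | c <;> rw [c]
        · exact Or.inr rfl
        · exact Or.inl (by rw [mul_assoc, z_two, mul_one])
  have h2 : (orb H u).ncard = 2 := by
    refine le_antisymm ((Set.ncard_le_ncard horb (Set.toFinite _)).trans
      ((Set.ncard_insert_le _ _).trans (by rw [Set.ncard_singleton]))) ?_
    refine (le_of_eq (Set.ncard_pair (a := u) (b := u * F.ι pZ) ?_).symm).trans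
      (Set.ncard_le_ncard ?_ (Set.toFinite _))
    · exact fun e => z_ne_one (left_eq_mul.1 e)
    · rintro y (rfl | rfl)
      · exact mem_orb_self H _
      · refine ⟨F.ι pB, Or.inl (F.ι_mem_syl (by decide +kernel)), ?_⟩
        rw [hu, ← conj_mul, ht_syl _ (F.ι_mem_syl (by decide +kernel)), mul_assoc, ← map_inv, ← map_mul,
          ← map_mul, mul_assoc, ← map_mul]
        congr 2
        decide +kernel
  have hUc : Nat.card ↥(H ⊓ centralizer ({u} : Set G)) = 32 := by
    have := orb_card H u
    rw [h2, show Nat.card H = 64 from card_extSyl S] at this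
    omega
  obtain ⟨g', hg', hgU⟩ := exists_frame_syl F huD (inf_le_right : H ⊓ centralizer ({u} : Set G) ≤ _) hUc
  obtain ⟨v, hvD, hvU, hvn⟩ : ∃ v, IsConj t v ∧ v ∈ H ⊓ centralizer ({u} : Set G) ∧ v ∉ F.syl := by
    by_contra hcon
    push Not at hcon
    have hsub : (fun y => g' * y * g'⁻¹) '' {y | IsConj t y ∧ y ∈ F.syl} ⊆
        (fun σ => t * F.ι σ) '' {σ | σ ∈ ([1, pZ, pA, pA * pZ] : List S6)} := by
      rintro _ ⟨y, ⟨hD, hy⟩, rfl⟩
      have hm : g' * y * g'⁻¹ ∈ H ⊓ centralizer ({u} : Set G) := (hgU _).2 (by
        rw [show g'⁻¹ * (g' * y * g'⁻¹) * g' = y by group]; exact hy)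
      have hD' : IsConj t (g' * y * g'⁻¹) := hD.trans (isConj_iff.2 ⟨g', rfl⟩)
      obtain ⟨σ, hσ, e⟩ := (two_members hP (hcon _ hD' hm)).1 hD'
      refine ⟨σ, ?_, e.symm⟩
      have key : (twoList.all fun σ => code (σ * pA) != code (pA * σ) ||
          (([1, pZ, pA, pA * pZ] : List S6).map code).contains (code σ)) = true := by decide +kernel
      have h1 := List.all_eq_true.1 key σ hσ
      simp only [Bool.or_eq_true, bne_iff_ne] at h1
      refine mem_of_code (h1.resolve_left fun hne => hne (congrArg code ?_))
      have hc := mem_centralizer_singleton_iff.1 hm.2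
      rw [e, hu, (F.comm σ).symm.mul_mul_mul_comm, (F.comm pA).symm.mul_mul_mul_comm, F.sq, one_mul,
        one_mul, ← map_mul, ← map_mul] at hc
      exact F.inj hc
    have hle := Set.ncard_le_ncard hsub (Set.toFinite _)
    rw [Set.ncard_image_of_injective _ (fun a b h => by simpa using h), card_members hP] at hle
    have h4 : ((fun σ => t * F.ι σ) '' {σ | σ ∈ ([1, pZ, pA, pA * pZ] : List S6)}).ncard ≤ 4 := by
      refine (Set.ncard_image_le (Set.toFinite _)).trans ?_
      rw [show {σ : S6 | σ ∈ ([1, pZ, pA, pA * pZ] : List S6)} =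
        (([1, pZ, pA, pA * pZ] : List S6).toFinset : Set S6) from (List.coe_toFinset _).symm,
        Set.ncard_coe_finset]
      exact List.toFinset_card_le _
    omega
  have hv' : g⁻¹ * v ∈ F.syl := ((mem_extSyl S).1 hvU.1).resolve_left hvn
  have Sv := S.outside hv'
  obtain ⟨j', p', i', k', hw', ha', hb'⟩ := Sv.images hP
  have hva : v * F.ι pA * v⁻¹ = F.ι (word false true false true) := by
    have hc : v * u * v⁻¹ = u := mul_inv_eq_iff_eq_mul.2 (mem_centralizer_singleton_iff.1 hvU.2)
    rw [hu, ← conj_mul, Sv.move, mul_assoc] at hc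
    have hc' := mul_left_cancel hc
    rw [show word false true false true = pZ * pA by decide +kernel, map_mul,
      eq_inv_mul_iff_mul_eq.2 hc', inv_eq_of_mul_eq_one_right z_two]
  have hpi : p' = false ∧ i' = true := by
    have e := F.inj (ha'.symm.trans hva)
    cases p' <;> cases i' <;> first | exact ⟨rfl, rfl⟩ | exact absurd e (by decide +kernel)
  obtain ⟨rfl, rfl⟩ := hpi
  let M : Fix6 F :=
    { v := v
      i := k'
      j := j'
      sq := conj_square F.sq hvD
      move := Sv.move
      act := by
        intro β γ δ η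
        rw [conj_word_eq hP hw' ha' hb' Sv.fixz]
        congr 1
        refine code_injective ?_
        cases β <;> cases γ <;> cases δ <;> cases η <;> cases j' <;> cases k' <;> decide +kernel
      notMem := hvn }
  have hrange : ∀ y ∈ H, ∃ x, M.val x = y := by
    intro y hy
    rcases (mem_extSyl S).1 hy with hy | hy
    · obtain ⟨α, β, γ, δ, η, rfl⟩ := mem_syl_word hy
      exact ⟨⟨α, β, γ, δ, η, false⟩, by simp [Fix6.val, gp]⟩
    · have hm : y * v ∈ F.syl := by
        rw [show y * v = g * (g⁻¹ * y) * g⁻¹ * (g * g) * (g⁻¹ * v) by group]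
        exact mul_mem (mul_mem (S.pres _ hy) S.sq) hv'
      obtain ⟨α, β, γ, δ, η, he⟩ := mem_syl_word hm
      exact ⟨⟨α, β, γ, δ, η, true⟩, by
        show gp α t * F.ι (word β γ δ η) * v = y
        rw [← he, mul_assoc, show v * v = 1 from M.sq, mul_one]⟩
  let χ : H →* ℤˣ := MonoidHom.mk' (fun x => if (x : G) ∈ F.syl then 1 else -1) (by
    have hdis : ∀ x, g⁻¹ * x ∈ F.syl → x ∉ F.syl := fun x hx h => g_notMem S (by
      simpa using mul_mem h (inv_mem hx))
    have key : ∀ a b : G, g⁻¹ * a ∈ F.syl → g⁻¹ * b ∈ F.syl → a * b ∈ F.syl := by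
      intro a b ha hb
      rw [show a * b = g * (g⁻¹ * a) * g⁻¹ * (g * g) * (g⁻¹ * b) by group]
      exact mul_mem (mul_mem (hg _ ha) hgg) hb
    rintro ⟨a, ha | ha⟩ ⟨b, hb | hb⟩
    · simp [ha, hb, mul_mem ha hb]
    · have hb' := hdis b hb
      have : a * b ∉ F.syl := fun h => hb' (by simpa using mul_mem (inv_mem ha) h)
      simp [ha, hb', this]
    · have ha' := hdis a ha
      have : a * b ∉ F.syl := fun h => ha' (by simpa using mul_mem h (inv_mem hb))
      simp [hb, ha', this]
    · simp [hdis a ha, hdis b hb, key a b ha hb])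
  have hsyl : ∀ x : V6, M.val x ∈ F.syl ↔ x.e = false := by
    intro x
    cases he : x.e
    · refine iff_of_true ?_ rfl
      simp only [Fix6.val, he, gp, cond_false, mul_one]
      exact word_mem_syl _ _ _ _ _
    · refine iff_of_false (fun hm => hvn ?_) (by decide)
      simp only [Fix6.val, he] at hm
      have := mul_mem (inv_mem (word_mem_syl x.al x.be x.ga x.de x.et (F := F))) hm
      rw [inv_mul_cancel_left] at this
      simpa [gp] using this
  have hHm : ∀ x : V6, M.val x ∈ H := by
    intro x
    cases he : x.e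
    · exact Or.inl ((hsyl x).2 he)
    · refine mul_mem (Or.inl ?_) (show gp x.e v ∈ H by rw [he]; exact hvU.1)
      exact word_mem_syl _ _ _ _ _
  have hneg : negConj χ t = M.val '' {x : V6 | (x.e && decide (IsConj t (M.val x))) = true} := by
    ext y
    constructor
    · rintro ⟨hD, hy, hv⟩
      obtain ⟨x, rfl⟩ := hrange y hy
      refine ⟨x, ?_, rfl⟩
      simp only [Set.mem_ofPred_eq, Bool.and_eq_true, decide_eq_true_iff]
      refine ⟨?_, hD⟩
      cases he : x.e
      · exfalso
        simp [χ, (hsyl x).2 he] at hv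
      · rfl
    · rintro ⟨x, hx, rfl⟩
      simp only [Set.mem_ofPred_eq, Bool.and_eq_true, decide_eq_true_iff] at hx
      refine ⟨hx.2, hHm x, ?_⟩
      have hn : M.val x ∉ F.syl := fun h => by simp [(hsyl x).1 h] at hx
      simp [χ, hn]
  obtain ⟨c, hc, hcard⟩ := M.outside_count hP
  refine index_two_of_count χ t (by rw [sq]; exact F.sq) (M := 45 * c) (Odd.mul (by decide) hc) ?_
  rw [hneg, Nat.card_coe_set_eq, M.range_card hP, hcard, F.card_centralizer, show Nat.card H = 64 from card_extSyl S]
  ring

end Cfsg.Agent.SixInv
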