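import Cfsg.Agent.Lib.SixInv.HCase
import Cfsg.Agent.Lib.SixInv.IICase
import Cfsg.Agent.Lib.SixInv.CCase
import Cfsg.Agent.Lib.SixInv.PatTwoFixed
import Mathlib.Data.ZMod.Basic

/-!
An involution whose centraliser is the product of a group of order two and the symmetric group of degree
six lies outside some subgroup of index two.
-/

set_option autoImplicit false
set_option linter.unusedSectionVars false
set_option maxRecDepth 100000

namespace Cfsg.Agent.SixInv

open Subgroup

variable {G : Type*} [Group G] [Finite G] {t : G} {F : Fr t}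

theorem pres_fixz {d : G} (hd : Pres F d) : d * F.ι pZ * d⁻¹ = F.ι pZ := by
  have hmem := hd _ (F.ι_mem_syl (σ := pA * pB) (mem_of_code (by decide +kernel)))
  obtain ⟨σ, hσ, e⟩ := F.mem_syl.1 hmem
  have hsq : d * F.ι pZ * d⁻¹ = F.ι (σ * σ) := by
    rw [← pZ_eq_sq, map_mul _ (pA * pB)]
    refine (conj_sq d rfl).trans ?_
    rcases e with e | e <;> rw [e]
    · rw [map_mul]
    · rw [F.x_mul_sq]
  rcases tList_sq σ hσ with s | s
  · rw [s, map_one, conj_eq_one_iff, ← map_one F.ι] at hsq
    exact absurd (F.inj hsq) (by decide +kernel)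
  · rw [hsq, s]

/-- A swapper, or a cyclic action and hence a subgroup of index two. -/
theorem swapper_or_index_two (hP : PatFour F) :
    (∃ H' : Subgroup G, H'.index = 2) ∨ ∃ h, Swapper F h := by
  obtain ⟨d, hd, hm⟩ := exists_pres F (cen_mul F (by simp [tCentre]) hP.b)
  have hz := pres_fixz hd
  have hinj : ∀ {a b : G}, d * a * d⁻¹ = d * b * d⁻¹ → a = b := fun h => by simpa using h
  have hv : ∀ {x : G}, d * (t * F.ι pW) * d⁻¹ = x → d * F.ι pW * d⁻¹ = t * F.ι pW * x := fun {x} h => by
    rw [← h, ← conj_mul, hm, ← mul_assoc, F.x_mul_sq, show pW * pW = 1 by decide +kernel, map_one, one_mul]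
  rcases classify_cen F ((cen_mul F (by simp [tCentre]) hP.b).map hd) with
    e | ⟨hD, -⟩ | ⟨-, e⟩ | ⟨-, e⟩ | ⟨hD, -⟩ | ⟨-, e⟩
  · refine Or.inr (exists_swapper hP hm ?_)
    rw [hv e, mul_assoc, ← (F.comm pW).eq, ← mul_assoc, F.sq, one_mul]
  · exact absurd hD hP.a
  · exfalso
    have h1 := hinj (e.trans hm.symm)
    exact absurd (F.x_mul_inj (h1.trans (by rw [map_one, mul_one]))) (show pW ≠ 1 by decide +kernel)
  · refine Or.inl (index_two_cyclic hP hd hm ?_ hz)
    rw [hv e, (F.comm pW).symm.mul_mul_mul_comm, F.sq, one_mul, ← map_mul,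
      show pW * pZ = pT by decide +kernel]
  · exact absurd hD hP.f
  · exfalso
    have h1 : d * F.ι pW * d⁻¹ = d * F.ι pZ * d⁻¹ := by
      rw [hv e, hz, (F.comm pW).symm.mul_mul_mul_comm, F.sq, one_mul, ← map_mul,
        show pW * pT = pZ by decide +kernel]
    exact absurd (F.inj (hinj h1)) (by decide +kernel)

/-- The pattern of type four gives a subgroup of index two. -/
theorem index_two_of_patFour (hP : PatFour F) : ∃ H' : Subgroup G, H'.index = 2 := by
  rcases swapper_or_index_two hP with h | ⟨h, S⟩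
  · exact h
  rcases swapper_or_index_two (patFour_outer hP) with h' | ⟨h', S'⟩
  · exact h'
  rcases S.b with hb | hb
  · exact index_two_untwisted hP S hb
  rcases S'.b with hb' | hb'
  · exact index_two_untwisted (patFour_outer hP) S' hb'
  exact index_two_twisted hP S S' hb hb'

omit [Finite G] in
theorem centre_trivial {σ : S6} (h : ∀ τ : S6, σ * τ = τ * σ) : σ = 1 := by
  refine Equiv.ext fun a => ?_
  rw [Equiv.Perm.one_apply]
  by_contra hne
  have hthird : ∀ u v : Fin 6, ∃ c, c ≠ u ∧ c ≠ v := by decide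
  obtain ⟨c, hca, hcb⟩ := hthird a (σ a)
  have := congrArg (fun f : S6 => f a) (h (Equiv.swap a c))
  simp only [Equiv.Perm.mul_apply, Equiv.swap_apply_left] at this
  rw [Equiv.swap_apply_of_ne_of_ne hne (Ne.symm hcb)] at this
  exact hca (σ.injective this)

/-- Coordinates from the isomorphism type of the centraliser. -/
theorem exists_fr {t : G} (ht : orderOf t = 2)
    (hC : Nonempty (↥(centralizer ({t} : Set G)) ≃* Multiplicative (ZMod 2) × Equiv.Perm (Fin 6))) :
    Nonempty (Fr t) := by
  obtain ⟨e⟩ := hC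
  have htC : t ∈ centralizer ({t} : Set G) := mem_centralizer_singleton_iff.2 rfl
  set T : centralizer ({t} : Set G) := ⟨t, htC⟩ with hT
  have hTc : ∀ x : centralizer ({t} : Set G), T * x = x * T := fun x =>
    Subtype.ext (mem_centralizer_singleton_iff.1 x.2).symm
  obtain ⟨u, σ0, he⟩ : ∃ u σ0, e T = (u, σ0) := ⟨_, _, rfl⟩
  have hσ : σ0 = 1 := centre_trivial fun τ => by
    have := congrArg (fun p => (e p).2) (hTc (e.symm (1, τ)))
    simpa [map_mul, he] using this
  have hne : t ≠ 1 := fun h => by rw [h, orderOf_one] at ht; exact absurd ht (by norm_num)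
  have hu : u ≠ 1 := fun h => by
    have h1 : e T = e 1 := by rw [he, hσ, h, map_one]; rfl
    exact hne (congrArg Subtype.val (e.injective h1))
  have hcases : ∀ a b : Multiplicative (ZMod 2), b ≠ 1 → a = 1 ∨ a = b := by decide
  subst hσ
  let ι : S6 →* G := (centralizer ({t} : Set G)).subtype.comp
    (e.symm.toMonoidHom.comp (MonoidHom.inr (Multiplicative (ZMod 2)) S6))
  have hι : ∀ σ, ι σ = (e.symm (1, σ) : G) := fun σ => rfl
  refine ⟨⟨ι, ?_, fun σ => ?_, fun σ h => ?_, fun g hg => ?_, ?_⟩⟩
  · intro a b h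
    rw [hι, hι] at h
    simpa using congrArg Prod.snd (e.symm.injective (Subtype.ext h))
  · exact (mem_centralizer_singleton_iff.1 (e.symm (1, σ)).2).symm
  · rw [hι] at h
    have : e.symm (1, σ) = T := Subtype.ext h
    rw [MulEquiv.symm_apply_eq, he] at this
    exact hu (congrArg Prod.fst this).symm
  · obtain ⟨a, σ, hp⟩ : ∃ a σ, e ⟨g, mem_centralizer_singleton_iff.2 hg⟩ = (a, σ) := ⟨_, _, rfl⟩
    refine ⟨σ, ?_⟩
    rcases hcases a u hu with rfl | rfl
    · refine Or.inl ?_
      rw [hι, ← hp, MulEquiv.symm_apply_apply]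
    · refine Or.inr ?_
      have h2 : (⟨g, mem_centralizer_singleton_iff.2 hg⟩ : centralizer ({t} : Set G)) = T * e.symm (1, σ) := by
        apply e.injective
        rw [map_mul, hp, he, MulEquiv.apply_symm_apply, Prod.mk_mul_mk, mul_one, one_mul]
      exact congrArg Subtype.val h2
  · have := pow_orderOf_eq_one t
    rwa [ht, sq] at this

/-- The theorem. -/
theorem index_two (F : Fr t) : ∃ H' : Subgroup G, H'.index = 2 := by
  by_contra hno
  rcases pattern F hno with h | h | h
  · exact hno (index_two_of_patTwo h)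
  · exact hno (index_two_of_patFour h)
  · exact hno (index_two_of_patFour h)

end Cfsg.Agent.SixInv
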