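import Cfsg.Agent.Lib.SixInv.Tower
import Cfsg.Agent.Lib.SixInv.Basic

/-!
The pattern of type four: the members in the centraliser, the law for commuting pairs, and models with
coordinates on the part in the centraliser.
-/

set_option autoImplicit false
set_option linter.unusedSectionVars false
set_option maxRecDepth 100000

namespace Cfsg.Agent.SixInv

open Subgroup

variable {G : Type*} [Group G] [Finite G] {t : G} {F : Fr t}

theorem four_member (hP : PatFour F) {σ : S6} (h : σ * σ = 1) : IsConj t (t * F.ι σ) := by
  by_cases h1 : σ = 1
  · rw [h1, map_one, mul_one]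
  rcases class_cases σ h h1 with c | c | c
  · exact hP.b.trans (isConj_mul_map F c)
  · exact hP.e.trans (isConj_mul_map F c)
  · exact hP.h.trans (isConj_mul_map F c)

theorem four_ι_not (hP : PatFour F) (σ : S6) : ¬ IsConj t (F.ι σ) := by
  intro hD
  rcases classify F (F.comm σ).symm.eq hD with e | ⟨τ, h2, h1, e⟩
  · exact F.notmem σ e
  rcases e with e | e
  · have hD' : IsConj t (F.ι τ) := e ▸ hD
    rcases class_cases τ h2 h1 with c | c | c
    · exact hP.a (hD'.trans (isConj_map F c).symm)
    · exact z_not_conj F (hD'.trans (isConj_map F c).symm)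
    · exact hP.f (hD'.trans (isConj_map F c).symm)
  · exact F.x_mul_ne _ _ e.symm

/-- For an involution commuting with a member, exactly one of it and the product is a member. -/
theorem four_law (hP : PatFour F) {y v : G} (hy : IsConj t y) (hv : v * v = 1) (hvy : v * y = y * v)
    (h1 : v ≠ 1) (hne : v ≠ y) : IsConj t v ↔ ¬ IsConj t (y * v) := by
  obtain ⟨g, hg⟩ := isConj_iff.1 hy
  have hiff : ∀ u, IsConj t u ↔ IsConj t (g⁻¹ * u * g) := fun u =>
    ⟨fun h => h.trans (isConj_iff.2 ⟨g⁻¹, by rw [inv_inv]⟩),
      fun h => h.trans (isConj_iff.2 ⟨g, by group⟩)⟩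
  rw [hiff v, hiff (y * v), show g⁻¹ * (y * v) * g = t * (g⁻¹ * v * g) by rw [← hg]; group]
  obtain ⟨σ, e | e⟩ := F.surj (g⁻¹ * v * g) (by
    calc g⁻¹ * v * g * t = g⁻¹ * (v * (g * t * g⁻¹)) * g := by group
      _ = g⁻¹ * (g * t * g⁻¹ * v) * g := by rw [hg, hvy]
      _ = t * (g⁻¹ * v * g) := by group)
  all_goals
    have h2 : g⁻¹ * v * g * (g⁻¹ * v * g) = 1 := by
      calc g⁻¹ * v * g * (g⁻¹ * v * g) = g⁻¹ * (v * v) * g := by group
        _ = 1 := by rw [hv, mul_one, inv_mul_cancel]
    rw [e] at h2 ⊢
  · rw [← map_mul, ← map_one F.ι] at h2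
    exact iff_of_false (four_ι_not hP σ) (not_not.2 (four_member hP (F.inj h2)))
  · rw [← mul_assoc, F.sq, one_mul]
    rw [F.x_mul_sq, ← map_one F.ι] at h2
    exact iff_of_true (four_member hP (F.inj h2)) (four_ι_not hP σ)

/-! ### Coordinates -/

/-- A description of a generator inside the centraliser of `t`. -/
abbrev Coord : Type := Option (Bool × S6)

/-- The coordinates of a code. -/
def coord : List Coord → ℕ → Coord
  | [], _ => some (false, 1)
  | b :: bs, x =>
    if x % 2 = 1 then
      match b, coord bs (x / 2) with
      | some p, some q => some (xor p.1 q.1, p.2 * q.2)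
      | _, _ => none
    else coord bs (x / 2)

/-- Some conjugation moves `t`, for every code without coordinates. -/
def kerCheck (rs : List Tower.Rel) (base : List Coord) (tc : ℕ) (cands : List ℕ) : Bool :=
  (List.range (2 ^ rs.length)).all fun x =>
    if x = 0 then true else
    match coord base x with
    | some p => p.1 || code p.2 != code 1
    | none => cands.any fun c =>
      match coord base c with
      | some p => (!(p.1 && code p.2 == code 1)) && Tower.mulC rs x tc == Tower.mulC rs c x
      | none => false

/-- A model: generators in `G` with their relations. -/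
structure Model (F : Fr t) where
  gens : List G
  rs : List Tower.Rel
  base : List Coord
  tc : ℕ
  cands : List ℕ
  holds : Tower.Holds gens rs
  hbase : List.Forall₂
    (fun (g : G) (b : Coord) => ∀ p : Bool × S6, b = some p → g = bif p.1 then t * F.ι p.2 else F.ι p.2)
    gens base
  bounded : Tower.Bounded rs = true
  tc_lt : tc < 2 ^ rs.length
  htc : Option.map (fun p => (p.1, code p.2)) (coord base tc) = some (true, code 1)
  hker : kerCheck rs base tc cands = true

namespace Model

variable (M : Model F)

/-- The number of codes. -/
def N : ℕ := 2 ^ M.rs.length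

/-- The product of codes. -/
def mul (x y : ℕ) : ℕ := Tower.mulC M.rs x y

/-- The element with a given code. -/
def ev (x : ℕ) : G := Tower.val M.gens x

theorem ev_mul (x y : ℕ) : M.ev (M.mul x y) = M.ev x * M.ev y := Tower.val_mulC M.holds x y

theorem ev_zero : M.ev 0 = 1 := Tower.val_zero _

theorem mul_lt {x y : ℕ} (hx : x < M.N) (hy : y < M.N) : M.mul x y < M.N :=
  Tower.mulC_lt M.bounded x y hx hy

theorem ev_coord {x : ℕ} {p : Bool × S6} (h : coord M.base x = some p) :
    M.ev x = bif p.1 then t * F.ι p.2 else F.ι p.2 := by
  have key : ∀ {gens : List G} {base : List Coord}, List.Forall₂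
      (fun (g : G) (b : Coord) => ∀ p : Bool × S6, b = some p →
        g = bif p.1 then t * F.ι p.2 else F.ι p.2) gens base →
      ∀ x (p : Bool × S6), coord base x = some p →
        Tower.val gens x = bif p.1 then t * F.ι p.2 else F.ι p.2 := by
    intro gens base hb
    induction hb with
    | nil =>
      intro x p h
      simp only [coord, Option.some.injEq] at h
      subst h
      simp [Tower.val]
    | @cons g b gs bs hgb _ ih =>
      intro x p h
      simp only [coord] at h
      simp only [Tower.val]
      split_ifs at h with hx
      · rw [if_pos hx]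
        revert h
        cases hb' : b with
        | none => simp
        | some u =>
          cases hq : coord bs (x / 2) with
          | none => simp
          | some q =>
            intro h
            simp only [Option.some.injEq] at h
            subst h
            rw [hgb u hb', ih _ q hq]
            obtain ⟨c, σ⟩ := u
            obtain ⟨d, τ⟩ := q
            cases c <;> cases d <;> simp only [Bool.xor_false, Bool.false_xor, Bool.xor_true, Bool.not_true,
              Bool.not_false, cond_true, cond_false, map_mul]
            · rw [← mul_assoc, ← (F.comm σ).eq, mul_assoc]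
            · rw [mul_assoc]
            · rw [(F.comm σ).symm.mul_mul_mul_comm, F.sq, one_mul]
      · rw [if_neg hx, one_mul]
        exact ih _ p h
  exact key M.hbase x p h

theorem ev_tc : M.ev M.tc = t := by
  obtain ⟨p, hp, he⟩ := Option.map_eq_some_iff.1 M.htc
  obtain ⟨b, σ⟩ := p
  simp only [Prod.mk.injEq] at he
  obtain ⟨rfl, he⟩ := he
  rw [M.ev_coord hp, code_injective he, cond_true, map_one, mul_one]

theorem trivKer : Tower.TrivKer M.gens := by
  intro x hx h
  by_contra h0
  have hlen := Tower.length_eq M.holds
  have h1 := List.all_eq_true.1 M.hker x (List.mem_range.2 (hlen ▸ hx))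
  rw [if_neg h0] at h1
  cases hc : coord M.base x with
  | some p =>
    rw [hc] at h1
    obtain ⟨b, σ⟩ := p
    have := M.ev_coord hc
    rw [show M.ev x = 1 from h] at this
    cases b
    · simp only [cond_false] at this
      rw [← map_one F.ι] at this
      rw [← F.inj this] at h1
      simp at h1
    · simp only [cond_true] at this
      exact F.x_mul_ne σ 1 (by rw [map_one]; exact this.symm)
  | none =>
    rw [hc] at h1
    obtain ⟨c, -, hcc⟩ := List.any_eq_true.1 h1
    cases hp : coord M.base c with
    | none => rw [hp] at hcc; simp at hcc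
    | some p =>
      rw [hp] at hcc
      simp only [Bool.and_eq_true, beq_iff_eq] at hcc
      obtain ⟨b, σ⟩ := p
      have e : M.ev (M.mul x M.tc) = M.ev (M.mul c x) := congrArg M.ev hcc.2
      rw [ev_mul, ev_mul, show M.ev x = 1 from h, one_mul, mul_one, ev_tc, M.ev_coord hp] at e
      cases b
      · exact F.notmem σ e.symm
      · simp only [cond_true] at e
        have hσ : σ = 1 := F.x_mul_inj (by rw [map_one, mul_one]; exact e.symm)
        rw [hσ] at hcc
        simp at hcc

theorem ev_inj {x y : ℕ} (hx : x < M.N) (hy : y < M.N) (h : M.ev x = M.ev y) : x = y :=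
  Tower.val_inj M.holds M.bounded M.trivKer x y (Tower.length_eq M.holds ▸ hx)
    (Tower.length_eq M.holds ▸ hy) h

/-- The subgroup. -/
noncomputable def H : Subgroup G := Tower.span M.holds M.bounded

theorem mem_H {g : G} : g ∈ M.H ↔ ∃ x < M.N, M.ev x = g := Iff.rfl

theorem ev_mem {x : ℕ} (hx : x < M.N) : M.ev x ∈ M.H := ⟨x, hx, rfl⟩

/-- The codes and the elements correspond. -/
theorem image_card (p : ℕ → Bool) :
    (M.ev '' {x | x < M.N ∧ p x = true}).ncard = (List.range M.N).countP p := by
  classical
  rw [Set.ncard_image_of_injOn fun x hx y hy h => M.ev_inj hx.1 hy.1 h,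
    show {x | x < M.N ∧ p x = true} = (((List.range M.N).filter p).toFinset : Set ℕ) by
      ext x; simp,
    Set.ncard_coe_finset, List.toFinset_card_of_nodup (List.nodup_range.filter p),
    List.countP_eq_length_filter]

theorem card_H : Nat.card M.H = M.N := by
  have e : (M.H : Set G) = M.ev '' {x | x < M.N ∧ (fun _ => true) x = true} := by
    ext g
    simp [mem_H, Set.mem_image]
  rw [show Nat.card M.H = (M.H : Set G).ncard from (Nat.card_coe_set_eq _), e, M.image_card,
    List.countP_true, List.length_range]

end Model

end Cfsg.Agent.SixInv
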