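import Cfsg.Agent.Lib.SixInv.PatTwo

/-!
The pattern of type two: the subgroup of order 64 and the count.
-/

set_option autoImplicit false
set_option linter.unusedSectionVars false
set_option maxRecDepth 100000

namespace Cfsg.Agent.SixInv

open Subgroup
open Cfsg.Agent.SevenInv (index_two_of_sign)

variable {G : Type*} [Group G] [Finite G] {t : G} {F : Fr t}

/-- The subgroup generated by the Sylow subgroup and the swap. -/
def extSyl (F : Fr t) {g : G} (S : SwapZ F g) : Subgroup G where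
  carrier := {x | x ∈ F.syl ∨ g⁻¹ * x ∈ F.syl}
  one_mem' := Or.inl (one_mem _)
  mul_mem' := by
    have hgi : ∀ x ∈ F.syl, g⁻¹ * x * g ∈ F.syl := fun x hx => by simpa using S.pres.inv x hx
    rintro a b (ha | ha) (hb | hb)
    · exact Or.inl (mul_mem ha hb)
    · refine Or.inr ?_
      rw [show g⁻¹ * (a * b) = g⁻¹ * a * g * (g⁻¹ * b) by group]
      exact mul_mem (hgi a ha) hb
    · exact Or.inr (by rw [← mul_assoc]; exact mul_mem ha hb)
    · refine Or.inl ?_
      rw [show a * b = g * (g⁻¹ * a) * g⁻¹ * (g * g) * (g⁻¹ * b) by group]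
      exact mul_mem (mul_mem (S.pres _ ha) S.sq) hb
  inv_mem' := by
    have hgi : ∀ x ∈ F.syl, g⁻¹ * x * g ∈ F.syl := fun x hx => by simpa using S.pres.inv x hx
    rintro a (ha | ha)
    · exact Or.inl (inv_mem ha)
    · refine Or.inr ?_
      rw [show g⁻¹ * a⁻¹ = g⁻¹ * (g⁻¹ * a)⁻¹ * g * (g * g)⁻¹ by group]
      exact mul_mem (hgi _ (inv_mem ha)) (inv_mem S.sq)

theorem mem_extSyl {g : G} (S : SwapZ F g) {x : G} :
    x ∈ extSyl F S ↔ x ∈ F.syl ∨ g⁻¹ * x ∈ F.syl := Iff.rfl

theorem g_notMem {g : G} (S : SwapZ F g) : g ∉ F.syl := fun h => by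
  have e := mem_centralizer_singleton_iff.1 (F.syl_le h)
  have hm := S.move
  rw [e, mul_inv_cancel_right] at hm
  exact z_ne_one (left_eq_mul.1 hm)

theorem card_extSyl {g : G} (S : SwapZ F g) : Nat.card (extSyl F S) = 64 := by
  have e : (extSyl F S : Set G) = (F.syl : Set G) ∪ (fun x => g * x) '' (F.syl : Set G) := by
    ext x
    simp only [SetLike.mem_coe, mem_extSyl, Set.mem_union, Set.mem_image]
    refine or_congr_right ⟨fun h => ⟨_, h, mul_inv_cancel_left _ _⟩, ?_⟩
    rintro ⟨s, hs, rfl⟩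
    rwa [inv_mul_cancel_left]
  have hc : (F.syl : Set G).ncard = 32 := by rw [← Nat.card_coe_set_eq]; exact F.card_syl
  rw [show Nat.card (extSyl F S) = (extSyl F S : Set G).ncard from (Nat.card_coe_set_eq _).symm ▸ rfl, e,
    Set.ncard_union_eq ?_ (Set.toFinite _) (Set.toFinite _),
    Set.ncard_image_of_injective _ (mul_right_injective g), hc]
  rw [Set.disjoint_right]
  rintro _ ⟨s, hs, rfl⟩ h
  exact g_notMem S (by simpa using mul_mem h (inv_mem hs))

/-- An element outside the Sylow subgroup is again a swap. -/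
theorem SwapZ.outside {g y : G} (S : SwapZ F g) (hy : g⁻¹ * y ∈ F.syl) : SwapZ F y := by
  have hy' : y = g * (g⁻¹ * y) := (mul_inv_cancel_left _ _).symm
  have hc : ∀ u, u = t ∨ u = F.ι pZ → g⁻¹ * y * u * (g⁻¹ * y)⁻¹ = u := by
    intro u hu
    refine mul_inv_eq_iff_eq_mul.2 ?_
    rcases hu with rfl | rfl
    · exact mem_centralizer_singleton_iff.1 (F.syl_le hy)
    · obtain ⟨τ, hτ, e | e⟩ := F.mem_syl.1 hy <;> rw [e]
      · rw [← map_mul, ← map_mul, centre_comm (by simp [tCentre]) hτ]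
      · rw [← mul_assoc (F.ι pZ), ← (F.comm pZ).eq, mul_assoc t (F.ι τ), mul_assoc t (F.ι pZ),
          ← map_mul, ← map_mul, centre_comm (by simp [tCentre]) hτ]
  have hp : Pres F (g⁻¹ * y) := fun x hx => mul_mem (mul_mem hy hx) (inv_mem hy)
  refine ⟨hy' ▸ S.pres.mul hp, ?_, ?_, ?_⟩
  · calc y * t * y⁻¹ = g * (g⁻¹ * y * t * (g⁻¹ * y)⁻¹) * g⁻¹ := by group
      _ = _ := by rw [hc t (Or.inl rfl), S.move]
  · calc y * F.ι pZ * y⁻¹ = g * (g⁻¹ * y * F.ι pZ * (g⁻¹ * y)⁻¹) * g⁻¹ := by group
      _ = _ := by rw [hc _ (Or.inr rfl), S.fixz]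
  · rw [show y * y = g * (g⁻¹ * y) * g⁻¹ * (g * g) * (g⁻¹ * y) by group]
    exact mul_mem (mul_mem (S.pres _ hy) S.sq) hy

variable (hP : PatTwo F)
include hP

theorem two_generic {g : G} (S : SwapZ F g)
    (h4 : ∀ y, g⁻¹ * y ∈ F.syl → IsConj t y → 4 ∣ (orb (extSyl F S) y).ncard) :
    ∃ H' : Subgroup G, H'.index = 2 := by
  classical
  obtain ⟨j, p, i, k, hw, ha, hb⟩ := S.images hP
  set H := extSyl F S with hH
  set K0 : Subgroup G := tGroup.map F.ι with hK0
  have hK0le : K0 ≤ H := by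
    rintro _ ⟨σ, hσ, rfl⟩
    exact Or.inl (F.ι_mem_syl hσ)
  have hnorm : ∀ h ∈ H, ∀ x ∈ K0, h * x * h⁻¹ ∈ K0 := by
    have hgK : ∀ x ∈ K0, g * x * g⁻¹ ∈ K0 := by
      rintro _ ⟨σ, hσ, rfl⟩
      obtain ⟨β, γ, δ, η, rfl⟩ := exists_word hσ
      rw [conj_word_eq hP hw ha hb S.fixz]
      refine ⟨_, ?_, rfl⟩
      have m : ∀ (b : Bool) {τ : S6}, τ ∈ tList → bp b τ ∈ tGroup := by
        intro b τ hτ
        cases b
        · exact one_mem _
        · exact hτ
      exact mul_mem (mul_mem (mul_mem (m _ (word_mem _ _ _ _)) (m _ (word_mem _ _ _ _)))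
        (m _ (word_mem _ _ _ _))) (m _ pZ_mem)
    have hsK : ∀ s ∈ F.syl, ∀ x ∈ K0, s * x * s⁻¹ ∈ K0 := by
      rintro s hs _ ⟨σ, hσ, rfl⟩
      rcases conj_eq_of_syl hs hσ with e | e <;> rw [e]
      · exact ⟨σ, hσ, rfl⟩
      · exact ⟨σ * pZ, mul_mem (show σ ∈ tGroup from hσ) (show pZ ∈ tGroup from pZ_mem), map_mul _ _ _⟩
    rintro h (hh | hh) x hx
    · exact hsK h hh x hx
    · rw [show h * x * h⁻¹ = g * (g⁻¹ * h * x * (g⁻¹ * h)⁻¹) * g⁻¹ by group]
      exact hgK _ (hsK _ hh x hx)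
  haveI hN : (K0.subgroupOf H).Normal := ⟨fun n hn h => hnorm h h.2 n hn⟩
  have hcQ : Nat.card (H ⧸ K0.subgroupOf H) = 2 ^ 2 := by
    have h1 := (K0.subgroupOf H).card_eq_card_quotient_mul_card_subgroup
    rw [Nat.card_congr (subgroupOfEquivOfLe hK0le).toEquiv, hK0,
      Subgroup.card_map_of_injective F.inj, card_tGroup,
      show Nat.card H = 64 from card_extSyl S] at h1
    rw [← hK0] at h1
    omega
  haveI : Fact (Nat.Prime 2) := ⟨Nat.prime_two⟩
  letI : CommGroup (H ⧸ K0.subgroupOf H) :=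
    { (inferInstance : Group (H ⧸ K0.subgroupOf H)) with
      mul_comm := IsPGroup.commutative_of_card_eq_prime_sq hcQ }
  let φ : H →* H ⧸ K0.subgroupOf H := QuotientGroup.mk' _
  have hφ : ∀ (x y : G) (hx : x ∈ H) (hy : y ∈ H), φ ⟨x, hx⟩ = φ ⟨y, hy⟩ ↔ x⁻¹ * y ∈ K0 := by
    intro x y hx hy
    rw [QuotientGroup.mk'_apply, QuotientGroup.mk'_apply, QuotientGroup.eq]
    rfl
  have htH : t ∈ H := Or.inl F.self_mem_syl
  have hKι : ∀ {σ : S6}, σ ∈ tList → F.ι σ ∈ K0 := fun h => ⟨_, h, rfl⟩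
  have hε : φ ⟨t, htH⟩ ≠ 1 := by
    intro h
    rw [← map_one φ] at h
    have := (hφ t 1 htH (one_mem _)).1 h
    rw [mul_one, inv_mem_iff] at this
    obtain ⟨σ, -, e⟩ := this
    exact F.notmem σ e
  refine index_two_of_value φ (x := t) F.sq (M := 135) (by decide) hε ?_ ?_
  · have hset : conjOf (valSet φ (φ ⟨t, htH⟩)) t = {u | IsConj t u ∧ u ∈ F.syl} := by
      ext u
      constructor
      · rintro ⟨hD, hu, hv⟩
        refine ⟨hD, ?_⟩
        obtain ⟨σ, hσ, e⟩ := (hφ t u htH hu).1 hv.symm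
        rw [show u = t * (t⁻¹ * u) by group, ← e]
        exact F.x_ι_mem_syl hσ
      · rintro ⟨hD, hu⟩
        obtain ⟨σ, hσ, rfl⟩ := (two_members hP hu).1 hD
        refine ⟨hD, Or.inl hu, ((hφ t _ htH (Or.inl hu)).2 ?_).symm⟩
        rw [inv_mul_cancel_left]
        exact hKι (twoList_sub hσ)
    rw [hset, Nat.card_coe_set_eq, card_members hP, F.card_centralizer, card_extSyl S]
  · intro a h1 h2
    have hout : ∀ y ∈ conjOf (valSet φ a) t, g⁻¹ * y ∈ F.syl := by
      rintro y ⟨hD, hy, hv⟩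
      refine ((mem_extSyl S).1 hy).resolve_left fun hm => ?_
      obtain ⟨σ, hσ, e⟩ := (two_members hP hm).1 hD
      refine h1 ?_
      rw [← hv, hφ]
      rw [e, mul_inv_rev, F.inv_self, mul_assoc, F.sq, mul_one, inv_mem_iff]
      exact hKι (twoList_sub hσ)
    have h4' : 4 ∣ (conjOf (valSet φ a) t).ncard := by
      refine dvd_card_of_orb (H := H) fun y hy => ⟨?_, h4 y (hout y hy) hy.1⟩
      rintro u ⟨h, hh, rfl⟩
      refine ⟨hy.1.trans (isConj_iff.2 ⟨h, rfl⟩), ?_⟩
      have := (inv_valSet φ a h⁻¹ (inv_mem hh) y).2 hy.2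
      rwa [inv_inv] at this
    obtain ⟨c, hc⟩ := h4'
    refine ⟨90 * c, ⟨45 * c, by ring⟩, ?_⟩
    rw [Nat.card_coe_set_eq, hc, F.card_centralizer, card_extSyl S]
    ring

/-- The words fixed modulo the centre when the two pairs are exchanged. -/
def fixList : List S6 :=
  [1, pW, pA * (pB * pW), pW * (pA * (pB * pW)), pZ, pW * pZ, pA * (pB * pW) * pZ,
    pW * (pA * (pB * pW)) * pZ]

theorem two_swapped {g : G} (S : SwapZ F g) {j i k : Bool}
    (hw : g * F.ι pW * g⁻¹ = F.ι (word true false false j))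
    (ha : g * F.ι pA * g⁻¹ = F.ι (word false false true i))
    (hb : g * F.ι (pB * pW) * g⁻¹ = F.ι (word false true false k))
    {y : G} (hy : g⁻¹ * y ∈ F.syl) (hD : IsConj t y) : 4 ∣ (orb (extSyl F S) y).ncard := by
  classical
  set H := extSyl F S with hH
  have hyH : y ∈ H := Or.inr hy
  set C := H ⊓ centralizer ({y} : Set G) with hC
  set D := F.syl ⊓ centralizer ({y} : Set G) with hD'
  have hz2 : F.ι pZ * F.ι pZ = 1 := z_two
  have hSy := S.outside hy
  have key : ∀ (α β γ δ η : Bool), y * (gp α t * F.ι (word β γ δ η)) = gp α t * F.ι (word β γ δ η) * y →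
      word β γ δ η ∈ fixList ∧ γ = δ ∧ F.ι (word β γ δ η) * gp α (F.ι pZ) = y * F.ι (word β γ δ η) * y⁻¹ := by
    intro α β γ δ η hc
    have e1 : y * gp α t * y⁻¹ = gp α t * gp α (F.ι pZ) := by
      cases α
      · simp [gp]
      · exact hSy.move
    have e2 : y * (gp α t * F.ι (word β γ δ η)) * y⁻¹ = gp α t * F.ι (word β γ δ η) :=
      mul_inv_eq_iff_eq_mul.2 hc
    rw [← conj_mul, e1] at e2
    have e3 : gp α (F.ι pZ) * (y * F.ι (word β γ δ η) * y⁻¹) = F.ι (word β γ δ η) :=
      mul_left_cancel ((mul_assoc _ _ _).symm.trans e2)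
    obtain ⟨x, hx, rfl⟩ : ∃ x ∈ F.syl, y = g * x := ⟨_, hy, (mul_inv_cancel_left _ _).symm⟩
    have e4 : g * x * F.ι (word β γ δ η) * (g * x)⁻¹ =
        g * (x * F.ι (word β γ δ η) * x⁻¹) * g⁻¹ := by group
    have e5 : ∃ η', g * x * F.ι (word β γ δ η) * (g * x)⁻¹ =
        F.ι (bp β (word true false false j) * bp γ (word false false true i) *
          bp δ (word false true false k) * bp η' pZ) := by
      rcases conj_eq_of_syl hx (word_mem β γ δ η) with e | e
      · exact ⟨η, by rw [e4, e, conj_word_eq hP (p := true) hw ha hb S.fixz]; rfl⟩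
      · refine ⟨!η, ?_⟩
        rw [e4, e, ← map_mul, show word β γ δ η * pZ = word β γ δ (!η) by
          cases β <;> cases γ <;> cases δ <;> cases η <;> decide +kernel,
          conj_word_eq hP (p := true) hw ha hb S.fixz]
        rfl
    obtain ⟨η', e5⟩ := e5
    refine ⟨?_, ?_, ?_⟩
    rotate_right
    · calc F.ι (word β γ δ η) * gp α (F.ι pZ)
          = gp α (F.ι pZ) * (gp α (F.ι pZ) * (g * x * F.ι (word β γ δ η) * (g * x)⁻¹)) := by
            rw [e3]
            cases α
            · simp [gp]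
            · simp only [gp, cond_true]
              rw [← map_mul, ← map_mul, centre_comm (by simp [tCentre]) (word_mem _ _ _ _)]
        _ = _ := by
            rw [← mul_assoc]
            cases α <;> simp [gp, hz2]
    all_goals
      rw [e5] at e3
      have e6 : code (bp α pZ * (bp β (word true false false j) * bp γ (word false false true i) *
          bp δ (word false true false k) * bp η' pZ)) = code (word β γ δ η) := by
        congr 1
        refine F.inj ?_
        rw [map_mul, ← e3]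
        cases α
        · simp [gp, bp]
        · rfl
    · revert e6
      clear e3 e5 e2 e1 hc
      cases α <;> cases β <;> cases γ <;> cases δ <;> cases η <;> cases η' <;> cases j <;> cases i <;> cases k <;>
        first
          | (intro _; exact mem_of_code (by decide +kernel))
          | (intro e; exact absurd e (by decide +kernel))
    · revert e6
      clear e3 e5 e2 e1 hc
      cases γ <;> cases δ <;> first
        | (intro _; rfl)
        | (cases α <;> cases β <;> cases η <;> cases η' <;> cases j <;> cases i <;> cases k <;>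
            (intro e; exact absurd e (by decide +kernel)))
  have hD8 : Nat.card D ≤ 8 := by
    have h : ∀ x : D, ∃ α β γ δ η, (x : G) = gp α t * F.ι (word β γ δ η) := fun x => mem_syl_word x.2.1
    choose α β γ δ η he using h
    have hk := fun x : D => key (α x) (β x) (γ x) (δ x) (η x)
      (by rw [← he x]; exact (mem_centralizer_singleton_iff.1 x.2.2).symm)
    let f : D → {σ // σ ∈ fixList.toFinset} := fun x =>
      ⟨word (β x) (γ x) (δ x) (η x), List.mem_toFinset.2 (hk x).1⟩
    have hf : Function.Injective f := by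
      intro a b hab
      have hab' : word (β a) (γ a) (δ a) (η a) = word (β b) (γ b) (δ b) (η b) := congrArg Subtype.val hab
      have hαβ : α a = α b := by
        have h1 := (hk a).2.2
        have h2 := (hk b).2.2
        rw [hab'] at h1
        have h3 := mul_left_cancel (h1.trans h2.symm)
        revert h3
        cases α a <;> cases α b <;> intro h3 <;> first | rfl | exact absurd h3 (by simp [gp, z_ne_one, Ne.symm z_ne_one])
      exact Subtype.ext (by rw [he a, he b, hαβ, hab'])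
    refine (Nat.card_le_card_of_injective f hf).trans ?_
    rw [Nat.card_eq_fintype_card, Fintype.card_coe]
    exact List.toFinset_card_le _
  have hC16 : Nat.card C ≤ 2 * Nat.card D := by
    have hgy : ∀ c ∈ C, c ∉ F.syl → y⁻¹ * c ∈ D := by
      intro c hc hn
      refine ⟨?_, mem_centralizer_singleton_iff.2 ?_⟩
      · show y⁻¹ * c ∈ F.syl
        rw [show y⁻¹ * c = (g⁻¹ * y)⁻¹ * (g⁻¹ * c) by group]
        exact mul_mem (inv_mem hy) (((mem_extSyl S).1 hc.1).resolve_left hn)
      · have := mem_centralizer_singleton_iff.1 hc.2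
        rw [mul_assoc, this]; group
    let f : C → Bool × D := fun c =>
      if h : (c : G) ∈ F.syl then (false, ⟨c, h, c.2.2⟩) else (true, ⟨y⁻¹ * c, hgy c c.2 h⟩)
    have hf : Function.Injective f := by
      intro a b hab
      by_cases h1 : (a : G) ∈ F.syl <;> by_cases h2 : (b : G) ∈ F.syl <;>
        simp only [f, dif_pos, dif_neg, h1, h2, not_false_iff, Prod.mk.injEq] at hab
      · exact Subtype.ext (congrArg (fun z : D => (z : G)) hab.2 :)
      · exact absurd hab.1 (by decide)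
      · exact absurd hab.1 (by decide)
      · exact Subtype.ext (mul_left_cancel (congrArg (fun z : D => (z : G)) hab.2 :))
    refine (Nat.card_le_card_of_injective f hf).trans ?_
    rw [Nat.card_prod, Nat.card_eq_fintype_card, Fintype.card_bool]
  have hoc := orb_card H y
  rw [card_extSyl S, ← hC] at hoc
  obtain ⟨n, hn, e6⟩ := (Nat.dvd_prime_pow Nat.prime_two).1
    (show (orb H y).ncard ∣ 2 ^ 6 from ⟨_, hoc.symm⟩)
  rw [e6]
  have hn2 : 2 ≤ n := by
    by_contra hcon
    have h2n : (orb H y).ncard ≤ 2 := by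
      rw [e6]
      exact le_trans (Nat.pow_le_pow_right (by norm_num) (show n ≤ 1 by omega)) (le_refl _)
    have := Nat.mul_le_mul h2n (hC16.trans (Nat.mul_le_mul_left 2 hD8))
    omega
  exact pow_dvd_pow 2 hn2

end Cfsg.Agent.SixInv
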