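import Mathlib.GroupTheory.OrderOfElement
import Mathlib.Tactic.Group

/-!
A group presented by a normal form: each generator normalises the span of the later ones and has its
square there. Elements are coded by numbers, bit `i` standing for the `i`-th generator.
-/

set_option autoImplicit false
set_option linter.unusedSectionVars false

namespace Cfsg.Agent.SixInv.Tower

/-- The square of a generator and the images of the later generators under it. -/
abbrev Rel : Type := ℕ × List ℕ

/-- The product of the images of the set bits. -/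
def pw (m : ℕ → ℕ → ℕ) : List ℕ → ℕ → ℕ
  | [], _ => 0
  | i :: is, x => if x % 2 = 1 then m i (pw m is (x / 2)) else pw m is (x / 2)

/-- The product of codes. -/
def mulC : List Rel → ℕ → ℕ → ℕ
  | [], _, _ => 0
  | r :: rs, x, y =>
    if y = 0 then x
    else if x = 0 then y
    else
      (x % 2 + y % 2) % 2 + 2 *
        (if x % 2 = 1 ∧ y % 2 = 1 then
          mulC rs r.1 (mulC rs (pw (mulC rs) r.2 (x / 2)) (y / 2))
        else if y % 2 = 1 then mulC rs (pw (mulC rs) r.2 (x / 2)) (y / 2)
        else mulC rs (x / 2) (y / 2))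

variable {G : Type*} [Group G]

/-- The element with a given code. -/
def val : List G → ℕ → G
  | [], _ => 1
  | g :: gs, x => (if x % 2 = 1 then g else 1) * val gs (x / 2)

/-- The relations hold. -/
def Holds : List G → List Rel → Prop
  | [], [] => True
  | g :: gs, r :: rs =>
    g * g = val gs r.1 ∧ List.Forall₂ (fun h i => g⁻¹ * h * g = val gs i) gs r.2 ∧ Holds gs rs
  | _, _ => False

theorem val_zero : ∀ gs : List G, val gs 0 = 1
  | [] => rfl
  | g :: gs => by simp [val, val_zero gs]

theorem val_pw {m : ℕ → ℕ → ℕ} {gs : List G} (hm : ∀ x y, val gs (m x y) = val gs x * val gs y)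
    {g : G} : ∀ {hs : List G} {is : List ℕ}, List.Forall₂ (fun h i => g⁻¹ * h * g = val gs i) hs is →
      ∀ x, val gs (pw m is x) = g⁻¹ * val hs x * g := by
  intro hs is h
  induction h with
  | nil => intro x; simp [pw, val, val_zero]
  | @cons a b as bs hab _ ih =>
    intro x
    simp only [pw, val]
    split_ifs with hx
    · rw [hm, ih, ← hab]; group
    · rw [ih, one_mul]

theorem val_mulC : ∀ {gs : List G} {rs : List Rel}, Holds gs rs →
    ∀ x y, val gs (mulC rs x y) = val gs x * val gs y
  | [], [], _, _, _ => by simp [val]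
  | [], _ :: _, h, _, _ => h.elim
  | _ :: _, [], h, _, _ => h.elim
  | g :: gs, r :: rs, h, x, y => by
    obtain ⟨hsq, himg, hrest⟩ := h
    have ih := val_mulC hrest
    have hp := val_pw ih himg
    have hv : ∀ u v n, val (g :: gs) ((u % 2 + v % 2) % 2 + 2 * n) =
        (if (u % 2 + v % 2) % 2 = 1 then g else 1) * val gs n := fun u v n => by
      rw [val, show ((u % 2 + v % 2) % 2 + 2 * n) % 2 = (u % 2 + v % 2) % 2 by omega,
        show ((u % 2 + v % 2) % 2 + 2 * n) / 2 = n by omega]
    simp only [mulC]
    split_ifs with hy hx h1 h2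
    · rw [hy, val_zero, mul_one]
    · rw [hx, val_zero, one_mul]
    · rw [hv, if_neg (by omega), ih, ih, hp, ← hsq, val, val, if_pos h1.1, if_pos h1.2]
      group
    · have hx2 : ¬ x % 2 = 1 := fun c => h1 ⟨c, h2⟩
      rw [hv, if_pos (by omega), ih, hp, val, val, if_neg hx2, if_pos h2]
      group
    · rw [hv, ih, val, val, if_neg h2, one_mul, show (x % 2 + y % 2) % 2 = x % 2 by omega, mul_assoc]

/-- All entries of the relations are codes of the later generators. -/
def Bounded : List Rel → Bool
  | [] => true
  | r :: rs => decide (r.1 < 2 ^ rs.length) && r.2.all (fun i => decide (i < 2 ^ rs.length)) && Bounded rs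

theorem pw_lt {m : ℕ → ℕ → ℕ} {N : ℕ} (hN : 0 < N) (hm : ∀ a b, a < N → b < N → m a b < N) :
    ∀ {is : List ℕ}, (∀ i ∈ is, i < N) → ∀ x, pw m is x < N
  | [], _, _ => by simpa [pw] using hN
  | i :: is, h, x => by
    simp only [pw]
    have ih := pw_lt hN hm (fun j hj => h j (List.mem_cons_of_mem _ hj)) (x / 2)
    split_ifs
    · exact hm _ _ (h i (List.mem_cons_self ..)) ih
    · exact ih

theorem mulC_lt : ∀ {rs : List Rel}, Bounded rs = true → ∀ x y, x < 2 ^ rs.length → y < 2 ^ rs.length →
    mulC rs x y < 2 ^ rs.length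
  | [], _, _, _, _, _ => by simp [mulC]
  | r :: rs, h, x, y, hx, hy => by
    simp only [Bounded, Bool.and_eq_true, decide_eq_true_iff, List.all_eq_true] at h
    obtain ⟨⟨hsq, himg⟩, hrest⟩ := h
    simp only [List.length_cons, pow_succ] at hx hy ⊢
    have ih := mulC_lt hrest
    have hp := fun z => pw_lt (Nat.two_pow_pos rs.length) ih himg z
    have hx' : x / 2 < 2 ^ rs.length := by omega
    have hy' : y / 2 < 2 ^ rs.length := by omega
    simp only [mulC]
    split_ifs
    · exact hx
    · exact hy
    · have := ih _ _ hsq (ih _ _ (hp (x / 2)) hy')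
      omega
    · have := ih _ _ (hp (x / 2)) hy'
      omega
    · have := ih _ _ hx' hy'
      omega

/-- No nonzero code stands for the unit. -/
def TrivKer (gs : List G) : Prop := ∀ x < 2 ^ gs.length, val gs x = 1 → x = 0

theorem length_eq : ∀ {gs : List G} {rs : List Rel}, Holds gs rs → gs.length = rs.length
  | [], [], _ => rfl
  | [], _ :: _, h => h.elim
  | _ :: _, [], h => h.elim
  | g :: gs, r :: rs, h => by simp [length_eq h.2.2]

/-- The elements with a code form a subgroup. -/
noncomputable def span [Finite G] {gs : List G} {rs : List Rel} (h : Holds gs rs)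
    (hb : Bounded rs = true) : Subgroup G := by
  let M : Submonoid G :=
    { carrier := {g | ∃ x < 2 ^ rs.length, val gs x = g}
      one_mem' := ⟨0, Nat.two_pow_pos _, val_zero gs⟩
      mul_mem' := by
        rintro a b ⟨x, hx, rfl⟩ ⟨y, hy, rfl⟩
        exact ⟨mulC rs x y, mulC_lt hb x y hx hy, val_mulC h x y⟩ }
  exact
    { M with
      inv_mem' := fun {a} ha => by
        obtain ⟨n, hn, he⟩ := (isOfFinOrder_iff_pow_eq_one).1 (isOfFinOrder_of_finite a)
        have : a⁻¹ = a ^ (n - 1) := by
          refine inv_eq_of_mul_eq_one_left ?_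
          rw [← pow_succ, show n - 1 + 1 = n by omega, he]
        show a⁻¹ ∈ M
        rw [this]
        exact pow_mem ha _ }

theorem mem_span [Finite G] {gs : List G} {rs : List Rel} (h : Holds gs rs) (hb : Bounded rs = true)
    {g : G} : g ∈ span h hb ↔ ∃ x < 2 ^ rs.length, val gs x = g := Iff.rfl

theorem val_inj [Finite G] : ∀ {gs : List G} {rs : List Rel}, Holds gs rs → Bounded rs = true → TrivKer gs →
    ∀ x y, x < 2 ^ gs.length → y < 2 ^ gs.length → val gs x = val gs y → x = y
  | [], [], _, _, _, x, y, hx, hy, _ => by simp at hx hy; omega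
  | [], _ :: _, h, _, _, _, _, _, _, _ => h.elim
  | _ :: _, [], h, _, _, _, _, _, _, _ => h.elim
  | g :: gs, r :: rs, h, hb, hk, x, y, hx, hy, e => by
    have hrest : Holds gs rs := h.2.2
    have hb' : Bounded rs = true := by
      simp only [Bounded, Bool.and_eq_true] at hb; exact hb.2
    have hlen := length_eq hrest
    have hk' : TrivKer gs := fun z hz hv => by
      have h1 : 2 * z < 2 ^ (g :: gs).length := by
        simp only [List.length_cons, pow_succ]; omega
      have h2 := hk (2 * z) h1 (by
        simp only [val, Nat.mul_mod_right, zero_ne_one, if_false, one_mul]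
        rw [Nat.mul_div_cancel_left z (by norm_num)]; exact hv)
      omega
    have hout : ∀ z, z < 2 ^ rs.length → g ≠ val gs z := fun z hz hv => by
      have hm : g⁻¹ ∈ span hrest hb' := inv_mem ((mem_span hrest hb').2 ⟨z, hz, hv.symm⟩)
      obtain ⟨w, hw, hwv⟩ := (mem_span hrest hb').1 hm
      have h1 : 2 * w + 1 < 2 ^ (g :: gs).length := by
        simp only [List.length_cons, pow_succ, hlen]; omega
      have h2 := hk (2 * w + 1) h1 (by
        simp only [val, show (2 * w + 1) % 2 = 1 by omega, show (2 * w + 1) / 2 = w by omega, if_true, hwv,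
          mul_inv_cancel])
      omega
    simp only [List.length_cons, pow_succ] at hx hy
    have hx' : x / 2 < 2 ^ gs.length := by omega
    have hy' : y / 2 < 2 ^ gs.length := by omega
    have key : ∀ a b, a < 2 ^ gs.length → b < 2 ^ gs.length → g * val gs a ≠ val gs b := by
      intro a b ha hb2 he
      rw [hlen] at ha hb2
      have hm : g ∈ span hrest hb' := by
        rw [show g = val gs b * (val gs a)⁻¹ by rw [← he]; group]
        exact mul_mem ((mem_span hrest hb').2 ⟨b, hb2, rfl⟩)
          (inv_mem ((mem_span hrest hb').2 ⟨a, ha, rfl⟩))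
      obtain ⟨c, hc, hcv⟩ := (mem_span hrest hb').1 hm
      exact hout c hc hcv.symm
    simp only [val] at e
    rcases Nat.mod_two_eq_zero_or_one x with a | a <;> rcases Nat.mod_two_eq_zero_or_one y with b | b <;>
      simp only [a, b, if_true, zero_ne_one, if_false, one_mul] at e
    · have := val_inj hrest hb' hk' _ _ hx' hy' e; omega
    · exact absurd e.symm (key _ _ hy' hx')
    · exact absurd e (key _ _ hx' hy')
    · have := val_inj hrest hb' hk' _ _ hx' hy' (mul_left_cancel e); omega

/-- The bit `i` alone stands for the `i`-th generator. -/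
theorem val_two_pow : ∀ {gs : List G} {i : ℕ} (hi : i < gs.length), val gs (2 ^ i) = gs[i]
  | g :: gs, 0, _ => by simp [val, val_zero]
  | g :: gs, i + 1, hi => by
    have h : 2 ^ (i + 1) % 2 = 0 := by rw [pow_succ]; omega
    have h' : 2 ^ (i + 1) / 2 = 2 ^ i := by rw [pow_succ]; omega
    simp only [val, h, h', zero_ne_one, if_false, one_mul, List.getElem_cons_succ]
    exact val_two_pow (Nat.lt_of_succ_lt_succ hi)

end Cfsg.Agent.SixInv.Tower
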