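import Cfsg.Agent.Lib.SixInv.TwoMembers

/-!
The pattern of type two: a model of order 64 and the parity of its members.
-/

set_option autoImplicit false
set_option linter.unusedSectionVars false
set_option maxRecDepth 100000

namespace Cfsg.Agent.SixInv

open Subgroup

/-- `σ` or one. -/
def bp (b : Bool) (σ : S6) : S6 := bif b then σ else 1

/-- The word `w^β a^γ (b w)^δ z^η`. -/
def word (β γ δ η : Bool) : S6 := bp β pW * bp γ pA * bp δ (pB * pW) * bp η pZ

theorem word_mem (β γ δ η : Bool) : word β γ δ η ∈ tList := by
  revert β γ δ η
  have : ([false, true].all fun β => [false, true].all fun γ => [false, true].all fun δ => [false, true].all fun η =>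
      (tList.map code).contains (code (word β γ δ η))) = true := by decide +kernel
  intro β γ δ η
  have mem : ∀ b : Bool, b ∈ [false, true] := by decide
  exact mem_of_code (List.all_eq_true.1 (List.all_eq_true.1 (List.all_eq_true.1
    (List.all_eq_true.1 this β (mem β)) γ (mem γ)) δ (mem δ)) η (mem η))

theorem exists_word {σ : S6} (h : σ ∈ tList) : ∃ β γ δ η, σ = word β γ δ η := by
  have key : (tList.all fun σ => [false, true].any fun β => [false, true].any fun γ =>
      [false, true].any fun δ => [false, true].any fun η => code σ == code (word β γ δ η)) = true := by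
    decide +kernel
  have h1 := List.all_eq_true.1 key σ h
  simp only [List.any_eq_true, beq_iff_eq] at h1
  obtain ⟨β, -, γ, -, δ, -, η, -, e⟩ := h1
  exact ⟨β, γ, δ, η, code_injective e⟩

theorem word_mul (β γ δ η β' γ' δ' η' : Bool) :
    word β γ δ η * word β' γ' δ' η' =
      word (xor β β') (xor γ γ') (xor δ δ') (xor (xor η η') (δ && γ')) := by
  refine code_injective ?_
  cases β <;> cases γ <;> cases δ <;> cases η <;> cases β' <;> cases γ' <;> cases δ' <;> cases η' <;>
    decide +kernel

theorem word_inj {β γ δ η β' γ' δ' η' : Bool} (h : word β γ δ η = word β' γ' δ' η') :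
    β = β' ∧ γ = γ' ∧ δ = δ' ∧ η = η' := by
  have h' := congrArg code h
  revert h'
  clear h
  cases β <;> cases γ <;> cases δ <;> cases η <;> cases β' <;> cases γ' <;> cases δ' <;> cases η' <;>
    decide +kernel

/-- An element of the group of order 64. -/
structure V6 where
  al : Bool
  be : Bool
  ga : Bool
  de : Bool
  et : Bool
  e : Bool
deriving DecidableEq

namespace V6

/-- The product, with twisting parameters. -/
def mul (i j : Bool) (x y : V6) : V6 :=
  ⟨xor x.al y.al, xor x.be y.be, xor x.ga y.ga, xor x.de y.de,
    xor (xor (xor x.et y.et) (x.de && y.ga))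
      (x.e && xor (xor y.al (j && y.be)) (xor y.ga (i && y.de))),
    xor x.e y.e⟩

/-- Flipping the central coordinate. -/
def flip (x : V6) : V6 := { x with et := !x.et }

def bools : List Bool := [false, true]

/-- All elements. -/
def all : List V6 :=
  bools.flatMap fun a => bools.flatMap fun b => bools.flatMap fun c => bools.flatMap fun d =>
    bools.flatMap fun f => bools.map fun e => ⟨a, b, c, d, f, e⟩

theorem mem_all (x : V6) : x ∈ all := by
  obtain ⟨a, b, c, d, f, e⟩ := x
  cases a <;> cases b <;> cases c <;> cases d <;> cases f <;> cases e <;> decide

theorem forall_of_all {P : V6 → Prop} [DecidablePred P] (h : (all.all fun x => decide (P x)) = true)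
    (x : V6) : P x := of_decide_eq_true (List.all_eq_true.1 h x (mem_all x))

/-- The unit. -/
def one : V6 := ⟨false, false, false, false, false, false⟩

/-- The six members inside. -/
def inner : List V6 :=
  [⟨true, false, false, false, false, false⟩, ⟨true, false, false, false, true, false⟩,
    ⟨true, false, true, false, false, false⟩, ⟨true, false, true, false, true, false⟩,
    ⟨true, false, false, true, false, false⟩, ⟨true, false, false, true, true, false⟩]

/-- The involutions outside, one for each pair. -/
def reps (i j : Bool) : List V6 :=
  all.filter fun x => x.e && !x.et && decide (mul i j x x = one)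

/-- Whether two elements commute. -/
def comm (i j : Bool) (x y : V6) : Bool := decide (mul i j x y = mul i j y x)

/-- All lists of eight truth values. -/
def allB : ℕ → List (List Bool)
  | 0 => [[]]
  | n + 1 => bools.flatMap fun b => (allB n).map fun l => b :: l

theorem mem_allB : ∀ l : List Bool, l ∈ allB l.length
  | [] => by simp [allB]
  | b :: l => by
    simp only [List.length_cons, allB, List.mem_flatMap, List.mem_map]
    exact ⟨b, by cases b <;> simp [bools], l, mem_allB l, rfl⟩

/-- Counting the marked elements of a list. -/
def cntSel (p : V6 → Bool) : List V6 → List Bool → ℕ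
  | x :: xs, b :: bs => (if b && p x then 1 else 0) + cntSel p xs bs
  | _, _ => 0

theorem cntSel_map (p D : V6 → Bool) : ∀ l : List V6,
    cntSel p l (l.map D) = l.countP (fun x => D x && p x)
  | [] => rfl
  | x :: xs => by
    rw [List.map_cons, cntSel, cntSel_map p D xs, List.countP_cons, add_comm]

/-- A consistent selection has an odd number of pairs. -/
def okSel (i j : Bool) (l : List Bool) : Bool :=
  ((reps i j).zip l).any (fun p => p.2 &&
    (inner.countP (fun x => comm i j x p.1) + 2 * cntSel (fun x => comm i j x p.1) (reps i j) l != 6)) ||
  cntSel (fun _ => true) (reps i j) l % 2 == 1 ||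
  inner.any (fun u =>
    inner.countP (fun x => comm i j x u) +
      2 * cntSel (fun x => comm i j x u) (reps i j) l != 6)

theorem okSel_all : ([false, true].all fun i => [false, true].all fun j =>
    (allB (reps i j).length).all fun l => okSel i j l) = true := by
  decide +kernel

end V6

end Cfsg.Agent.SixInv
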