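import Cfsg.Agent.Lib.SixInv.Basic

/-!
The pattern of type two: the members of the class in the Sylow subgroup of the centraliser.
-/

set_option autoImplicit false
set_option linter.unusedSectionVars false
set_option maxRecDepth 100000

namespace Cfsg.Agent.SixInv

open Subgroup

/-- The class members of the Sylow subgroup, pattern two. -/
def twoList : List S6 := [1, pZ, pA, pA * pZ, pB * pW, pC * pW]

theorem cycleType_one_ne {σ : S6} (hσ : σ ∈ tList) (h : σ * σ = 1) :
    σ ∈ twoList ∨ IsConj pW σ ∨ IsConj pT σ := by
  have key : (tList.all fun σ => code (σ * σ) != code 1 || (twoList.map code).contains (code σ) ||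
      ([pB, pC, pW].map code).contains (code σ) ||
      ([pT, pA * pW, pA * pZ * pW].map code).contains (code σ)) = true := by decide +kernel
  have h1 := List.all_eq_true.1 key σ hσ
  simp only [Bool.or_eq_true, bne_iff_ne] at h1
  rcases h1 with ((e | e) | e) | e
  · exact absurd (congrArg code h) e
  · exact Or.inl (mem_of_code e)
  · refine Or.inr (Or.inl ?_)
    have := mem_of_code e
    simp only [List.mem_cons, List.not_mem_nil, or_false] at this
    rcases this with rfl | rfl | rfl <;>
      exact Equiv.Perm.isConj_iff_cycleType_eq.2 (by decide +kernel)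
  · refine Or.inr (Or.inr ?_)
    have := mem_of_code e
    simp only [List.mem_cons, List.not_mem_nil, or_false] at this
    rcases this with rfl | rfl | rfl <;>
      exact Equiv.Perm.isConj_iff_cycleType_eq.2 (by decide +kernel)

theorem twoList_conj {σ : S6} (h : σ ∈ twoList) : σ = 1 ∨ IsConj pZ σ := by
  simp only [twoList, List.mem_cons, List.not_mem_nil, or_false] at h
  rcases h with rfl | h
  · exact Or.inl rfl
  · refine Or.inr ?_
    rcases h with rfl | rfl | rfl | rfl | rfl <;>
      exact Equiv.Perm.isConj_iff_cycleType_eq.2 (by decide +kernel)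

theorem twoList_sub {σ : S6} (h : σ ∈ twoList) : σ ∈ tList := by
  have key : (twoList.all fun σ => (tList.map code).contains (code σ)) = true := by decide +kernel
  exact mem_of_code (List.all_eq_true.1 key σ h)

variable {G : Type*} [Group G] [Finite G]

theorem mul_ι_injective {x : G} (F : Fr x) : Function.Injective fun σ => x * F.ι σ :=
  fun _ _ h => F.x_mul_inj h

section Members

variable {t : G} {F : Fr t} (hP : PatTwo F)
include hP

theorem two_members {u : G} (hu : u ∈ F.syl) :
    IsConj t u ↔ ∃ σ ∈ twoList, u = t * F.ι σ := by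
  constructor
  · intro hD
    rcases classify F (mem_centralizer_singleton_iff.1 (F.syl_le hu)) hD with e | ⟨σ, h2, h1, e⟩
    · exact ⟨1, by simp [twoList], by rw [e, map_one, mul_one]⟩
    rcases e with e | e
    · exfalso
      rcases class_cases σ h2 h1 with c | c | c
      · exact hP.a (hD.trans (e ▸ (isConj_map F c).symm))
      · exact z_not_conj F (hD.trans (e ▸ (isConj_map F c).symm))
      · exact hP.f (hD.trans (e ▸ (isConj_map F c).symm))
    · have hσ : σ ∈ tList := by
        obtain ⟨τ, hτ, e' | e'⟩ := F.mem_syl.1 hu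
        · exact absurd (e.symm.trans e') (F.x_mul_ne _ _)
        · exact F.x_mul_inj (e.symm.trans e') ▸ hτ
      rcases cycleType_one_ne hσ h2 with c | c | c
      · exact ⟨σ, c, e⟩
      · exact absurd (hD.trans (e ▸ (isConj_mul_map F c).symm)) hP.b
      · exact absurd (hD.trans (e ▸ (isConj_mul_map F c).symm)) hP.h
  · rintro ⟨σ, hσ, rfl⟩
    rcases twoList_conj hσ with rfl | c
    · rw [map_one, mul_one]
    · exact hP.e.trans (isConj_mul_map F c)

theorem card_members : {u | IsConj t u ∧ u ∈ F.syl}.ncard = 6 := by
  classical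
  have e : {u | IsConj t u ∧ u ∈ F.syl} = (fun σ => t * F.ι σ) '' (twoList.toFinset : Set S6) := by
    ext u
    simp only [Set.mem_ofPred_eq, Set.mem_image, List.coe_toFinset]
    constructor
    · rintro ⟨hD, hu⟩
      obtain ⟨σ, hσ, e⟩ := (two_members hP hu).1 hD
      exact ⟨σ, hσ, e.symm⟩
    · rintro ⟨σ, hσ, rfl⟩
      have hu := F.x_ι_mem_syl (twoList_sub hσ)
      exact ⟨(two_members hP hu).2 ⟨σ, hσ, rfl⟩, hu⟩
  rw [e, Set.ncard_image_of_injective _ (mul_ι_injective F), Set.ncard_coe_finset,
    List.toFinset_card_of_nodup (List.Nodup.of_map code (by decide +kernel))]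
  rfl

theorem two_cen {q : G} (hq : Cen F q) : q = t ∨ q = t * F.ι pZ := by
  rcases classify_cen F hq with e | ⟨h, -⟩ | ⟨h, -⟩ | ⟨-, e⟩ | ⟨h, -⟩ | ⟨h, -⟩
  · exact Or.inl e
  · exact absurd h hP.a
  · exact absurd h hP.b
  · exact Or.inr e
  · exact absurd h hP.f
  · exact absurd h hP.h

end Members

end Cfsg.Agent.SixInv
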